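import Mathlib
import Cfsg.Agent.Nodes.OppDec
set_option linter.all false

/-!
Levi decomposition of parabolic subgroups for root group data (project CIT, chart library).

`J : Set I`; `LJ` Levi subgroup, `VJ` unipotent radical, `VNJ` the opposite unipotent radical, `PJ = LJ ⊔ VJ`.
* `mem_PJ : g ∈ PJ ↔ ∃ l ∈ LJ, ∃ v ∈ VJ, g = l * v`; `mem_PJ_iff_cell`; `eq_PJ` (overgroups of `B` in `GG`);
* `PJ ⊓ VNJ = ⊥`, `LJ ⊓ VJ = ⊥`, `LJ ⊓ VNJ = ⊥`, `PJ ⊓ PNJ = LJ`.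
-/

set_option autoImplicit false
set_option linter.unusedSectionVars false

namespace Cfsg.Agent.Nodes.LeviDec

open CoxeterSystem Cfsg.Agent.ChevalleyStructure.CoxeterGeom Cfsg.Agent.Tits.Roots Cfsg.Agent.Tits.Core
  Cfsg.Agent.Tits.Exchange Cfsg.Agent.Nodes.Reps Cfsg.Agent.Nodes.BNOf Cfsg.Agent.Nodes.StabComb
  Cfsg.Agent.Nodes.Bruhat Cfsg.Agent.Nodes.OppDec
open scoped commutatorElement

variable {I W Y : Type*} [Fintype I] [DecidableEq I] [Group W] [Group Y] {M : CoxeterMatrix I}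
  {cs : CoxeterSystem M W} {A : I → I → ℤ} {h : IsCartan M A} {p : ℕ} {T : Subgroup Y} {n : I → Y}
  {X : (I → ℤ) → Subgroup Y}

/-- the negatives of the positive roots outside `J` -/
def NotNJ (cs : CoxeterSystem M W) (h : IsCartan M A) (J : Set I) : Set (I → ℤ) := {x | -x ∈ NotJ cs h J}

/-- the unipotent radical of `PJ` -/
def VJ (cs : CoxeterSystem M W) (h : IsCartan M A) (X : (I → ℤ) → Subgroup Y) (J : Set I) : Subgroup Y :=
  RGD.Sup X (NotJ cs h J)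

/-- the opposite unipotent radical -/
def VNJ (cs : CoxeterSystem M W) (h : IsCartan M A) (X : (I → ℤ) → Subgroup Y) (J : Set I) : Subgroup Y :=
  RGD.Sup X (NotNJ cs h J)

/-- the parabolic subgroup -/
def PJ (cs : CoxeterSystem M W) (h : IsCartan M A) (T : Subgroup Y) (X : (I → ℤ) → Subgroup Y) (J : Set I) :
    Subgroup Y := LJ cs h T X J ⊔ VJ cs h X J

/-- the opposite parabolic subgroup -/
def PNJ (cs : CoxeterSystem M W) (h : IsCartan M A) (T : Subgroup Y) (X : (I → ℤ) → Subgroup Y) (J : Set I) :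
    Subgroup Y := LJ cs h T X J ⊔ VNJ cs h X J

theorem NotNJ.isRoot {J : Set I} {x : I → ℤ} (hx : x ∈ NotNJ cs h J) : IsRoot cs h x := by
  have h1 : IsRoot cs h (-x) := hx.1
  have := h1.neg
  rwa [neg_neg] at this

theorem NotNJ.act {J : Set I} {w : W} (hw : w ∈ WJ cs J) {x : I → ℤ} (hx : x ∈ NotNJ cs h J) :
    rep cs h w x ∈ NotNJ cs h J := by
  change -rep cs h w x ∈ NotJ cs h J
  rw [← map_neg]
  exact NotJ.act hw hx

theorem VJ_le_U (J : Set I) : VJ cs h X J ≤ RGD.Sup X (RGD.Pos cs h) :=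
  RGD.Sup_mono fun _ hx => ⟨hx.1, hx.2.1⟩

theorem VNJ_le_UN (J : Set I) : VNJ cs h X J ≤ UN cs h X :=
  RGD.Sup_mono fun _ hx => ⟨NotNJ.isRoot hx, neg_nonneg.1 hx.2.1⟩

theorem VJ_le_B (J : Set I) : VJ cs h X J ≤ RGD.B cs h T X := le_trans (VJ_le_U J) RGD.U_le_B

theorem LJ_le_PJ {J : Set I} : LJ cs h T X J ≤ PJ cs h T X J := le_sup_left

theorem VJ_le_PJ {J : Set I} : VJ cs h X J ≤ PJ cs h T X J := le_sup_right

theorem B_le_PJ {J : Set I} : RGD.B cs h T X ≤ PJ cs h T X J := by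
  refine sup_le (le_trans T_le_LJ LJ_le_PJ) (RGD.Sup_le fun x hx => ?_)
  rcases mem_PosJ_or_NotJ J hx.1 hx.2 with h1 | h1
  · exact le_trans (X_le_LJ (PosJ_subset J h1)) LJ_le_PJ
  · exact le_trans (RGD.le_Sup h1) VJ_le_PJ

theorem PJ_le_GG {J : Set I} : PJ cs h T X J ≤ GG cs h T X :=
  sup_le LJ_le_GG (RGD.Sup_le fun _ hx => X_le_GG hx.1)

/-- intervals between roots of `J` and roots outside `J` -/
theorem btwn_NotJ {J : Set I} {x y z : I → ℤ} (hx : x ∈ RootsJ cs h J) (hy : y ∈ NotJ cs h J)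
    (hz : Btwn cs h x y z) : z ∈ NotJ cs h J := by
  obtain ⟨hyr, hy0, k, hk, hk0⟩ := hy
  have h1 : 0 < z k := btwn_apply_pos hz.symm hk0 (by rw [hx.2 k hk])
  exact ⟨hz.1, nonneg_of_pos_apply hz.1 h1, k, hk, h1⟩

theorem btwn_neg {x y z : I → ℤ} (hz : Btwn cs h x y z) : Btwn cs h (-x) (-y) (-z) := by
  obtain ⟨hr, m, a, b, hm, ha, hb, e⟩ := hz
  exact ⟨hr.neg, m, a, b, hm, ha, hb, by rw [smul_neg, e, smul_neg, smul_neg, neg_add]⟩

theorem btwn_NotNJ {J : Set I} {x y z : I → ℤ} (hx : x ∈ RootsJ cs h J) (hy : y ∈ NotNJ cs h J)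
    (hz : Btwn cs h x y z) : z ∈ NotNJ cs h J :=
  btwn_NotJ (RootsJ.neg hx) hy (btwn_neg hz)

theorem ne_neg_of_NotJ {J : Set I} {x y : I → ℤ} (hx : x ∈ RootsJ cs h J) (hy : y ∈ NotJ cs h J) : x ≠ -y := by
  obtain ⟨-, -, k, hk, hk0⟩ := hy
  intro h1
  have h2 := congrFun h1 k
  rw [hx.2 k hk, Pi.neg_apply] at h2
  omega

variable (R : RGD cs h p T n X)

include R

theorem LJ_le_normalizer_VJ (J : Set I) : LJ cs h T X J ≤ Subgroup.normalizer (VJ cs h X J : Set Y) := by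
  refine sup_le (R.T_le_normalizer fun _ hx => hx.1) (RGD.Sup_le fun x hx => ?_)
  refine R.le_normalizer hx.1 fun y hy => ⟨hy.1, Or.inr ⟨ne_neg_of_NotJ hx hy, fun z hz => btwn_NotJ hx hy hz⟩⟩

theorem LJ_le_normalizer_VNJ (J : Set I) : LJ cs h T X J ≤ Subgroup.normalizer (VNJ cs h X J : Set Y) := by
  refine sup_le (R.T_le_normalizer fun _ hx => NotNJ.isRoot hx) (RGD.Sup_le fun x hx => ?_)
  refine R.le_normalizer hx.1 fun y hy => ⟨NotNJ.isRoot hy, Or.inr ⟨?_, fun z hz => btwn_NotNJ hx hy hz⟩⟩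
  intro h1
  exact ne_neg_of_NotJ (RootsJ.neg hx) hy (by rw [h1])

/-- `P_J = L_J V_J` -/
theorem mem_PJ {J : Set I} {g : Y} : g ∈ PJ cs h T X J ↔ ∃ l ∈ LJ cs h T X J, ∃ v ∈ VJ cs h X J, g = l * v := by
  constructor
  · intro hg
    have h1 : g ∈ ((LJ cs h T X J ⊔ VJ cs h X J : Subgroup Y) : Set Y) := hg
    rw [Subgroup.coe_mul_of_left_le_normalizer_right _ _ (LJ_le_normalizer_VJ R J), Set.mem_mul] at h1
    obtain ⟨l, hl, v, hv, e⟩ := h1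
    exact ⟨l, hl, v, hv, e.symm⟩
  · rintro ⟨l, hl, v, hv, rfl⟩
    exact mul_mem (LJ_le_PJ hl) (VJ_le_PJ hv)

theorem mem_PNJ {J : Set I} {g : Y} :
    g ∈ PNJ cs h T X J ↔ ∃ l ∈ LJ cs h T X J, ∃ v ∈ VNJ cs h X J, g = l * v := by
  constructor
  · intro hg
    have h1 : g ∈ ((LJ cs h T X J ⊔ VNJ cs h X J : Subgroup Y) : Set Y) := hg
    rw [Subgroup.coe_mul_of_left_le_normalizer_right _ _ (LJ_le_normalizer_VNJ R J), Set.mem_mul] at h1
    obtain ⟨l, hl, v, hv, e⟩ := h1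
    exact ⟨l, hl, v, hv, e.symm⟩
  · rintro ⟨l, hl, v, hv, rfl⟩
    exact mul_mem (le_sup_left (b := VNJ cs h X J) hl) (le_sup_right (a := LJ cs h T X J) hv)

theorem PJ_le_normalizer_VJ (J : Set I) : PJ cs h T X J ≤ Subgroup.normalizer (VJ cs h X J : Set Y) :=
  sup_le (LJ_le_normalizer_VJ R J) Subgroup.le_normalizer

/-- `U = U_J V_J` -/
theorem mem_U_iff {J : Set I} {g : Y} :
    g ∈ RGD.Sup X (RGD.Pos cs h) ↔ ∃ u ∈ UJ cs h X J, ∃ v ∈ VJ cs h X J, g = u * v := by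
  constructor
  · intro hg
    have h2 : RGD.Sup X (RGD.Pos cs h) ≤ UJ cs h X J ⊔ VJ cs h X J := by
      refine RGD.Sup_le fun x hx => ?_
      rcases mem_PosJ_or_NotJ J hx.1 hx.2 with h1 | h1
      · exact le_trans (RGD.le_Sup h1) le_sup_left
      · exact le_trans (RGD.le_Sup h1) le_sup_right
    have h1 : g ∈ ((UJ cs h X J ⊔ VJ cs h X J : Subgroup Y) : Set Y) := h2 hg
    have h3 : UJ cs h X J ≤ LJ cs h T X J := RGD.Sup_le fun _ hx => X_le_LJ (PosJ_subset J hx)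
    rw [Subgroup.coe_mul_of_left_le_normalizer_right _ _ (le_trans h3 (LJ_le_normalizer_VJ R J)),
      Set.mem_mul] at h1
    obtain ⟨l, hl, v, hv, e⟩ := h1
    exact ⟨l, hl, v, hv, e.symm⟩
  · rintro ⟨l, hl, v, hv, rfl⟩
    exact mul_mem (UJ_le_U J hl) (VJ_le_U J hv)

/-- the elements of `P_J` are the elements of the cells over `W_J` -/
theorem mem_PJ_iff_cell [Finite W] {J : Set I} {g : Y} :
    g ∈ PJ cs h T X J ↔ ∃ w ∈ WJ cs J, Cell R.nsys cs h X w g := by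
  constructor
  · intro hg
    obtain ⟨l, hl, v, hv, rfl⟩ := (mem_PJ R).1 hg
    obtain ⟨w, hw, hc⟩ := (mem_LJ R).1 hl
    exact ⟨w, hw, hc.cell.mul_right (VJ_le_B J hv)⟩
  · rintro ⟨w, hw, b₁, hb₁, k, hk, b₂, hb₂, rfl⟩
    exact mul_mem (mul_mem (B_le_PJ hb₁) (LJ_le_PJ (rp_mem_LJ R hw hk))) (B_le_PJ hb₂)

theorem cell_mem_PJ_iff [Finite W] {J : Set I} {w : W} {g : Y} (hg : Cell R.nsys cs h X w g) :
    g ∈ PJ cs h T X J ↔ w ∈ WJ cs J := by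
  rw [mem_PJ_iff_cell R]
  constructor
  · rintro ⟨v, hv, hc⟩
    rwa [Cell.unique R hg hc]
  · exact fun hw => ⟨w, hw, hg⟩

/-- the letters of `w` are in an overgroup of `B` containing an element over `w` -/
theorem mem_WJ_of_mem [Finite W] {P : Subgroup Y} (hP : RGD.B cs h T X ≤ P) : ∀ {w : W} {k : Y},
    Rp cs R.nsys w k → k ∈ P → w ∈ WJ cs {i | n i ∈ P} := by
  intro w
  induction hn : cs.length w using Nat.strong_induction_on generalizing w with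
  | _ N ih =>
  intro k hk hkP
  by_cases hw1 : w = 1
  · rw [hw1]; exact one_mem _
  obtain ⟨i, hi⟩ := cs.exists_leftDescent_of_ne_one hw1
  have hi' : cs.length (cs.simple i * w) < cs.length w := hi
  -- `w⁻¹ α_i < 0`
  have hneg : rep cs h w⁻¹ (sr i) ≤ 0 := by
    refine nonpos_of_lt cs h w⁻¹ i ?_
    rw [← cs.length_inv w, ← cs.length_inv (cs.simple i * w), mul_inv_rev, inv_simple] at hi'
    exact hi'
  obtain ⟨u, hu, hu1⟩ := exists_ne_one R i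
  have h1 : n i * u * (n i)⁻¹ ∈ X (-sr i) := by
    have := R.conj_mem (rp_simple cs R.nsys i) (isRoot_sr cs h i) hu
    rwa [rep_simple_sr] at this
  have h2 : n i * u * (n i)⁻¹ ≠ 1 := fun h3 => hu1 (mul_eq_left.1 (mul_inv_eq_one.1 h3))
  have h3 : k⁻¹ * (n i * u * (n i)⁻¹) * k ∈ X (-rep cs h w⁻¹ (sr i)) := by
    have := R.conj_mem' hk (isRoot_sr cs h i).neg h1
    rwa [map_neg] at this
  have h4 : k⁻¹ * (n i * u * (n i)⁻¹) * k ∈ P :=
    hP (RGD.X_le_B ((isRoot_sr cs h i).act w⁻¹).neg (neg_nonneg.2 hneg) h3)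
  have h5 : n i * u * (n i)⁻¹ ∈ P := by
    have e : n i * u * (n i)⁻¹ = k * (k⁻¹ * (n i * u * (n i)⁻¹) * k) * k⁻¹ := by group
    rw [e]
    exact mul_mem (mul_mem hkP h4) (inv_mem hkP)
  obtain ⟨a, ha, t, ht, b, hb, e⟩ := R.rk1 i _ h1 h2
  have h6 : n i ∈ P := by
    have h3 : n i = (a * t)⁻¹ * (n i * u * (n i)⁻¹) * b⁻¹ := by
      conv_rhs => rw [e]
      group
    rw [h3]
    exact mul_mem (mul_mem (inv_mem (mul_mem (hP (RGD.X_le_B (isRoot_sr cs h i) (sr_nonneg i) ha))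
      (hP (RGD.T_le_B ht)))) h5) (inv_mem (hP (RGD.X_le_B (isRoot_sr cs h i) (sr_nonneg i) hb)))
  have hk2 : Rp cs R.nsys (cs.simple i * w) ((n i)⁻¹ * k) := by
    have := (rp_simple cs R.nsys i).inv.mul hk
    rwa [inv_simple] at this
  have h7 := ih (cs.length (cs.simple i * w)) (by omega) rfl hk2 (mul_mem (inv_mem h6) hkP)
  have h8 : w = cs.simple i * (cs.simple i * w) := by rw [← mul_assoc, simple_mul_simple_self, one_mul]
  rw [h8]
  exact mul_mem (simple_mem_WJ cs h6) h7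

/-- an overgroup `P` of `B`: the elements of `P` in the cell of `w` -/
theorem cell_mem_iff [Finite W] {P : Subgroup Y} (hP : RGD.B cs h T X ≤ P) {w : W} {g : Y}
    (hg : Cell R.nsys cs h X w g) : g ∈ P ↔ w ∈ WJ cs {i | n i ∈ P} := by
  obtain ⟨b₁, hb₁, k, hk, b₂, hb₂, rfl⟩ := hg
  constructor
  · intro h1
    refine mem_WJ_of_mem R hP hk ?_
    have : k = b₁⁻¹ * (b₁ * k * b₂) * b₂⁻¹ := by group
    rw [this]
    exact mul_mem (mul_mem (inv_mem (hP hb₁)) h1) (inv_mem (hP hb₂))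
  · intro h1
    refine mul_mem (mul_mem (hP hb₁) ?_) (hP hb₂)
    -- `k` is a product of `n i`'s and an element of `T`
    obtain ⟨ω, hω, rfl⟩ := exists_word_of_mem_WJ cs h1
    clear h1
    induction ω generalizing k with
    | nil =>
      rw [wordProd_nil] at hk
      exact hP (RGD.T_le_B hk.mem_of_one)
    | cons i ω ih =>
      have hω' : ∀ j ∈ ω, j ∈ {i | n i ∈ P} := fun j hj => hω j (by simp [hj])
      rw [wordProd_cons] at hk
      have h1 : Rp cs R.nsys (cs.wordProd ω) ((n i)⁻¹ * k) := by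
        have := (rp_simple cs R.nsys i).inv.mul hk
        rwa [inv_mul_cancel_left] at this
      have h2 := ih _ hω' h1
      have h3 : k = n i * ((n i)⁻¹ * k) := by group
      rw [h3]
      exact mul_mem (hω i (by simp)) h2

/-- **the overgroups of `B` in `GG` are the parabolic subgroups** -/
theorem inf_eq_PJ [Finite W] {P : Subgroup Y} (hP : RGD.B cs h T X ≤ P) :
    P ⊓ GG cs h T X = PJ cs h T X {i | n i ∈ P} := by
  ext g
  constructor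
  · rintro ⟨h1, h2⟩
    obtain ⟨w, hw⟩ := (mem_GG R).1 h2
    exact (cell_mem_PJ_iff R hw).2 ((cell_mem_iff R hP hw).1 h1)
  · intro h1
    refine ⟨?_, PJ_le_GG h1⟩
    obtain ⟨w, hw, hc⟩ := (mem_PJ_iff_cell R).1 h1
    exact (cell_mem_iff R hP hc).2 hw

/-- `P_J ∩ V_J⁻ = 1` -/
theorem eq_one_of_mem_VNJ_of_mem_PJ [Finite W] {J : Set I} {x : Y} (hx : x ∈ VNJ cs h X J)
    (hP : x ∈ PJ cs h T X J) : x = 1 := by
  obtain ⟨wj, hwj⟩ := exists_isLongest cs J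
  obtain ⟨kJ, hkJ⟩ := exists_rp cs R.nsys wj
  obtain ⟨l, hl, v, hv, e⟩ := (mem_PJ R).1 hP
  have hkJL : kJ ∈ LJ cs h T X J := rp_mem_LJ R hwj.1 hkJ
  obtain ⟨w, hw, b₁, hb₁, k, hk, b₂, hb₂, e2⟩ := (mem_LJ R).1 (mul_mem (inv_mem hkJL) hl)
  -- `b₁' = kJ b₁ kJ⁻¹ ∈ T ⊔ (negative root groups of J)`
  have hb1' : kJ * b₁ * kJ⁻¹ ∈ BN cs h T X := by
    have h1 : cj kJ (BJ cs h T X J) ≤ BN cs h T X := by
      unfold BJ BN
      rw [cj_sup, cj_T R hkJ]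
      refine sup_le_sup_left (cj_Sup_le R hkJ (fun x hx => hx.1) fun x hx => ?_) _
      exact ⟨hx.1.act _, rep_longest_nonpos hwj hx⟩
    exact h1 (conj_mem_cj.2 hb₁)
  have hxN : x ∈ BN cs h T X := UN_le_BN (VNJ_le_UN J hx)
  have hvB : v ∈ RGD.B cs h T X := VJ_le_B J hv
  have h1 : wj * w = 1 := by
    refine birkhoff R (hkJ.mul hk) (rp_one (cs := cs) (hN := R.nsys)) (b₁ := kJ * b₁ * kJ⁻¹) (b₂ := b₂ * v)
      (b₁' := x) (b₂' := 1) hb1' (mul_mem (BJ_le_B J hb₂) hvB) hxN (one_mem _) ?_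
    have : l = kJ * (kJ⁻¹ * l) := by group
    rw [e, this, e2]
    group
  have hkt : kJ * k ∈ T := by
    have := hkJ.mul hk
    rw [h1] at this
    exact this.mem_of_one
  -- `x = b₁' (kJ k) b₂ v`
  have e3 : (kJ * b₁ * kJ⁻¹)⁻¹ * x = (kJ * k) * b₂ * v := by
    have : l = kJ * (kJ⁻¹ * l) := by group
    rw [e, this, e2]
    group
  have h2 : (kJ * b₁ * kJ⁻¹)⁻¹ * x ∈ T := by
    rw [← B_inf_BN R, Subgroup.mem_inf]
    refine ⟨?_, mul_mem (inv_mem hb1') hxN⟩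
    rw [e3]
    exact mul_mem (mul_mem (RGD.T_le_B hkt) (BJ_le_B J hb₂)) hvB
  -- conjugate by `kJ⁻¹`
  have h3 : kJ⁻¹ * x * kJ ∈ UN cs h X := by
    refine VNJ_le_UN J (conj_mem_Sup' R hkJ (fun x hx => NotNJ.isRoot hx) (fun x hx => ?_) hx)
    exact NotNJ.act (inv_mem hwj.1) hx
  have h4 : kJ⁻¹ * x * kJ ∈ RGD.B cs h T X := by
    have h5 : kJ⁻¹ * x * kJ = b₁ * (kJ⁻¹ * ((kJ * b₁ * kJ⁻¹)⁻¹ * x) * kJ) := by group
    rw [h5]
    refine mul_mem (BJ_le_B J hb₁) (RGD.T_le_B ?_)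
    have h6 : kJ⁻¹ * ((kJ * b₁ * kJ⁻¹)⁻¹ * x) * kJ⁻¹⁻¹ ∈ cj kJ⁻¹ T := conj_mem_cj.2 h2
    rwa [cj_T R hkJ.inv, inv_inv] at h6
  have h5 := eq_one_of_mem_UN_of_mem_B R h3 h4
  have h6 : x = kJ * (kJ⁻¹ * x * kJ) * kJ⁻¹ := by group
  rw [h6, h5]; group

theorem VNJ_inf_PJ [Finite W] (J : Set I) : VNJ cs h X J ⊓ PJ cs h T X J = ⊥ := by
  rw [Subgroup.eq_bot_iff_forall]
  rintro u ⟨h1, h2⟩
  exact eq_one_of_mem_VNJ_of_mem_PJ R h1 h2

theorem LJ_inf_VNJ [Finite W] (J : Set I) : LJ cs h T X J ⊓ VNJ cs h X J = ⊥ := by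
  rw [Subgroup.eq_bot_iff_forall]
  rintro u ⟨h1, h2⟩
  exact eq_one_of_mem_VNJ_of_mem_PJ R h2 (LJ_le_PJ h1)

/-- `P_J ∩ P_J⁻ = L_J` -/
theorem PJ_inf_PNJ [Finite W] (J : Set I) : PJ cs h T X J ⊓ PNJ cs h T X J = LJ cs h T X J := by
  apply le_antisymm
  · rintro g ⟨h1, h2⟩
    obtain ⟨l, hl, v, hv, rfl⟩ := (mem_PNJ R).1 h2
    have h3 : v ∈ PJ cs h T X J := by
      have : v = l⁻¹ * (l * v) := by group
      rw [this]
      exact mul_mem (inv_mem (LJ_le_PJ hl)) h1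
    rw [eq_one_of_mem_VNJ_of_mem_PJ R hv h3, mul_one]
    exact hl
  · exact le_inf LJ_le_PJ le_sup_left

/-- `L_J ∩ V_J = 1` -/
theorem eq_one_of_mem_LJ_of_mem_VJ [Finite W] {J : Set I} {x : Y} (hx : x ∈ LJ cs h T X J)
    (hV : x ∈ VJ cs h X J) : x = 1 := by
  -- `x ∈ B ∩ L_J = B_J`
  have h1 : x ∈ BJ cs h T X J := by
    rw [← B_inf_LJ R J]
    exact ⟨VJ_le_B J hV, hx⟩
  obtain ⟨wj, hwj⟩ := exists_isLongest cs J
  obtain ⟨kJ, hkJ⟩ := exists_rp cs R.nsys wj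
  have h2 : kJ * x * kJ⁻¹ ∈ BN cs h T X := by
    have h1' : cj kJ (BJ cs h T X J) ≤ BN cs h T X := by
      unfold BJ BN
      rw [cj_sup, cj_T R hkJ]
      refine sup_le_sup_left (cj_Sup_le R hkJ (fun x hx => hx.1) fun x hx => ?_) _
      exact ⟨hx.1.act _, rep_longest_nonpos hwj hx⟩
    exact h1' (conj_mem_cj.2 h1)
  have h3 : kJ * x * kJ⁻¹ ∈ RGD.Sup X (RGD.Pos cs h) :=
    VJ_le_U J (conj_mem_Sup R hkJ (fun x hx => hx.1) (fun x hx => NotJ.act hwj.1 hx) hV)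
  have h4 := eq_one_of_mem_U_of_mem_BN R h3 h2
  have h5 : x = kJ⁻¹ * (kJ * x * kJ⁻¹) * kJ := by group
  rw [h5, h4]; group

theorem LJ_inf_VJ [Finite W] (J : Set I) : LJ cs h T X J ⊓ VJ cs h X J = ⊥ := by
  rw [Subgroup.eq_bot_iff_forall]
  rintro u ⟨h1, h2⟩
  exact eq_one_of_mem_LJ_of_mem_VJ R h1 h2

theorem UJ_inf_VJ [Finite W] (J : Set I) : UJ cs h X J ⊓ VJ cs h X J = ⊥ := by
  rw [Subgroup.eq_bot_iff_forall]
  rintro u ⟨h1, h2⟩
  exact eq_one_of_mem_LJ_of_mem_VJ R (T := T) (BJ_le_LJ (UJ_le_BJ h1)) h2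

end Cfsg.Agent.Nodes.LeviDec
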