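import Mathlib
import Cfsg.Agent.Nodes.LeviDec
import Cfsg.Agent.Nodes.FreeTorus
set_option linter.all false

/-!
The common normaliser of all root groups in the group `GG` generated by the torus and the root groups is the torus
(project CIT): `HH_inf_GG`.
-/

set_option autoImplicit false
set_option linter.unusedSectionVars false

namespace Cfsg.Agent.Nodes.CommonNorm

open CoxeterSystem Cfsg.Agent.ChevalleyStructure.CoxeterGeom Cfsg.Agent.Tits.Roots Cfsg.Agent.Tits.Core
  Cfsg.Agent.Tits.Exchange Cfsg.Agent.Nodes.Reps Cfsg.Agent.Nodes.BNOf Cfsg.Agent.Nodes.StabComb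
  Cfsg.Agent.Nodes.Bruhat Cfsg.Agent.Nodes.OppDec Cfsg.Agent.Nodes.LeviDec Cfsg.Agent.Nodes.FreeTorus
open scoped commutatorElement

variable {I W Y : Type*} [Fintype I] [DecidableEq I] [Group W] [Group Y] {M : CoxeterMatrix I}
  {cs : CoxeterSystem M W} {A : I → I → ℤ} {h : IsCartan M A} {p : ℕ} {T : Subgroup Y} {n : I → Y}
  {X : (I → ℤ) → Subgroup Y}

variable (R : RGD cs h p T n X)

include R

theorem T_le_HH : T ≤ HH cs h X := by
  intro t ht
  rw [mem_HH]
  intro x hx
  rw [R.tor x hx t ht, map_one, Module.End.one_apply]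

/-- A representative of `w` permutes the root groups as `w`. -/
theorem acts_of_rp {w : W} {g : Y} (hg : Rp cs R.nsys w g) : Acts cs h X w g := fun _ hx => R.conj_rp hg hx

/-- An element of `GG` normalising all root groups lies in `B`. -/
theorem mem_B_of_mem_HH [Finite W] {g : Y} (hg : g ∈ HH cs h X) (hG : g ∈ GG cs h T X) :
    g ∈ RGD.B cs h T X := by
  obtain ⟨w, hw⟩ := (mem_GG R).1 hG
  have hP : RGD.B cs h T X ≤ Subgroup.normalizer (RGD.Sup X (RGD.Pos cs h) : Set Y) := R.B_le_normalizer_U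
  have hgP : g ∈ Subgroup.normalizer (RGD.Sup X (RGD.Pos cs h) : Set Y) := by
    rw [mem_normalizer_iff_cj, RGD.cj_Sup]
    refine iSup_congr fun z => ?_
    have := mem_HH.1 hg z.1 z.2.1
    rwa [map_one, Module.End.one_apply] at this
  have h1 := (cell_mem_iff R hP hw).1 hgP
  have h2 : {i | n i ∈ Subgroup.normalizer (RGD.Sup X (RGD.Pos cs h) : Set Y)} = ∅ := by
    rw [Set.eq_empty_iff_forall_notMem]
    intro i hi
    have hi' : n i ∈ Subgroup.normalizer (RGD.Sup X (RGD.Pos cs h) : Set Y) := hi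
    rw [mem_normalizer_iff_cj] at hi'
    have h3 : X (-sr i) ≤ RGD.Sup X (RGD.Pos cs h) := by
      have h4 := cj_mono (n i) (RGD.le_Sup (X := X) (S := RGD.Pos cs h) ⟨isRoot_sr cs h i, sr_nonneg i⟩)
      rwa [hi', R.conj i _ (isRoot_sr cs h i), rep_simple_sr] at h4
    have h5 : X (-sr i) ≤ UN cs h X := X_le_UN (isRoot_sr cs h i).neg (neg_nonpos.2 (sr_nonneg i))
    have h6 : X (-sr i) ≤ ⊥ := by
      rw [← U_inf_UN R]
      exact le_inf h3 h5
    exact X_ne_bot R (isRoot_sr cs h i).neg (le_bot_iff.1 h6)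
  rw [h2] at h1
  have h3 : w = 1 := by
    unfold WJ at h1
    rw [Set.image_empty, Subgroup.closure_empty, Subgroup.mem_bot] at h1
    exact h1
  subst h3
  exact hw.mem_of_one

/-- **The common normaliser of the root groups in `GG` is the torus.** -/
theorem HH_inf_GG [Finite W] : HH cs h X ⊓ GG cs h T X = T := by
  apply le_antisymm
  · rintro g ⟨hg, hG⟩
    obtain ⟨k, hk⟩ := exists_rp cs R.nsys (w0 cs)
    have hA := acts_of_rp R hk
    have h1 : k⁻¹ * g * k ∈ HH cs h X := by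
      have h2 := hA.inv.cj_HH
      have h3 : k⁻¹ * g * k⁻¹⁻¹ ∈ cj k⁻¹ (HH cs h X) := conj_mem_cj.2 hg
      rwa [h2, inv_inv] at h3
    have hkG : k ∈ GG cs h T X := NN_le_GG R ⟨_, hk⟩
    have h2 := mem_B_of_mem_HH R h1 (mul_mem (mul_mem (inv_mem hkG) hG) hkG)
    have h3 : g ∈ BN cs h T X := by
      rw [← cj_B R hk, mem_cj]
      exact h2
    rw [← B_inf_BN R]
    exact ⟨mem_B_of_mem_HH R hg hG, h3⟩
  · exact le_inf (T_le_HH R) T_le_GG

theorem LL_le_GG {x : I → ℤ} (hx : IsRoot cs h x) : LL X x ≤ GG cs h T X :=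
  sup_le (X_le_GG hx) (X_le_GG hx.neg)

end Cfsg.Agent.Nodes.CommonNorm
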