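import Mathlib
import Cfsg.Agent.Tits.Roots
set_option linter.all false

/-!
Combinatorics of the root system of type `C_n` in terms of signed indices `Fin n × Bool`
(project CIT, charts of the classical groups of type `C_n`, `BC_n`).

* `wt x` : the weight `± ε_i` of a signed index; `bt i` : the simple root `α_i` in `ε`-coordinates;
* `A n` : the Cartan matrix, `isCartan : IsCartan (CoxeterMatrix.B n) (A n)`;
* `ee` : the passage to `ε`-coordinates, `ee_refl`, `ee_injective`;
* `sg i` : the action of the simple reflections on signed indices, `sg_braid`;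
* `isRoot_iff` : `x` is a root iff `ee x = wt a + wt b` with `a.1 ≠ b.1` or `a = b`;
* `finite_W`.
-/

set_option autoImplicit false

namespace Cfsg.Agent.Nodes.TypeC

open Cfsg.Agent.ChevalleyStructure.CoxeterGeom Cfsg.Agent.Tits.Roots

variable {n : ℕ}

/-- The weight of a signed index. -/
def wt (x : Fin n × Bool) : Fin n → ℤ := Pi.single x.1 (if x.2 then 1 else -1)

theorem wt_apply (x : Fin n × Bool) (k : Fin n) : wt x k = if k = x.1 then (if x.2 then 1 else -1) else 0 := by
  rw [wt, Pi.single_apply]

/-- The opposite signed index. -/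
def ng (x : Fin n × Bool) : Fin n × Bool := (x.1, !x.2)

@[simp] theorem ng_ng (x : Fin n × Bool) : ng (ng x) = x := by simp [ng]
@[simp] theorem ng_fst (x : Fin n × Bool) : (ng x).1 = x.1 := rfl
@[simp] theorem ng_snd (x : Fin n × Bool) : (ng x).2 = !x.2 := rfl

theorem wt_ng (x : Fin n × Bool) : wt (ng x) = -wt x := by
  funext k
  obtain ⟨i, s⟩ := x
  rw [Pi.neg_apply, wt_apply, wt_apply]
  cases s <;> simp only [ng] <;> split_ifs <;> simp_all

/-- The second signed index of a simple root. -/
def nx (i : Fin n) : Fin n × Bool := if h : (i : ℕ) + 1 < n then (⟨i + 1, h⟩, false) else (i, true)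

/-- The simple root `α_i` in `ε`-coordinates. -/
def bt (i : Fin n) : Fin n → ℤ := wt (i, true) + wt (nx i)

theorem bt_apply (i k : Fin n) : bt i k =
    if (i : ℕ) + 1 < n then (if (k : ℕ) = i then 1 else if (k : ℕ) = i + 1 then -1 else 0)
      else (if (k : ℕ) = i then 2 else 0) := by
  rw [bt, Pi.add_apply, wt_apply, wt_apply, nx]
  split_ifs with h1 h2 h3 h4 h5 h6 h7 h8 <;> simp_all [Fin.ext_iff] <;> omega

/-- The simple reflections on signed indices. -/
def sg (i : Fin n) (x : Fin n × Bool) : Fin n × Bool :=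
  if h : (i : ℕ) + 1 < n then (if x.1 = i then (⟨i + 1, h⟩, x.2) else if x.1 = ⟨i + 1, h⟩ then (i, x.2) else x)
  else if x.1 = i then (x.1, !x.2) else x

/-- The coroot functional of `α_i` on `ε`-vectors. -/
def Cf (i : Fin n) (u : Fin n → ℤ) : ℤ := if h : (i : ℕ) + 1 < n then u i - u ⟨i + 1, h⟩ else u i

theorem Cf_add (i : Fin n) (u v : Fin n → ℤ) : Cf i (u + v) = Cf i u + Cf i v := by
  unfold Cf; split_ifs <;> simp only [Pi.add_apply] <;> ring

theorem Cf_smul (i : Fin n) (c : ℤ) (u : Fin n → ℤ) : Cf i (c • u) = c * Cf i u := by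
  unfold Cf; split_ifs <;> simp only [Pi.smul_apply, smul_eq_mul] <;> ring

theorem Cf_sum (i : Fin n) (f : Fin n → Fin n → ℤ) : Cf i (∑ j, f j) = ∑ j, Cf i (f j) := by
  unfold Cf; split_ifs
  · simp only [Finset.sum_apply, ← Finset.sum_sub_distrib]
  · simp only [Finset.sum_apply]

theorem wt_sg (i : Fin n) (x : Fin n × Bool) : wt (sg i x) = wt x - Cf i (wt x) • bt i := by
  funext k
  obtain ⟨j, s⟩ := x
  rw [Pi.sub_apply, Pi.smul_apply, bt_apply, smul_eq_mul]
  unfold sg Cf
  by_cases h : (i : ℕ) + 1 < n
  · simp only [h, dif_pos, if_true]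
    by_cases h1 : j = i
    · subst h1
      simp only [if_true, wt_apply]
      have : (⟨(j : ℕ) + 1, h⟩ : Fin n) ≠ j := by simp [Fin.ext_iff]
      simp only [this, if_false, Fin.ext_iff, if_true, sub_zero]
      cases s <;> simp <;> split_ifs <;> simp_all
    · by_cases h2 : j = ⟨(i : ℕ) + 1, h⟩
      · subst h2
        have : i ≠ (⟨(i : ℕ) + 1, h⟩ : Fin n) := by simp [Fin.ext_iff]
        simp only [this, this.symm, if_true, if_false, wt_apply, Fin.ext_iff]
        cases s <;> simp <;> split_ifs <;> simp_all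
      · simp only [h1, h2, if_false, wt_apply, Ne.symm h1, Ne.symm h2]
        simp
  · simp only [h, dif_neg, if_false, not_false_eq_true]
    by_cases h1 : j = i
    · subst h1
      simp only [if_true, wt_apply, Fin.ext_iff]
      cases s <;> simp <;> split_ifs <;> simp_all
    · simp only [h1, if_false, wt_apply, Ne.symm h1]
      simp

theorem sg_fst_eq (i : Fin n) {x y : Fin n × Bool} : (sg i x).1 = (sg i y).1 ↔ x.1 = y.1 := by
  obtain ⟨a, s⟩ := x
  obtain ⟨b, t⟩ := y
  unfold sg
  split_ifs <;> simp_all [Fin.ext_iff] <;> omega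

theorem sg_ng (i : Fin n) (x : Fin n × Bool) : sg i (ng x) = ng (sg i x) := by
  unfold sg ng
  split_ifs <;> simp_all

theorem sg_sg (i : Fin n) (x : Fin n × Bool) : sg i (sg i x) = x := by
  obtain ⟨a, s⟩ := x
  unfold sg
  split_ifs <;> simp_all [Fin.ext_iff]

/-- The Cartan matrix of type `C_n`. -/
def A (n : ℕ) (i j : Fin n) : ℤ := Cf i (bt j)

theorem A_apply (i j : Fin n) : A n i j = if i = j then 2 else
    if (i : ℕ) + 1 = j then (if (j : ℕ) + 1 < n then -1 else -2) else if (j : ℕ) + 1 = i then -1 else 0 := by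
  unfold A Cf
  have := i.2
  have := j.2
  simp only [bt_apply, Fin.ext_iff]
  split_ifs <;> omega

theorem isCartan (n : ℕ) : IsCartan (CoxeterMatrix.B n) (A n) where
  diag i := by rw [A_apply, if_pos rfl]
  rel i j hij := by
    have hji : j ≠ i := hij.symm
    have hij' : (i : ℕ) ≠ j := fun h => hij (Fin.ext h)
    have hM : CoxeterMatrix.B n i j = if (i : ℕ) = n - 1 ∧ (j : ℕ) = n - 2 ∨ (j : ℕ) = n - 1 ∧ (i : ℕ) = n - 2
        then 4 else (if (j : ℕ) + 1 = i ∨ (i : ℕ) + 1 = j then 3 else 2) := by
      show (if i = j then 1 else _) = _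
      rw [if_neg hij]
    rw [hM, A_apply, A_apply, if_neg hij, if_neg hji]
    have := i.2
    have := j.2
    split_ifs <;> simp <;> omega

/-! ### Coordinates -/

/-- The passage to `ε`-coordinates. -/
def ee (x : Fin n → ℤ) : Fin n → ℤ := ∑ j, x j • bt j

theorem ee_add (x y : Fin n → ℤ) : ee (x + y) = ee x + ee y := by
  simp only [ee, Pi.add_apply, add_smul, Finset.sum_add_distrib]

theorem ee_smul (c : ℤ) (x : Fin n → ℤ) : ee (c • x) = c • ee x := by
  simp only [ee, Pi.smul_apply, smul_eq_mul, mul_smul, Finset.smul_sum]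

theorem ee_neg (x : Fin n → ℤ) : ee (-x) = -ee x := by
  have := ee_smul (-1) x
  simpa using this

theorem ee_single (i : Fin n) (c : ℤ) : ee (Pi.single i c) = c • bt i := by
  unfold ee
  rw [Finset.sum_eq_single i]
  · simp
  · intro j _ hj
    simp [hj]
  · simp

theorem ee_sr (i : Fin n) : ee (sr i) = bt i := by rw [sr, ee_single, one_smul]

theorem Cf_ee (i : Fin n) (x : Fin n → ℤ) : Cf i (ee x) = pairing (A n) i x := by
  unfold ee pairing
  rw [Cf_sum]
  exact Finset.sum_congr rfl fun j _ => by rw [Cf_smul, mul_comm]; rfl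

theorem ee_refl (i : Fin n) (x : Fin n → ℤ) : ee (refl (A n) i x) = ee x - Cf i (ee x) • bt i := by
  rw [refl_apply, sub_eq_add_neg, ee_add, ee_neg, ee_single, Cf_ee, sub_eq_add_neg]

theorem ee_refl_of {i : Fin n} {x : Fin n → ℤ} {a b : Fin n × Bool} (h : ee x = wt a + wt b) :
    ee (refl (A n) i x) = wt (sg i a) + wt (sg i b) := by
  rw [ee_refl, h, Cf_add, wt_sg, wt_sg, add_smul]; abel

/-- partial sums -/
theorem sum_bt (i m : Fin n) : ∑ k ∈ Finset.Iic m, bt i k =
    if (i : ℕ) + 1 < n then (if m = i then 1 else 0) else (if m = i then 2 else 0) := by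
  simp only [bt, Pi.add_apply, Finset.sum_add_distrib, wt, Finset.sum_pi_single', Finset.mem_Iic]
  unfold nx
  by_cases h : (i : ℕ) + 1 < n
  · simp only [h, dif_pos, if_true, Fin.le_def, Fin.ext_iff]
    split_ifs <;> simp_all <;> omega
  · simp only [h, dif_neg, if_false, not_false_eq_true, Fin.le_def, Fin.ext_iff]
    have := m.2
    split_ifs <;> simp_all <;> omega

theorem ee_injective : Function.Injective (ee (n := n)) := by
  intro x y hxy
  funext m
  have key : ∀ x : Fin n → ℤ, ∑ k ∈ Finset.Iic m, ee x k = (if (m : ℕ) + 1 < n then 1 else 2) * x m := by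
    intro x
    have h1 : ∀ k, ee x k = ∑ j, x j * bt j k := by
      intro k
      simp [ee, Finset.sum_apply]
    simp only [h1]
    rw [Finset.sum_comm]
    simp only [← Finset.mul_sum, sum_bt]
    rw [Finset.sum_eq_single m]
    · simp only [if_true]
      split_ifs <;> ring
    · intro j _ hj
      simp [Ne.symm hj]
    · simp
  have h1 := key x
  have h2 := key y
  rw [hxy] at h1
  have h3 := h1.symm.trans h2
  split_ifs at h3 <;> linarith

/-! ### Roots -/

section Root

variable {W : Type*} [Group W] (cs : CoxeterSystem (CoxeterMatrix.B n) W)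

/-- Admissible pairs of signed indices. -/
def Ok (a b : Fin n × Bool) : Prop := a.1 ≠ b.1 ∨ a = b

theorem Ok.symm {a b : Fin n × Bool} (h : Ok a b) : Ok b a := by
  rcases h with h | h
  · exact Or.inl h.symm
  · exact Or.inr h.symm

theorem Ok.sg {a b : Fin n × Bool} (h : Ok a b) (i : Fin n) : Ok (sg i a) (sg i b) := by
  rcases h with h | h
  · exact Or.inl (fun h' => h ((sg_fst_eq i).1 h'))
  · exact Or.inr (by rw [h])

theorem Ok.ng {a b : Fin n × Bool} (h : Ok a b) : Ok (ng a) (ng b) := by
  rcases h with h | h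
  · exact Or.inl h
  · exact Or.inr (by rw [h])

theorem ok_nx (i : Fin n) : Ok (i, true) (nx i) := by
  unfold Ok nx
  split_ifs with h
  · left; simp [Fin.ext_iff]
  · right; rfl

theorem exists_of_isRoot {x : Fin n → ℤ} (hx : IsRoot cs (isCartan n) x) :
    ∃ a b, Ok a b ∧ ee x = wt a + wt b := by
  obtain ⟨w, i, rfl⟩ := hx
  induction w using cs.simple_induction_left with
  | one =>
    rw [map_one, Module.End.one_apply]
    exact ⟨(i, true), nx i, ok_nx i, ee_sr i⟩
  | mul_simple_left w j ih =>
    obtain ⟨a, b, hab, h⟩ := ih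
    exact ⟨sg j a, sg j b, hab.sg j, by rw [rep_mul_apply, rep_simple, ee_refl_of h]⟩

/-- there is a root with given `ε`-coordinates -/
def Rt (a b : Fin n × Bool) : Prop := ∃ x, IsRoot cs (isCartan n) x ∧ ee x = wt a + wt b

variable {cs}

theorem Rt.symm {a b : Fin n × Bool} (h : Rt cs a b) : Rt cs b a := by
  obtain ⟨x, hx, e⟩ := h
  exact ⟨x, hx, by rw [e, add_comm]⟩

theorem Rt.neg {a b : Fin n × Bool} (h : Rt cs a b) : Rt cs (ng a) (ng b) := by
  obtain ⟨x, hx, e⟩ := h
  exact ⟨-x, hx.neg, by rw [ee_neg, e, wt_ng, wt_ng]; abel⟩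

theorem Rt.sg {a b : Fin n × Bool} (h : Rt cs a b) (i : Fin n) : Rt cs (sg i a) (sg i b) := by
  obtain ⟨x, hx, e⟩ := h
  refine ⟨refl (A n) i x, ?_, ee_refl_of e⟩
  have := hx.act (cs.simple i)
  rwa [rep_simple] at this

theorem rt_simple (i : Fin n) : Rt cs (i, true) (nx i) := ⟨sr i, isRoot_sr cs _ i, ee_sr i⟩

theorem sg_of_ne {i : Fin n} {x : Fin n × Bool} (h1 : x.1 ≠ i) (h2 : (x.1 : ℕ) ≠ i + 1) : TypeC.sg i x = x := by
  unfold TypeC.sg
  split_ifs <;> simp_all [Fin.ext_iff]

theorem sg_up {i : Fin n} (h : (i : ℕ) + 1 < n) (s : Bool) : TypeC.sg i (i, s) = (⟨i + 1, h⟩, s) := by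
  simp [TypeC.sg, h]

theorem sg_down {i : Fin n} (h : (i : ℕ) + 1 < n) (s : Bool) : TypeC.sg i (⟨i + 1, h⟩, s) = (i, s) := by
  simp [TypeC.sg, h, Fin.ext_iff]

theorem sg_last {i : Fin n} (h : ¬ (i : ℕ) + 1 < n) (s : Bool) : TypeC.sg i (i, s) = (i, !s) := by
  simp [TypeC.sg, h]

/-- `ε_k - ε_m`, `k < m` -/
theorem rt_sub (d : ℕ) : ∀ (k m : Fin n), (k : ℕ) + d + 1 = m → Rt cs (k, true) (m, false) := by
  induction d with
  | zero =>
    intro k m hkm
    have h := rt_simple (cs := cs) k
    have h1 : nx k = (m, false) := by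
      unfold nx
      have hk : (k : ℕ) + 1 < n := by have := m.2; omega
      rw [dif_pos hk]
      congr 1
      exact Fin.ext (by simpa using hkm)
    rwa [h1] at h
  | succ d ih =>
    intro k m hkm
    have hm' : (k : ℕ) + d + 1 < n := by have := m.2; omega
    have h1 := (ih k ⟨(k : ℕ) + d + 1, hm'⟩ rfl).sg ⟨(k : ℕ) + d + 1, hm'⟩
    rw [sg_of_ne (by simp [Fin.ext_iff]; omega) (by simp; omega), sg_up (by have := m.2; simp; omega)] at h1
    convert h1 using 2
    exact Fin.ext (by simp; omega)

/-- `ε_k + ε_m`, `k < m` -/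
theorem rt_add (d : ℕ) : ∀ (k m : Fin n), (k : ℕ) < m → (m : ℕ) + d + 1 = n → Rt cs (k, true) (m, true) := by
  induction d with
  | zero =>
    intro k m hkm hm
    have h1 := (rt_sub (cs := cs) (m - k - 1) k m (by omega)).sg m
    rwa [sg_of_ne (by simp [Fin.ext_iff]; omega) (by simp; omega), sg_last (by omega)] at h1
  | succ d ih =>
    intro k m hkm hm
    have h1 := (ih k ⟨(m : ℕ) + 1, by omega⟩ (by simp; omega) (by simp; omega)).sg m
    rwa [sg_of_ne (by simp [Fin.ext_iff]; omega) (by simp; omega), sg_down] at h1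

theorem rt_two (d : ℕ) : ∀ (m : Fin n), (m : ℕ) + d + 1 = n → Rt cs (m, true) (m, true) := by
  induction d with
  | zero =>
    intro m hm
    have h := rt_simple (cs := cs) m
    have h1 : nx m = (m, true) := by
      unfold nx
      rw [dif_neg (by omega)]
    rwa [h1] at h
  | succ d ih =>
    intro m hm
    have h1 := (ih ⟨(m : ℕ) + 1, by omega⟩ (by simp; omega)).sg m
    rwa [sg_down] at h1

theorem rt_of_ok {a b : Fin n × Bool} (h : Ok a b) : Rt cs a b := by
  rcases h with h | rfl
  · have key : ∀ a b : Fin n × Bool, (a.1 : ℕ) < b.1 → Rt cs a b := by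
      rintro ⟨i, s⟩ ⟨j, t⟩ hij
      simp only at hij
      have h1 := rt_add (cs := cs) (n - j - 1) i j hij (by have := j.2; omega)
      have h2 := rt_sub (cs := cs) (j - i - 1) i j (by omega)
      have h3 := h1.neg
      have h4 := h2.neg
      cases s <;> cases t
      · exact h3
      · exact h4
      · exact h2
      · exact h1
    rcases lt_or_gt_of_ne (fun h' => h (Fin.ext h') : (a.1 : ℕ) ≠ b.1) with h1 | h1
    · exact key a b h1
    · exact (key b a h1).symm
  · obtain ⟨i, s⟩ := a
    have h1 := rt_two (cs := cs) (n - i - 1) i (by have := i.2; omega)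
    have h3 := h1.neg
    cases s
    · exact h3
    · exact h1

/-- The root with `ε`-coordinates `wt a + wt b`. -/
theorem isRoot_iff {x : Fin n → ℤ} : IsRoot cs (isCartan n) x ↔ ∃ a b, Ok a b ∧ ee x = wt a + wt b := by
  constructor
  · exact exists_of_isRoot cs
  · rintro ⟨a, b, hab, e⟩
    obtain ⟨y, hy, e'⟩ := rt_of_ok (cs := cs) hab
    rwa [ee_injective (e.trans e'.symm)]

/-- The pair of signed indices is determined up to order. -/
theorem wt_add_eq {a b c d : Fin n × Bool} (hab : Ok a b) (hcd : Ok c d) (e : wt a + wt b = wt c + wt d) :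
    (a = c ∧ b = d) ∨ (a = d ∧ b = c) := by
  obtain ⟨a, s⟩ := a
  obtain ⟨b, t⟩ := b
  obtain ⟨c, u⟩ := c
  obtain ⟨d, v⟩ := d
  have ha := congrFun e a
  have hb := congrFun e b
  have hc := congrFun e c
  have hd := congrFun e d
  simp only [Pi.add_apply, wt_apply] at ha hb hc hd
  unfold Ok at hab hcd
  simp only [Prod.mk.injEq] at hab hcd ⊢
  by_cases h1 : a = b
  · subst h1
    have hst : s = t := by
      rcases hab with h | h
      · exact absurd rfl h
      · exact h.2
    subst hst
    by_cases h2 : c = d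
    · subst h2
      have huv : u = v := by
        rcases hcd with h | h
        · exact absurd rfl h
        · exact h.2
      subst huv
      by_cases h3 : a = c
      · subst h3
        cases s <;> cases u <;> simp_all
      · exfalso
        cases s <;> cases u <;> simp_all
    · exfalso
      by_cases h3 : a = c
      · subst h3
        cases s <;> cases u <;> cases v <;> simp_all
      · cases s <;> cases u <;> cases v <;> simp_all <;> split_ifs at ha <;> simp_all
  · by_cases h2 : c = d
    · subst h2
      have huv : u = v := by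
        rcases hcd with h | h
        · exact absurd rfl h
        · exact h.2
      subst huv
      exfalso
      by_cases h3 : a = c
      · subst h3
        cases s <;> cases u <;> cases t <;> simp_all
      · cases s <;> cases u <;> cases t <;> simp_all
    · by_cases h3 : a = c
      · subst h3
        have h4 : b = d := by
          by_contra h4
          cases s <;> cases t <;> cases u <;> cases v <;> simp_all
        subst h4
        cases s <;> cases t <;> cases u <;> cases v <;> simp_all
      · have h4 : a = d := by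
          by_contra h4
          cases s <;> cases t <;> cases u <;> cases v <;> simp_all
        subst h4
        have h5 : b = c := by
          by_contra h5
          cases s <;> cases t <;> cases u <;> cases v <;> simp_all
        subst h5
        cases s <;> cases t <;> cases u <;> cases v <;> simp_all

theorem wt_injective {a b : Fin n × Bool} (e : wt a = wt b) : a = b := by
  rcases wt_add_eq (a := a) (b := a) (c := b) (d := b) (Or.inr rfl) (Or.inr rfl) (by rw [e]) with h | h
  · exact h.1
  · exact h.1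

/-! ### The braid relations on signed indices, finiteness -/

variable (cs)

include cs in
/-- the long root of a signed index -/
theorem exists_long (a : Fin n × Bool) : ∃ x : Fin n → ℤ, ee x = wt a + wt a := by
  obtain ⟨x, -, e⟩ := rt_of_ok (cs := cs) (a := a) (b := a) (Or.inr rfl)
  exact ⟨x, e⟩

theorem iterate_sg (i j : Fin n) (m : ℕ) {x : Fin n → ℤ} {a b : Fin n × Bool} (e : ee x = wt a + wt b) :
    ee (rep cs (isCartan n) ((cs.simple i * cs.simple j) ^ m) x) =
      wt ((fun y => sg i (sg j y))^[m] a) + wt ((fun y => sg i (sg j y))^[m] b) := by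
  induction m with
  | zero => rw [pow_zero, map_one, Module.End.one_apply]; exact e
  | succ m ih =>
    rw [pow_succ', rep_mul_apply, rep_mul_apply, rep_simple, rep_simple,
      ee_refl_of (ee_refl_of ih), Function.iterate_succ_apply', Function.iterate_succ_apply']

theorem sg_braid (i j : Fin n) (a : Fin n × Bool) : (fun y => sg i (sg j y))^[CoxeterMatrix.B n i j] a = a := by
  let cs := (CoxeterMatrix.B n).toCoxeterSystem
  obtain ⟨x, e⟩ := exists_long cs a
  have h1 := iterate_sg cs i j (CoxeterMatrix.B n i j) e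
  rw [cs.simple_mul_simple_pow, map_one, Module.End.one_apply, e] at h1
  rcases wt_add_eq (Or.inr rfl) (Or.inr rfl) h1 with h | h
  · exact h.1.symm
  · exact h.1.symm

include cs in
theorem finite_W : Finite W := by
  have hfin : {x | IsRoot cs (isCartan n) x}.Finite := by
    have h1 : {x | IsRoot cs (isCartan n) x} ⊆ ee ⁻¹' (Set.range fun q : (Fin n × Bool) × (Fin n × Bool) =>
        wt q.1 + wt q.2) := by
      intro x hx
      obtain ⟨a, b, -, e⟩ := exists_of_isRoot cs hx
      exact ⟨(a, b), e.symm⟩
    exact ((Set.finite_range _).preimage ee_injective.injOn).subset h1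
  have : Finite {x | IsRoot cs (isCartan n) x} := hfin
  let f : W → (Fin n → {x | IsRoot cs (isCartan n) x}) := fun w i =>
    ⟨rep cs (isCartan n) w (sr i), (isRoot_sr cs _ i).act w⟩
  refine Finite.of_injective f ?_
  intro w v hwv
  apply rep_injective cs (isCartan n)
  refine LinearMap.ext fun x => ?_
  have h1 : ∀ i, rep cs (isCartan n) w (sr i) = rep cs (isCartan n) v (sr i) := fun i =>
    congrArg Subtype.val (congrFun hwv i)
  have h2 : x = ∑ k, x k • sr k := by
    funext k
    simp [sr, Finset.sum_apply, Pi.single_apply]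
  rw [h2, map_sum, map_sum]
  exact Finset.sum_congr rfl fun k _ => by rw [map_smul, map_smul, h1]

end Root

end Cfsg.Agent.Nodes.TypeC
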