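import Mathlib
import Cfsg.Agent.Nodes.Perp
set_option linter.all false

/-!
# The relative frame lemma (project CIT, (B4) (K1), (K2))

* `rp_phi` : representatives of a subsystem;
* `stab` : an element of `GG` which carries the pairs `(Z (r i), Z (-r i))` of an orthogonal family to the pairs
  `(Z (r' i), Z (-r' i))` is the product of an element of `N` and an element of `DD (range r)`;
* `rel_frame` : opposite pairs commuting with the `KK (r i)` and with each other are moved by `DD (range r)` to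
  `(Z (s j), Z (-s j))`, `s j ∈ R` orthogonal.
-/

set_option autoImplicit false
set_option linter.unusedSectionVars false
set_option linter.dupNamespace false

namespace Cfsg.Agent.Nodes.RelFrame

open CoxeterSystem Cfsg.Agent.ChevalleyStructure.CoxeterGeom Cfsg.Agent.Tits.Roots Cfsg.Agent.Tits.Core
  Cfsg.Agent.Tits.RootComb Cfsg.Agent.Nodes.Comb Cfsg.Agent.Nodes.Reps Cfsg.Agent.Nodes.BNOf
  Cfsg.Agent.Nodes.RGDLib Cfsg.Agent.Nodes.Chart Cfsg.Agent.Nodes.StabComb Cfsg.Agent.Nodes.Bruhat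
  Cfsg.Agent.Nodes.ClsNorm Cfsg.Agent.Nodes.SubComb Cfsg.Agent.Nodes.Sub Cfsg.Agent.Nodes.ClsSub
  Cfsg.Agent.Nodes.Frame Cfsg.Agent.Nodes.Perp
open Cfsg.Agent.Cit.TypeDet (cm stp chn cm_symm cm_iff_le_centralizer cm_mono)
open Relation

section CmKK

variable {I W Y : Type*} [Fintype I] [DecidableEq I] [Group W] [Fintype W] [Group Y] {M : CoxeterMatrix I}
  {cs : CoxeterSystem M W} {A : I → I → ℤ} {h : IsCartan M A} {p : ℕ} {T : Subgroup Y} {n : I → Y}
  {X : (I → ℤ) → Subgroup Y} {R : Set (I → ℤ)} {Z : (I → ℤ) → Subgroup Y} {z : (I → ℤ) → Y}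

theorem cm_KK (C : Cls cs h p T n X R Z z) {r s : I → ℤ} (hr : r ∈ R) (hs : s ∈ R) (h0 : form cs h r s = 0) :
    cm (KK Z r) (KK Z s) := by
  rw [cm_iff_le_centralizer]
  have h1 : cm (X r) (KK Z s) := X_cm_KK C hs (C.root r hr) h0
  have h2 : cm (X (-r)) (KK Z s) := X_cm_KK C hs (C.root r hr).neg (by rw [form_neg_left, h0, neg_zero])
  refine sup_le ((C.le r hr).trans ?_) ((C.le _ (ClsNorm.neg_mem C hr)).trans ?_)
  · rw [← cm_iff_le_centralizer]; exact h1
  · rw [← cm_iff_le_centralizer]; exact h2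

end CmKK

section RpPhi

variable {I W J W' Y : Type*} [Fintype I] [DecidableEq I] [Group W] {M : CoxeterMatrix I}
  {cs : CoxeterSystem M W} {A : I → I → ℤ} {h : IsCartan M A}
  [Fintype J] [DecidableEq J] [Group W'] {M' : CoxeterMatrix J} {cs' : CoxeterSystem M' W'}
  {A' : J → J → ℤ} {h' : IsCartan M' A'} [Group Y] {T : Subgroup Y} {n : I → Y}
  {β : J → I → ℤ} {w : J → W} {i : J → I}

theorem rp_phi {hN : NSys M T n} (S : SubSys cs h A' β w i) {n' : J → Y} {hN' : NSys M' T n'}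
    (hn : ∀ j, Rp cs hN (rfl' cs (w j) (i j)) (n' j)) {v : W'} {k : Y} (hk : Rp cs' hN' v k) :
    Rp cs hN (S.phi cs' h' v) k := by
  have key : ∀ ω : List J, ∃ k, Rp cs' hN' (cs'.wordProd ω) k ∧ Rp cs hN (S.phi cs' h' (cs'.wordProd ω)) k := by
    intro ω
    induction ω with
    | nil => exact ⟨1, by rw [wordProd_nil]; exact rp_one, by rw [wordProd_nil, map_one]; exact rp_one⟩
    | cons j ω ih =>
      obtain ⟨k, h1, h2⟩ := ih
      refine ⟨n' j * k, ?_, ?_⟩
      · rw [wordProd_cons]; exact (rp_simple cs' hN' j).mul h1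
      · rw [wordProd_cons, map_mul, S.phi_simple]; exact (hn j).mul h2
  obtain ⟨ω, rfl⟩ := cs'.wordProd_surjective v
  obtain ⟨k₀, h1, h2⟩ := key ω
  have h3 := h1.unique hk
  have h4 : k = k₀ * (k₀⁻¹ * k) := by group
  rw [h4]
  exact h2.mul_mem_right h3

end RpPhi

universe u v in
/-- **The stabiliser of an orthogonal family.** -/
theorem stab (m : ℕ) : ∀ {I W : Type u} {Y : Type v} [Fintype I] [DecidableEq I] [Group W] [Fintype W] [Group Y]
    {M : CoxeterMatrix I} {cs : CoxeterSystem M W} {A : I → I → ℤ} {h : IsCartan M A} {p : ℕ} {T : Subgroup Y}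
    {n : I → Y} {X : (I → ℤ) → Subgroup Y} {R : Set (I → ℤ)} {Z : (I → ℤ) → Subgroup Y} {z : (I → ℤ) → Y}
    (C : Cls cs h p T n X R Z z) (r r' : Fin m → I → ℤ) (_ : ∀ i, r i ∈ R) (_ : ∀ i, r' i ∈ R)
    (_ : ∀ i j, i ≠ j → form cs h (r i) (r j) = 0) (_ : ∀ i j, i ≠ j → form cs h (r' i) (r' j) = 0)
    {g : Y} (_ : g ∈ GG cs h T X) (_ : ∀ i, cj g (Z (r i)) = Z (r' i)) (_ : ∀ i, cj g (Z (-r i)) = Z (-r' i)),
    ∃ w k, Rp cs C.rgd.nsys w k ∧ (∀ i, rep cs h w (r i) = r' i) ∧ ∃ d ∈ DD cs h X (Set.range r), g = k * d := by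
  induction m with
  | zero =>
    intro I W Y _ _ _ _ _ M cs A h p T n X R Z z C r r' hr hr' ho ho' g hg h1 h2
    have h3 : GG cs h T X = T ⊔ DD cs h X (Set.range r) := by
      unfold GG DD Perp
      congr 2
      ext x
      simp
    rw [h3] at hg
    have h4 := T_le_normalizer_DD C (Set.range r)
    rw [← SetLike.mem_coe, Subgroup.coe_mul_of_left_le_normalizer_right _ _ h4, Set.mem_mul] at hg
    obtain ⟨t, ht, d, hd, e⟩ := hg
    exact ⟨1, t, rp_of_mem ht, fun i => i.elim0, d, hd, e.symm⟩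
  | succ m ih =>
    intro I W Y _ _ _ _ _ M cs A h p T n X R Z z C r r' hr hr' ho ho' g hg h1 h2
    obtain ⟨w₁, hw₁⟩ := exists_dominant (cs := cs) (h := h) (r 0)
    obtain ⟨k₁, hk₁⟩ := exists_rp cs C.rgd.nsys w₁
    obtain ⟨w₂, hw₂⟩ := exists_dominant (cs := cs) (h := h) (r' 0)
    obtain ⟨k₂, hk₂⟩ := exists_rp cs C.rgd.nsys w₂
    set a := rep cs h w₁ (r 0) with ha
    set b := rep cs h w₂ (r' 0) with hb
    have haR : a ∈ R := C.act _ (hr 0) _
    have hbR : b ∈ R := C.act _ (hr' 0) _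
    set g₁ := k₂ * g * k₁⁻¹ with hg₁
    have hg₁G : g₁ ∈ GG cs h T X :=
      mul_mem (mul_mem (NN_le_GG C.rgd ⟨_, hk₂⟩) hg) (inv_mem (NN_le_GG C.rgd ⟨_, hk₁⟩))
    have cg₁ : ∀ i, cj g₁ (Z (rep cs h w₁ (r i))) = Z (rep cs h w₂ (r' i)) := fun i => by
      rw [hg₁, cj_mul, ← conj_Z C hk₁ (hr i), cj_inv_cj, cj_mul, h1, conj_Z C hk₂ (hr' i)]
    have cg₁' : ∀ i, cj g₁ (Z (-rep cs h w₁ (r i))) = Z (-rep cs h w₂ (r' i)) := fun i => by
      rw [← map_neg, ← map_neg, hg₁, cj_mul, ← conj_Z C hk₁ (ClsNorm.neg_mem C (hr i)), cj_inv_cj, cj_mul, h2,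
        conj_Z C hk₂ (ClsNorm.neg_mem C (hr' i))]
    obtain ⟨w₃, b₁, hb₁, k₃, hk₃, b₂, hb₂, e₁⟩ := (mem_GG C.rgd).1 hg₁G
    have hw₃ : rep cs h w₃ a = b := by
      apply Z_injective C (C.act _ haR _) hbR
      have h3 := cg₁ 0
      rw [← ha, ← hb, e₁, cj_mul, cj_mul, mem_normalizer_iff_cj.1 (B_le_normalizer C haR hw₁ hb₂),
        conj_Z C hk₃ haR] at h3
      rw [← cj_inv_cj b₁ (Z (rep cs h w₃ a)), h3,
        mem_normalizer_iff_cj.1 (inv_mem (B_le_normalizer C hbR hw₂ hb₁))]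
    set g₂ := k₃⁻¹ * g₁ with hg₂
    have hg₂G : g₂ ∈ GG cs h T X := mul_mem (inv_mem (NN_le_GG C.rgd ⟨_, hk₃⟩)) hg₁G
    have hg₂N : g₂ ∈ Subgroup.normalizer (Z a : Set Y) := by
      rw [mem_normalizer_iff_cj, hg₂, cj_mul, cg₁ 0, ← hb, ← hw₃, ← conj_Z C hk₃ haR, cj_inv_cj]
    have hg₂N' : g₂ ∈ Subgroup.normalizer (Z (-a) : Set Y) := by
      rw [mem_normalizer_iff_cj, hg₂, cj_mul, cg₁' 0, ← hb, ← hw₃, ← map_neg,
        ← conj_Z C hk₃ (ClsNorm.neg_mem C haR), cj_inv_cj]
    have hg₂L := mem_LJ_of_normalizes C haR hw₁ hg₂G hg₂N hg₂N'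
    -- the Levi subsystem
    set J : Set I := orth cs h a with hJ
    have : DecidablePred (· ∈ J) := Classical.decPred _
    let f : J ↪ I := Function.Embedding.subtype _
    have hfr : Set.range f = J := Subtype.range_coe
    let cs' : CoxeterSystem (leviMatrix f M) (leviMatrix f M).Group := (leviMatrix f M).toCoxeterSystem
    have hfin : Finite (leviMatrix f M).Group :=
      (levi_subSys (cs := cs) (h := h) f).finite cs' (levi_isCartan f h)
    let _ : Fintype (leviMatrix f M).Group := Fintype.ofFinite _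
    have C' := cls_levi C f cs'
    set β : J → I → ℤ := fun j => sr (f j) with hβ
    have hGG : GG cs' (levi_isCartan f h) T (fun c => X (iota β c)) = LJ cs h T X J := by
      rw [GG_levi (cs := cs) (h := h) f cs' T X, hfr]
    have hroot : ∀ x, IsRoot cs h x → form cs h x a = 0 →
        ∃ c, IsRoot cs' (levi_isCartan f h) c ∧ x = iota β c := by
      intro x hx h0
      refine (mem_RootsJ_range_iff (cs := cs) (h := h) f cs').1 ?_
      rw [hfr]
      exact (mem_RootsJ_orth_iff hw₁ hx).2 h0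
    have hroot' : ∀ c, IsRoot cs' (levi_isCartan f h) c →
        IsRoot cs h (iota β c) ∧ form cs h (iota β c) a = 0 := by
      intro c hc
      have h3 : iota β c ∈ RootsJ cs h (Set.range f) := (mem_RootsJ_range_iff (cs := cs) (h := h) f cs').2 ⟨c, hc, rfl⟩
      rw [hfr] at h3
      exact ⟨h3.1, (mem_RootsJ_orth_iff hw₁ h3.1).1 h3⟩
    have hform : ∀ c d, IsRoot cs' (levi_isCartan f h) d →
        (form cs h (iota β c) (iota β d) = 0 ↔ form cs' (levi_isCartan f h) c d = 0) := fun c d hd =>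
      form_iota_eq_zero_iff (cs' := cs') (h' := levi_isCartan f h) (levi_subSys f) c hd
    have hinj : Function.Injective (iota β) := (levi_subSys (cs := cs) (h := h) f).iota_injective
    have hc : ∀ i : Fin m, ∃ c, IsRoot cs' (levi_isCartan f h) c ∧ rep cs h w₁ (r i.succ) = iota β c := by
      intro i
      refine hroot _ (C.root _ (C.act _ (hr _) _)) ?_
      rw [ha, form_rep]
      exact ho _ _ (Fin.succ_ne_zero i)
    choose c hcr hci using hc
    have hc' : ∀ i : Fin m, ∃ c, IsRoot cs' (levi_isCartan f h) c ∧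
        rep cs h w₃⁻¹ (rep cs h w₂ (r' i.succ)) = iota β c := by
      intro i
      refine hroot _ (C.root _ (C.act _ (C.act _ (hr' _) _) _)) ?_
      rw [form_rep_left, inv_inv, hw₃, hb, form_rep]
      exact ho' _ _ (Fin.succ_ne_zero i)
    choose c' hcr' hci' using hc'
    have hk₃Z : ∀ x ∈ R, cj k₃⁻¹ (Z x) = Z (rep cs h w₃⁻¹ x) := fun x hx => conj_Z C hk₃.inv hx
    obtain ⟨v, k, hk, hvc, d, hd, e₂⟩ := ih C' c c' (fun i => ⟨hcr i, by rw [← hci]; exact C.act _ (hr _) _⟩)
      (fun i => ⟨hcr' i, by rw [← hci']; exact C.act _ (C.act _ (hr' _) _) _⟩)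
      (fun i j hij => by
        rw [← hform _ _ (hcr j), ← hci, ← hci, form_rep]
        exact ho _ _ fun h0 => hij (Fin.succ_injective _ h0))
      (fun i j hij => by
        rw [← hform _ _ (hcr' j), ← hci', ← hci', form_rep, form_rep]
        exact ho' _ _ fun h0 => hij (Fin.succ_injective _ h0))
      (g := g₂) (by rw [hGG]; exact hg₂L)
      (fun i => by
        rw [← hci, ← hci', hg₂, cj_mul, cg₁, hk₃Z _ (C.act _ (hr' _) _)])
      (fun i => by
        rw [map_neg, map_neg, ← hci, ← hci', hg₂, cj_mul, cg₁', hk₃Z _ (ClsNorm.neg_mem C (C.act _ (hr' _) _)),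
          map_neg])
    set φ := (levi_subSys (cs := cs) (h := h) f).phi cs' (levi_isCartan f h) v with hφ
    have hkφ : Rp cs C.rgd.nsys φ k := by
      refine rp_phi (levi_subSys (cs := cs) (h := h) f) (fun j => ?_) hk
      have h3 := rp_rfl' (rp_one (cs := cs) (hN := C.rgd.nsys)) (f j)
      rw [one_mul, inv_one, mul_one] at h3
      exact h3
    have hφι : ∀ c, rep cs h φ (iota β c) = iota β (rep cs' (levi_isCartan f h) v c) := fun c =>
      (levi_subSys (cs := cs) (h := h) f).rep_phi cs' (levi_isCartan f h) v c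
    have hφa : rep cs h φ a = a := by
      have h3 : k ∈ LJ cs h T X J := by
        rw [← hGG]
        exact NN_le_GG C'.rgd ⟨_, hk⟩
      exact (n_mem_normalizer_iff C haR hkφ).1 ((LJ_le_normalizer C haR hw₁).trans inf_le_left h3)
    -- `d`
    have hdD : d ∈ DD cs h X (Set.range fun i => rep cs h w₁ (r i)) := by
      have h3 : DD cs' (levi_isCartan f h) (fun c => X (iota β c)) (Set.range c) ≤
          DD cs h X (Set.range fun i => rep cs h w₁ (r i)) := by
        refine RGD.Sup_le fun x hx => ?_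
        refine X_le_DD (X := X) ⟨(hroot' x hx.1).1, ?_⟩
        rintro _ ⟨i, rfl⟩
        refine Fin.cases ?_ (fun i => ?_) i
        · exact (hroot' x hx.1).2
        · change form cs h (iota β x) (rep cs h w₁ (r i.succ)) = 0
          rw [hci, hform _ _ (hcr i)]
          exact hx.2 _ ⟨i, rfl⟩
      exact h3 hd
    refine ⟨w₂⁻¹ * w₃ * φ * w₁, k₂⁻¹ * k₃ * k * k₁, ((hk₂.inv.mul hk₃).mul hkφ).mul hk₁, ?_,
      k₁⁻¹ * d * k₁, ?_, ?_⟩
    · intro i
      rw [rep_mul_apply, rep_mul_apply, rep_mul_apply]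
      refine Fin.cases ?_ (fun i => ?_) i
      · rw [← ha, hφa, hw₃, hb, rep_inv_apply]
      · rw [hci, hφι, hvc, ← hci', rep_apply_inv, rep_inv_apply]
    · refine conj_mem_Sup' C.rgd hk₁ (fun x hx => hx.1) (fun x hx => ?_) hdD
      refine ⟨hx.1.act _, ?_⟩
      rintro _ ⟨i, rfl⟩
      rw [form_rep_left, inv_inv]
      exact hx.2 _ ⟨i, rfl⟩
    · have h3 : g = k₂⁻¹ * (k₃ * g₂) * k₁ := by rw [hg₂, hg₁]; group
      rw [h3, e₂]
      group

universe u v in
/-- **The relative frame lemma.** -/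
theorem rel_frame {I W : Type u} {Y : Type v} [Fintype I] [DecidableEq I] [Group W] [Fintype W] [Group Y]
    {M : CoxeterMatrix I} {cs : CoxeterSystem M W} {A : I → I → ℤ} {h : IsCartan M A} {p : ℕ} {T : Subgroup Y}
    {n : I → Y} {X : (I → ℤ) → Subgroup Y} {R : Set (I → ℤ)} {Z : (I → ℤ) → Subgroup Y} {z : (I → ℤ) → Y}
    (C : Cls cs h p T n X R Z z) {m m' : ℕ} (r : Fin m → I → ℤ) (hr : ∀ i, r i ∈ R)
    (ho : ∀ i j, i ≠ j → form cs h (r i) (r j) = 0) (K L : Fin m' → Subgroup Y)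
    (hK : ∀ j, IsCls cs h T X R Z (K j)) (hL : ∀ j, IsCls cs h T X R Z (L j))
    (hnp : ∀ j, ¬ IsPGroup p ↥(K j ⊔ L j)) (hcomm : ∀ i j, i ≠ j → cm (K i ⊔ L i) (K j ⊔ L j))
    (hcr : ∀ j i, cm (K j ⊔ L j) (KK Z (r i))) :
    ∃ d ∈ DD cs h X (Set.range r), ∃ s : Fin m' → I → ℤ, (∀ j, s j ∈ R) ∧
      (∀ j, s j ∈ Perp cs h (Set.range r)) ∧ (∀ j, cj d (K j) = Z (s j)) ∧ (∀ j, cj d (L j) = Z (-s j)) ∧
      ∀ i j, i ≠ j → form cs h (s i) (s j) = 0 := by
  obtain ⟨g, hg, u, hu, hgK, hgL, huo⟩ := frame (m + m') C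
    (Fin.append (fun i => Z (r i)) K) (Fin.append (fun i => Z (-r i)) L)
    (fun i => by
      refine Fin.addCases (fun i => ?_) (fun i => ?_) i
      · rw [Fin.append_left]; exact ⟨r i, hr i, 1, one_mem _, by rw [cj_one]⟩
      · rw [Fin.append_right]; exact hK i)
    (fun i => by
      refine Fin.addCases (fun i => ?_) (fun i => ?_) i
      · rw [Fin.append_left]; exact ⟨-r i, ClsNorm.neg_mem C (hr i), 1, one_mem _, by rw [cj_one]⟩
      · rw [Fin.append_right]; exact hL i)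
    (fun i => by
      refine Fin.addCases (fun i => ?_) (fun i => ?_) i
      · rw [Fin.append_left, Fin.append_left]; exact C.notp _ (hr i)
      · rw [Fin.append_right, Fin.append_right]; exact hnp i)
    (fun i j => by
      refine Fin.addCases (fun i => ?_) (fun i => ?_) i <;> refine Fin.addCases (fun j => ?_) (fun j => ?_) j
      · intro hij
        rw [Fin.append_left, Fin.append_left, Fin.append_left, Fin.append_left]
        refine (cm_KK C (hr i) (hr j) (ho i j fun h0 => hij (by rw [h0])) :)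
      · intro _
        rw [Fin.append_left, Fin.append_left, Fin.append_right, Fin.append_right]
        exact cm_symm (hcr j i)
      · intro _
        rw [Fin.append_right, Fin.append_right, Fin.append_left, Fin.append_left]
        exact hcr i j
      · intro hij
        rw [Fin.append_right, Fin.append_right, Fin.append_right, Fin.append_right]
        exact hcomm i j fun h0 => hij (by rw [h0]))
  have hgr : ∀ i, cj g (Z (r i)) = Z (u (Fin.castAdd m' i)) := fun i => by
    have := hgK (Fin.castAdd m' i)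
    rwa [Fin.append_left] at this
  have hgr' : ∀ i, cj g (Z (-r i)) = Z (-u (Fin.castAdd m' i)) := fun i => by
    have := hgL (Fin.castAdd m' i)
    rwa [Fin.append_left] at this
  obtain ⟨w, k, hk, hw, d, hd, e⟩ := stab m C r (fun i => u (Fin.castAdd m' i)) hr (fun i => hu _) ho
    (fun i j hij => huo _ _ fun h0 => hij (Fin.castAdd_injective m m' h0)) hg hgr hgr'
  have hdg : d = k⁻¹ * g := by rw [e]; group
  refine ⟨d, hd, fun j => rep cs h w⁻¹ (u (Fin.natAdd m j)), fun j => C.act _ (hu _) _, fun j => ⟨?_, ?_⟩,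
    fun j => ?_, fun j => ?_, fun i j hij => ?_⟩
  · exact (C.root _ (hu _)).act _
  · rintro _ ⟨i, rfl⟩
    rw [form_rep_left, inv_inv, hw]
    refine huo _ _ fun h0 => ?_
    have := congrArg Fin.val h0
    rw [Fin.val_natAdd, Fin.val_castAdd] at this
    omega
  · have := hgK (Fin.natAdd m j)
    rw [Fin.append_right] at this
    rw [hdg, cj_mul, this, conj_Z C hk.inv (hu _)]
  · have := hgL (Fin.natAdd m j)
    rw [Fin.append_right] at this
    rw [hdg, cj_mul, this, conj_Z C hk.inv (ClsNorm.neg_mem C (hu _)), map_neg]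
  · rw [form_rep]
    exact huo _ _ fun h0 => hij (Fin.natAdd_injective m' m h0)

end Cfsg.Agent.Nodes.RelFrame
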