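import Mathlib
import Cfsg.Agent.Nodes.ClsSub
set_option linter.all false

/-!
Standard Levi subsystems with prescribed Coxeter and Cartan matrix (project CIT, typed blocks).
-/

set_option autoImplicit false
set_option linter.unusedSectionVars false

namespace Cfsg.Agent.Nodes.LeviStd

open CoxeterSystem Cfsg.Agent.ChevalleyStructure.CoxeterGeom Cfsg.Agent.Tits.Roots Cfsg.Agent.Tits.Core
  Cfsg.Agent.Tits.RootComb Cfsg.Agent.Nodes.Comb Cfsg.Agent.Nodes.Reps
  Cfsg.Agent.Nodes.BNOf Cfsg.Agent.Nodes.RGDLib Cfsg.Agent.Nodes.Chart Cfsg.Agent.Nodes.StabComb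
  Cfsg.Agent.Nodes.Bruhat Cfsg.Agent.Nodes.LeviDec Cfsg.Agent.Nodes.SubComb Cfsg.Agent.Nodes.Sub
  Cfsg.Agent.Nodes.ClsSub

variable {I W J W' Y : Type*} [Fintype I] [DecidableEq I] [Group W] {M : CoxeterMatrix I}
  {cs : CoxeterSystem M W} {A : I → I → ℤ} {h : IsCartan M A}
  [Fintype J] [DecidableEq J] [Group W'] {M' : CoxeterMatrix J}
  {A' : J → J → ℤ} [Group Y] {p : ℕ} {T : Subgroup Y} {n : I → Y}
  {X : (I → ℤ) → Subgroup Y} {R : Set (I → ℤ)} {Z : (I → ℤ) → Subgroup Y} {z : (I → ℤ) → Y}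

theorem leviMatrix_eq (f : J ↪ I) (hM : ∀ i j, M (f i) (f j) = M' i j) : leviMatrix f M = M' := by
  ext i j
  exact hM i j

/-- Classical root groups of a standard Levi subsystem, with given matrices. -/
theorem cls_levi_of [Fintype W] [Fintype W'] (C : Cls cs h p T n X R Z z) (f : J ↪ I)
    (hM : ∀ i j, M (f i) (f j) = M' i j)
    (hA : ∀ i j, A (f i) (f j) = A' i j) (cs' : CoxeterSystem M' W') (h' : IsCartan M' A') :
    Cls cs' h' p T (fun j => n (f j)) (fun c => X (iota (fun j => sr (f j)) c))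
      {c | IsRoot cs' h' c ∧ iota (fun j => sr (f j)) c ∈ R}
      (fun c => Z (iota (fun j => sr (f j)) c)) (fun c => z (iota (fun j => sr (f j)) c)) := by
  obtain rfl : leviMatrix f M = M' := leviMatrix_eq f hM
  obtain rfl : (fun i j => A (f i) (f j)) = A' := by
    funext i j
    exact hA i j
  exact cls_levi C f cs'

/-- The same with an explicit set of classical roots. -/
theorem cls_levi_std [Fintype W] [Fintype W'] (C : Cls cs h p T n X R Z z) (f : J ↪ I)
    (hM : ∀ i j, M (f i) (f j) = M' i j)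
    (hA : ∀ i j, A (f i) (f j) = A' i j) (cs' : CoxeterSystem M' W') (h' : IsCartan M' A')
    {R' : Set (J → ℤ)} (hR : ∀ c ∈ R', IsRoot cs' h' c) (hR' : ∀ c, iota (fun j => sr (f j)) c ∈ R ↔ c ∈ R') :
    Cls cs' h' p T (fun j => n (f j)) (fun c => X (iota (fun j => sr (f j)) c)) R'
      (fun c => Z (iota (fun j => sr (f j)) c)) (fun c => z (iota (fun j => sr (f j)) c)) := by
  have h1 : {c | IsRoot cs' h' c ∧ iota (fun j => sr (f j)) c ∈ R} = R' := by
    ext c
    exact ⟨fun hc => (hR' c).1 hc.2, fun hc => ⟨hR c hc, (hR' c).2 hc⟩⟩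
  rw [← h1]
  exact cls_levi_of C f hM hA cs' h'

/-- The Weyl group of a standard Levi subsystem is finite. -/
theorem finite_of [Finite W] (cs : CoxeterSystem M W) (h : IsCartan M A) (f : J ↪ I)
    (hM : ∀ i j, M (f i) (f j) = M' i j) (cs' : CoxeterSystem M' W') : Finite W' := by
  obtain rfl : leviMatrix f M = M' := leviMatrix_eq f hM
  exact (levi_subSys (cs := cs) (h := h) f).finite cs' (levi_isCartan f h)

/-- The roots of a standard Levi subsystem. -/
theorem mem_RootsJ_range_iff' [Finite W] (f : J ↪ I) (hM : ∀ i j, M (f i) (f j) = M' i j)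
    (hA : ∀ i j, A (f i) (f j) = A' i j) (cs' : CoxeterSystem M' W') (h' : IsCartan M' A') {x : I → ℤ} :
    x ∈ RootsJ cs h (Set.range f) ↔ ∃ c, IsRoot cs' h' c ∧ x = iota (fun j => sr (f j)) c := by
  have := Fintype.ofFinite W
  have hf := finite_of cs h f hM cs'
  have := Fintype.ofFinite W'
  obtain rfl : leviMatrix f M = M' := leviMatrix_eq f hM
  obtain rfl : (fun i j => A (f i) (f j)) = A' := by
    funext i j
    exact hA i j
  exact mem_RootsJ_range_iff f cs'

end Cfsg.Agent.Nodes.LeviStd
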