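import Mathlib
import Cfsg.Agent.Nodes.TypeC
set_option linter.all false

/-!
Combinatorics of the root system of type `D_{n+2}` in terms of signed indices `Fin (n+2) × Bool`
(project CIT, charts of the groups `PΩ⁺`).

* `bt i` : the simple root `α_i` in `ε`-coordinates (`α_i = ε_i - ε_{i+1}` for `i ≤ n`, `α_{n+1} = ε_n + ε_{n+1}`);
* `M n` : the Coxeter matrix, `A n` : the Cartan matrix, `isCartan : IsCartan (M n) (A n)`;
* `ee` : the passage to `ε`-coordinates, `ee_refl`, `ee_injective`;
* `sg i` : the action of the simple reflections on signed indices, `sg_braid`;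
* `isRoot_iff` : `x` is a root iff `ee x = wt a + wt b` with `a.1 ≠ b.1`;
* `finite_W`.
-/

set_option autoImplicit false
set_option linter.unusedSimpArgs false
set_option linter.unnecessarySeqFocus false

namespace Cfsg.Agent.Nodes.TypeD

open Cfsg.Agent.ChevalleyStructure.CoxeterGeom Cfsg.Agent.Tits.Roots Cfsg.Agent.Nodes.TypeC

variable {n : ℕ}

/-- The index `n` of `Fin (n+2)`. -/
def pd (n : ℕ) : Fin (n + 2) := ⟨n, by omega⟩

/-- The second signed index of a simple root. -/
def nx (i : Fin (n + 2)) : Fin (n + 2) × Bool :=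
  if h : (i : ℕ) + 1 < n + 2 then (⟨i + 1, h⟩, false) else (pd n, true)

/-- The simple root `α_i` in `ε`-coordinates. -/
def bt (i : Fin (n + 2)) : Fin (n + 2) → ℤ := wt (i, true) + wt (nx i)

theorem bt_apply (i k : Fin (n + 2)) : bt i k =
    if (i : ℕ) + 1 < n + 2 then (if (k : ℕ) = i then 1 else if (k : ℕ) = i + 1 then -1 else 0)
      else (if (k : ℕ) = i then 1 else if (k : ℕ) = n then 1 else 0) := by
  have := i.2
  rw [bt, Pi.add_apply, wt_apply, wt_apply, nx]
  split_ifs <;> simp_all [Fin.ext_iff, pd] <;> omega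

/-- The simple reflections on signed indices. -/
def sg (i : Fin (n + 2)) (x : Fin (n + 2) × Bool) : Fin (n + 2) × Bool :=
  if h : (i : ℕ) + 1 < n + 2 then
    (if x.1 = i then (⟨i + 1, h⟩, x.2) else if x.1 = ⟨i + 1, h⟩ then (i, x.2) else x)
  else if x.1 = i then (pd n, !x.2) else if x.1 = pd n then (i, !x.2) else x

/-- The coroot functional of `α_i` on `ε`-vectors. -/
def Cf (i : Fin (n + 2)) (u : Fin (n + 2) → ℤ) : ℤ :=
  if h : (i : ℕ) + 1 < n + 2 then u i - u ⟨i + 1, h⟩ else u i + u (pd n)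

theorem Cf_add (i : Fin (n + 2)) (u v : Fin (n + 2) → ℤ) : Cf i (u + v) = Cf i u + Cf i v := by
  unfold Cf; split_ifs <;> simp only [Pi.add_apply] <;> ring

theorem Cf_smul (i : Fin (n + 2)) (c : ℤ) (u : Fin (n + 2) → ℤ) : Cf i (c • u) = c * Cf i u := by
  unfold Cf; split_ifs <;> simp only [Pi.smul_apply, smul_eq_mul] <;> ring

theorem Cf_sum (i : Fin (n + 2)) (f : Fin (n + 2) → Fin (n + 2) → ℤ) :
    Cf i (∑ j, f j) = ∑ j, Cf i (f j) := by
  unfold Cf; split_ifs
  · simp only [Finset.sum_apply, ← Finset.sum_sub_distrib]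
  · simp only [Finset.sum_apply, ← Finset.sum_add_distrib]

theorem wt_sg (i : Fin (n + 2)) (x : Fin (n + 2) × Bool) : wt (sg i x) = wt x - Cf i (wt x) • bt i := by
  funext k
  obtain ⟨j, s⟩ := x
  rw [Pi.sub_apply, Pi.smul_apply, bt_apply, smul_eq_mul]
  unfold sg Cf
  by_cases h : (i : ℕ) + 1 < n + 2
  · simp only [h, dif_pos, if_true]
    by_cases h1 : j = i
    · subst h1
      simp only [if_true, wt_apply]
      have : (⟨(j : ℕ) + 1, h⟩ : Fin (n + 2)) ≠ j := by simp [Fin.ext_iff]
      simp only [this, if_false, Fin.ext_iff, if_true, sub_zero]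
      cases s <;> simp <;> split_ifs <;> simp_all
    · by_cases h2 : j = ⟨(i : ℕ) + 1, h⟩
      · subst h2
        have : i ≠ (⟨(i : ℕ) + 1, h⟩ : Fin (n + 2)) := by simp [Fin.ext_iff]
        simp only [this, this.symm, if_true, if_false, wt_apply, Fin.ext_iff]
        cases s <;> simp <;> split_ifs <;> simp_all
      · simp only [h1, h2, if_false, wt_apply, Ne.symm h1, Ne.symm h2]
        simp
  · simp only [h, dif_neg, if_false, not_false_eq_true]
    have hi : (i : ℕ) = n + 1 := by have := i.2; omega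
    have hip : i ≠ pd n := by intro h'; have := congrArg Fin.val h'; simp [pd] at this; omega
    by_cases h1 : j = i
    · subst h1
      simp only [if_true, wt_apply, Fin.ext_iff, pd, hi]
      cases s <;> simp <;> split_ifs <;> simp_all
    · by_cases h2 : j = pd n
      · subst h2
        simp only [if_true, wt_apply, hip.symm, hip, if_false, Fin.ext_iff, pd, hi]
        cases s <;> simp <;> split_ifs <;> simp_all
      · simp only [h1, h2, if_false, wt_apply, Ne.symm h1, Ne.symm h2]
        simp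

theorem sg_fst_eq (i : Fin (n + 2)) {x y : Fin (n + 2) × Bool} : (sg i x).1 = (sg i y).1 ↔ x.1 = y.1 := by
  obtain ⟨a, s⟩ := x
  obtain ⟨b, t⟩ := y
  have := i.2
  unfold sg pd
  split_ifs <;> simp_all [Fin.ext_iff] <;> omega

theorem sg_ng (i : Fin (n + 2)) (x : Fin (n + 2) × Bool) : sg i (ng x) = ng (sg i x) := by
  unfold sg ng
  split_ifs <;> simp_all

theorem sg_sg (i : Fin (n + 2)) (x : Fin (n + 2) × Bool) : sg i (sg i x) = x := by
  obtain ⟨a, s⟩ := x
  have := i.2
  unfold sg pd
  split_ifs <;> simp_all [Fin.ext_iff]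

/-- Adjacency in the diagram. -/
def Adj (i j : Fin (n + 2)) : Prop :=
  (j : ℕ) < n + 1 ∧ (i : ℕ) + 1 = j ∨ (j : ℕ) = n + 1 ∧ (i : ℕ) + 2 = j

instance (i j : Fin (n + 2)) : Decidable (Adj i j) := by unfold Adj; infer_instance

/-- The Coxeter matrix of type `D_{n+2}`. -/
def M (n : ℕ) : CoxeterMatrix (Fin (n + 2)) where
  M := Matrix.of fun i j => if i = j then 1 else if Adj i j ∨ Adj j i then 3 else 2
  isSymm := by
    ext i j
    simp only [Matrix.transpose_apply, Matrix.of_apply, eq_comm (a := i), or_comm (a := Adj i j)]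
  diagonal i := by simp
  off_diagonal i j hij := by
    simp only [Matrix.of_apply, if_neg hij]
    split_ifs <;> simp

/-- The Cartan matrix of type `D_{n+2}`. -/
def A (n : ℕ) (i j : Fin (n + 2)) : ℤ := Cf i (bt j)

theorem A_apply (i j : Fin (n + 2)) : A n i j = if i = j then 2 else if Adj i j ∨ Adj j i then -1 else 0 := by
  unfold A Cf Adj
  have := i.2
  have := j.2
  simp only [bt_apply, Fin.ext_iff, pd]
  split_ifs <;> omega

theorem M_apply (i j : Fin (n + 2)) : M n i j = if i = j then 1 else if Adj i j ∨ Adj j i then 3 else 2 := rfl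

theorem isCartan (n : ℕ) : IsCartan (M n) (A n) where
  diag i := by rw [A_apply, if_pos rfl]
  rel i j hij := by
    have hji : j ≠ i := hij.symm
    rw [A_apply, A_apply, if_neg hij, if_neg hji, M_apply, if_neg hij]
    by_cases h : Adj i j ∨ Adj j i
    · rw [if_pos h, if_pos (Or.symm h), if_pos h]; simp
    · rw [if_neg h, if_neg (fun h' => h (Or.symm h')), if_neg h]; simp

/-! ### Coordinates -/

/-- The passage to `ε`-coordinates. -/
def ee (x : Fin (n + 2) → ℤ) : Fin (n + 2) → ℤ := ∑ j, x j • bt j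

theorem ee_add (x y : Fin (n + 2) → ℤ) : ee (x + y) = ee x + ee y := by
  simp only [ee, Pi.add_apply, add_smul, Finset.sum_add_distrib]

theorem ee_smul (c : ℤ) (x : Fin (n + 2) → ℤ) : ee (c • x) = c • ee x := by
  simp only [ee, Pi.smul_apply, smul_eq_mul, mul_smul, Finset.smul_sum]

theorem ee_neg (x : Fin (n + 2) → ℤ) : ee (-x) = -ee x := by
  have := ee_smul (-1) x
  simpa using this

theorem ee_single (i : Fin (n + 2)) (c : ℤ) : ee (Pi.single i c) = c • bt i := by
  unfold ee
  rw [Finset.sum_eq_single i]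
  · simp
  · intro j _ hj
    simp [hj]
  · simp

theorem ee_sr (i : Fin (n + 2)) : ee (sr i) = bt i := by rw [sr, ee_single, one_smul]

theorem Cf_ee (i : Fin (n + 2)) (x : Fin (n + 2) → ℤ) : Cf i (ee x) = pairing (A n) i x := by
  unfold ee pairing
  rw [Cf_sum]
  exact Finset.sum_congr rfl fun j _ => by rw [Cf_smul, mul_comm]; rfl

theorem ee_refl (i : Fin (n + 2)) (x : Fin (n + 2) → ℤ) : ee (refl (A n) i x) = ee x - Cf i (ee x) • bt i := by
  rw [refl_apply, sub_eq_add_neg, ee_add, ee_neg, ee_single, Cf_ee, sub_eq_add_neg]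

theorem ee_refl_of {i : Fin (n + 2)} {x : Fin (n + 2) → ℤ} {a b : Fin (n + 2) × Bool} (h : ee x = wt a + wt b) :
    ee (refl (A n) i x) = wt (sg i a) + wt (sg i b) := by
  rw [ee_refl, h, Cf_add, wt_sg, wt_sg, add_smul]; abel

/-- partial sums -/
theorem sum_bt (i m : Fin (n + 2)) : ∑ k ∈ Finset.Iic m, bt i k =
    if (i : ℕ) + 1 < n + 2 then (if m = i then 1 else 0)
      else (if (m : ℕ) = n then 1 else if (m : ℕ) = n + 1 then 2 else 0) := by
  simp only [bt, Pi.add_apply, Finset.sum_add_distrib, wt, Finset.sum_pi_single', Finset.mem_Iic]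
  unfold nx pd
  have := m.2
  have := i.2
  by_cases h : (i : ℕ) + 1 < n + 2
  · simp only [h, dif_pos, if_true, Fin.le_def, Fin.ext_iff]
    split_ifs <;> simp_all <;> omega
  · simp only [h, dif_neg, if_false, not_false_eq_true, Fin.le_def]
    split_ifs <;> simp_all <;> omega

theorem ee_injective : Function.Injective (ee (n := n)) := by
  intro x y hxy
  have key : ∀ (x : Fin (n + 2) → ℤ) (m : Fin (n + 2)), ∑ k ∈ Finset.Iic m, ee x k =
      if (m : ℕ) < n then x m else if (m : ℕ) = n then x m + x (Fin.last (n + 1)) else 2 * x m := by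
    intro x m
    have h1 : ∀ k, ee x k = ∑ j, x j * bt j k := by
      intro k
      simp [ee, Finset.sum_apply]
    simp only [h1]
    rw [Finset.sum_comm]
    simp only [← Finset.mul_sum, sum_bt]
    have hm := m.2
    rw [Fin.sum_univ_castSucc]
    have h2 : ∀ i : Fin (n + 1), ((i.castSucc : Fin (n + 2)) : ℕ) + 1 < n + 2 := fun i => by
      have := i.2
      simp only [Fin.val_castSucc]
      omega
    have h3 : ¬ ((Fin.last (n + 1) : Fin (n + 2)) : ℕ) + 1 < n + 2 := by simp
    simp only [h2, h3, if_true, if_false]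
    by_cases h4 : (m : ℕ) < n + 1
    · have h5 : m = (⟨m, h4⟩ : Fin (n + 1)).castSucc := by ext; simp
      rw [Finset.sum_eq_single (⟨m, h4⟩ : Fin (n + 1))]
      · rw [← h5, if_pos rfl]
        split_ifs <;> first | omega | ring
      · intro j _ hj
        rw [if_neg, mul_zero]
        intro h'
        apply hj
        ext
        have := congrArg Fin.val h'
        simpa using this.symm
      · simp
    · have h5 : m = Fin.last (n + 1) := by ext; simp; omega
      rw [Finset.sum_eq_zero]
      · subst h5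
        have h6 : ((Fin.last (n + 1) : Fin (n + 2)) : ℕ) = n + 1 := by simp
        rw [h6, if_neg (by omega), if_pos rfl, if_neg (by omega), if_neg (by omega)]
        ring
      · intro j _
        rw [if_neg, mul_zero]
        rintro h'
        have := congrArg Fin.val h'
        have hj := j.2
        simp at this
        omega
  have hlast : x (Fin.last (n + 1)) = y (Fin.last (n + 1)) := by
    have h1 := key x (Fin.last (n + 1))
    have h2 := key y (Fin.last (n + 1))
    rw [hxy] at h1
    have h3 := h1.symm.trans h2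
    have h6 : ((Fin.last (n + 1) : Fin (n + 2)) : ℕ) = n + 1 := by simp
    rw [h6, if_neg (by omega), if_neg (by omega), if_neg (by omega), if_neg (by omega)] at h3
    linarith
  funext m
  have h1 := key x m
  have h2 := key y m
  rw [hxy] at h1
  have h3 := h1.symm.trans h2
  rw [hlast] at h3
  split_ifs at h3 <;> linarith

/-! ### Roots -/

section Root

variable {W : Type*} [Group W] (cs : CoxeterSystem (M n) W)

/-- Admissible pairs of signed indices. -/
def Ok (a b : Fin (n + 2) × Bool) : Prop := a.1 ≠ b.1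

theorem Ok.symm {a b : Fin (n + 2) × Bool} (h : Ok a b) : Ok b a := Ne.symm h

theorem Ok.sg {a b : Fin (n + 2) × Bool} (h : Ok a b) (i : Fin (n + 2)) : Ok (sg i a) (sg i b) :=
  fun h' => h ((sg_fst_eq i).1 h')

theorem Ok.ng {a b : Fin (n + 2) × Bool} (h : Ok a b) : Ok (ng a) (ng b) := h

theorem ok_nx (i : Fin (n + 2)) : Ok (i, true) (nx i) := by
  have := i.2
  unfold Ok nx pd
  split_ifs with h
  · simp [Fin.ext_iff]
  · simp [Fin.ext_iff]; omega

theorem exists_of_isRoot {x : Fin (n + 2) → ℤ} (hx : IsRoot cs (isCartan n) x) :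
    ∃ a b, Ok a b ∧ ee x = wt a + wt b := by
  obtain ⟨w, i, rfl⟩ := hx
  induction w using cs.simple_induction_left with
  | one =>
    rw [map_one, Module.End.one_apply]
    exact ⟨(i, true), nx i, ok_nx i, ee_sr i⟩
  | mul_simple_left w j ih =>
    obtain ⟨a, b, hab, h⟩ := ih
    exact ⟨sg j a, sg j b, hab.sg j, by rw [rep_mul_apply, rep_simple, ee_refl_of h]⟩

/-- there is a root with given `ε`-coordinates -/
def Rt (a b : Fin (n + 2) × Bool) : Prop := ∃ x, IsRoot cs (isCartan n) x ∧ ee x = wt a + wt b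

variable {cs}

theorem Rt.symm {a b : Fin (n + 2) × Bool} (h : Rt cs a b) : Rt cs b a := by
  obtain ⟨x, hx, e⟩ := h
  exact ⟨x, hx, e.trans (add_comm (wt a) (wt b))⟩

theorem Rt.neg {a b : Fin (n + 2) × Bool} (h : Rt cs a b) : Rt cs (ng a) (ng b) := by
  obtain ⟨x, hx, e⟩ := h
  exact ⟨-x, hx.neg, by rw [ee_neg, e, wt_ng, wt_ng]; abel⟩

theorem Rt.sg {a b : Fin (n + 2) × Bool} (h : Rt cs a b) (i : Fin (n + 2)) : Rt cs (sg i a) (sg i b) := by
  obtain ⟨x, hx, e⟩ := h
  refine ⟨refl (A n) i x, ?_, ee_refl_of e⟩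
  have := hx.act (cs.simple i)
  rwa [rep_simple] at this

theorem rt_simple (i : Fin (n + 2)) : Rt cs (i, true) (nx i) := ⟨sr i, isRoot_sr cs _ i, ee_sr i⟩

theorem sg_of_ne {i : Fin (n + 2)} (hi : (i : ℕ) + 1 < n + 2) {x : Fin (n + 2) × Bool} (h1 : x.1 ≠ i)
    (h2 : (x.1 : ℕ) ≠ i + 1) : TypeD.sg i x = x := by
  unfold TypeD.sg
  split_ifs <;> simp_all [Fin.ext_iff]

theorem sg_up {i : Fin (n + 2)} (h : (i : ℕ) + 1 < n + 2) (s : Bool) : TypeD.sg i (i, s) = (⟨i + 1, h⟩, s) := by
  simp [TypeD.sg, h]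

theorem sg_down {i : Fin (n + 2)} (h : (i : ℕ) + 1 < n + 2) (s : Bool) :
    TypeD.sg i (⟨i + 1, h⟩, s) = (i, s) := by
  simp [TypeD.sg, h, Fin.ext_iff]

theorem sg_last {i : Fin (n + 2)} (h : ¬ (i : ℕ) + 1 < n + 2) (s : Bool) : TypeD.sg i (i, s) = (pd n, !s) := by
  simp [TypeD.sg, h]

theorem sg_last_of_ne {i : Fin (n + 2)} (h : ¬ (i : ℕ) + 1 < n + 2) {x : Fin (n + 2) × Bool} (h1 : (x.1 : ℕ) < n) :
    TypeD.sg i x = x := by
  unfold TypeD.sg pd
  split_ifs <;> simp_all [Fin.ext_iff] <;> omega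

/-- `ε_k - ε_m`, `k < m` -/
theorem rt_sub (d : ℕ) : ∀ (k m : Fin (n + 2)), (k : ℕ) + d + 1 = m → Rt cs (k, true) (m, false) := by
  induction d with
  | zero =>
    intro k m hkm
    have h := rt_simple (cs := cs) k
    have h1 : nx k = (m, false) := by
      unfold nx
      have hk : (k : ℕ) + 1 < n + 2 := by have := m.2; omega
      rw [dif_pos hk]
      congr 1
      exact Fin.ext (by simpa using hkm)
    rwa [h1] at h
  | succ d ih =>
    intro k m hkm
    have hm := m.2
    have hm' : (k : ℕ) + d + 1 < n + 2 := by omega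
    have hi : ((⟨(k : ℕ) + d + 1, hm'⟩ : Fin (n + 2)) : ℕ) + 1 < n + 2 := by simp; omega
    have h1 := (ih k ⟨(k : ℕ) + d + 1, hm'⟩ rfl).sg ⟨(k : ℕ) + d + 1, hm'⟩
    rw [sg_of_ne hi (by simp [Fin.ext_iff]; omega) (by simp; omega), sg_up hi] at h1
    convert h1 using 2
    exact Fin.ext (by simp; omega)

/-- `ε_k + ε_m`, `k < m ≤ n` -/
theorem rt_add (d : ℕ) : ∀ (k m : Fin (n + 2)), (k : ℕ) < m → (m : ℕ) + d = n → Rt cs (k, true) (m, true) := by
  induction d with
  | zero =>
    intro k m hkm hm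
    have h1 := (rt_sub (cs := cs) (n + 1 - k - 1) k (Fin.last (n + 1)) (by simp; omega)).sg (Fin.last (n + 1))
    rw [sg_last_of_ne (by simp) (by simp; omega), sg_last (by simp)] at h1
    have h2 : m = pd n := Fin.ext (by simp [pd]; omega)
    rw [h2]
    exact h1
  | succ d ih =>
    intro k m hkm hm
    have h1 := (ih k ⟨(m : ℕ) + 1, by omega⟩ (by simp; omega) (by simp; omega)).sg m
    rwa [sg_of_ne (by omega) (by simp [Fin.ext_iff]; omega) (by simp; omega), sg_down] at h1

/-- `ε_k + ε_{n+1}`, `k < n + 1` -/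
theorem rt_add_last (k : Fin (n + 2)) (hk : (k : ℕ) < n + 1) : Rt cs (k, true) (Fin.last (n + 1), true) := by
  by_cases h : (k : ℕ) < n
  · have h1 := (rt_add (cs := cs) 0 k (pd n) (by simpa [pd] using h) (by simp [pd])).sg (pd n)
    rw [sg_of_ne (by simp [pd]) (by simp [Fin.ext_iff, pd]; omega) (by simp [pd]; omega),
      sg_up (by simp [pd])] at h1
    exact h1
  · have h1 := rt_simple (cs := cs) (Fin.last (n + 1))
    have h2 : nx (Fin.last (n + 1)) = (k, true) := by
      unfold nx
      rw [dif_neg (by simp)]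
      congr 1
      exact Fin.ext (by simp [pd]; omega)
    rw [h2] at h1
    exact h1.symm

theorem rt_of_ok {a b : Fin (n + 2) × Bool} (h : Ok a b) : Rt cs a b := by
  have key : ∀ a b : Fin (n + 2) × Bool, (a.1 : ℕ) < b.1 → Rt cs a b := by
    rintro ⟨i, s⟩ ⟨j, t⟩ hij
    simp only at hij
    have hj := j.2
    have h1 : Rt cs (i, true) (j, true) := by
      by_cases hjn : (j : ℕ) ≤ n
      · exact rt_add (cs := cs) (n - j) i j hij (by omega)
      · have h2 : j = Fin.last (n + 1) := Fin.ext (by simp; omega)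
        rw [h2]
        exact rt_add_last i (by omega)
    have h2 := rt_sub (cs := cs) (j - i - 1) i j (by omega)
    have h3 := h1.neg
    have h4 := h2.neg
    cases s <;> cases t
    · exact h3
    · exact h4
    · exact h2
    · exact h1
  rcases lt_or_gt_of_ne (fun h' => h (Fin.ext h') : (a.1 : ℕ) ≠ b.1) with h1 | h1
  · exact key a b h1
  · exact (key b a h1).symm

/-- The root with `ε`-coordinates `wt a + wt b`. -/
theorem isRoot_iff {x : Fin (n + 2) → ℤ} :
    IsRoot cs (isCartan n) x ↔ ∃ a b, Ok a b ∧ ee x = wt a + wt b := by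
  constructor
  · exact exists_of_isRoot cs
  · rintro ⟨a, b, hab, e⟩
    obtain ⟨y, hy, e'⟩ := rt_of_ok (cs := cs) hab
    rwa [ee_injective (e.trans e'.symm)]

/-- The pair of signed indices is determined up to order. -/
theorem wt_add_eq {a b c d : Fin (n + 2) × Bool} (hab : Ok a b) (hcd : Ok c d) (e : wt a + wt b = wt c + wt d) :
    (a = c ∧ b = d) ∨ (a = d ∧ b = c) := TypeC.wt_add_eq (Or.inl hab) (Or.inl hcd) e

/-! ### The braid relations on signed indices, finiteness -/

variable (cs)

include cs in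
/-- `2 ε_a` is in the root lattice -/
theorem exists_long (a : Fin (n + 2) × Bool) : ∃ x : Fin (n + 2) → ℤ, ee x = wt a + wt a := by
  obtain ⟨b, hb⟩ : ∃ b : Fin (n + 2) × Bool, Ok a b := by
    by_cases h : a.1 = 0
    · exact ⟨(Fin.last (n + 1), true), by unfold Ok; rw [h]; simp [Fin.ext_iff]⟩
    · exact ⟨(0, true), h⟩
  obtain ⟨x, -, e⟩ := rt_of_ok (cs := cs) hb
  obtain ⟨y, -, e'⟩ := rt_of_ok (cs := cs) (a := a) (b := ng b) hb
  exact ⟨x + y, by rw [ee_add, e, e', wt_ng]; abel⟩

theorem iterate_sg (i j : Fin (n + 2)) (m : ℕ) {x : Fin (n + 2) → ℤ} {a b : Fin (n + 2) × Bool}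
    (e : ee x = wt a + wt b) : ee (rep cs (isCartan n) ((cs.simple i * cs.simple j) ^ m) x) =
      wt ((fun y => sg i (sg j y))^[m] a) + wt ((fun y => sg i (sg j y))^[m] b) := by
  induction m with
  | zero => rw [pow_zero, map_one, Module.End.one_apply]; exact e
  | succ m ih =>
    rw [pow_succ', rep_mul_apply, rep_mul_apply, rep_simple, rep_simple,
      ee_refl_of (ee_refl_of ih), Function.iterate_succ_apply', Function.iterate_succ_apply']

theorem sg_braid (i j : Fin (n + 2)) (a : Fin (n + 2) × Bool) :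
    (fun y => sg i (sg j y))^[M n i j] a = a := by
  let cs := (M n).toCoxeterSystem
  obtain ⟨x, e⟩ := exists_long cs a
  have h1 := iterate_sg cs i j (M n i j) e
  rw [cs.simple_mul_simple_pow, map_one, Module.End.one_apply, e] at h1
  rcases TypeC.wt_add_eq (Or.inr rfl) (Or.inr rfl) h1 with h | h
  · exact h.1.symm
  · exact h.1.symm

include cs in
theorem finite_W : Finite W := by
  have hfin : {x | IsRoot cs (isCartan n) x}.Finite := by
    have h1 : {x | IsRoot cs (isCartan n) x} ⊆ ee ⁻¹' (Set.range fun q : (Fin (n + 2) × Bool) × (Fin (n + 2) × Bool) =>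
        wt q.1 + wt q.2) := by
      intro x hx
      obtain ⟨a, b, -, e⟩ := exists_of_isRoot cs hx
      exact ⟨(a, b), e.symm⟩
    exact ((Set.finite_range _).preimage ee_injective.injOn).subset h1
  have : Finite {x | IsRoot cs (isCartan n) x} := hfin
  let f : W → (Fin (n + 2) → {x | IsRoot cs (isCartan n) x}) := fun w i =>
    ⟨rep cs (isCartan n) w (sr i), (isRoot_sr cs _ i).act w⟩
  refine Finite.of_injective f ?_
  intro w v hwv
  apply rep_injective cs (isCartan n)
  refine LinearMap.ext fun x => ?_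
  have h1 : ∀ i, rep cs (isCartan n) w (sr i) = rep cs (isCartan n) v (sr i) := fun i =>
    congrArg Subtype.val (congrFun hwv i)
  have h2 : x = ∑ k, x k • sr k := by
    funext k
    simp [sr, Finset.sum_apply, Pi.single_apply]
  rw [h2, map_sum, map_sum]
  exact Finset.sum_congr rfl fun k _ => by rw [map_smul, map_smul, h1]

end Root

end Cfsg.Agent.Nodes.TypeD
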