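import Mathlib
import Cfsg.Agent.Nodes.Ty
import Cfsg.Agent.Nodes.LeviStd
set_option linter.all false

/-!
Typed charts in standard form (project CIT).

`c : Chart Om p L` with `c.IsTy τ` gives classical data over the standard Coxeter and Cartan matrix of `τ`, index type
`Fin τ.rk`, with any prescribed `W`-stable set `R'` of roots which contains the same simple roots.

* `iota_equiv`, `isRoot_comp_iff`, `rep_comp`, `mem_R_iff`, `cls_reindex`, `G1_reindex` : change of the index type;
* `reindex` : change of the index type of a chart;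
* `exists_chart_of_isTy` : standardisation.
-/

set_option autoImplicit false
set_option linter.unusedSectionVars false

namespace Cfsg.Agent.Nodes.TyStd

open CoxeterSystem Cfsg.Agent.ChevalleyStructure.CoxeterGeom Cfsg.Agent.Tits.Roots Cfsg.Agent.Tits.Core
  Cfsg.Agent.Tits.RootComb Cfsg.Agent.Nodes.Comb Cfsg.Agent.Nodes.Reps
  Cfsg.Agent.Nodes.BNOf Cfsg.Agent.Nodes.RGDLib Cfsg.Agent.Nodes.Chart Cfsg.Agent.Nodes.StabComb
  Cfsg.Agent.Nodes.Bruhat Cfsg.Agent.Nodes.LeviDec Cfsg.Agent.Nodes.SubComb Cfsg.Agent.Nodes.Sub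
  Cfsg.Agent.Nodes.ClsSub Cfsg.Agent.Nodes.LeviStd

section Reindex

variable {I W J W' Y : Type*} [Fintype I] [DecidableEq I] [Group W] {M : CoxeterMatrix I}
  {cs : CoxeterSystem M W} {A : I → I → ℤ} {h : IsCartan M A}
  [Fintype J] [DecidableEq J] [Group W'] {M' : CoxeterMatrix J}
  {A' : J → J → ℤ} [Group Y] {p : ℕ} {T : Subgroup Y} {n : I → Y}
  {X : (I → ℤ) → Subgroup Y} {R : Set (I → ℤ)} {Z : (I → ℤ) → Subgroup Y} {z : (I → ℤ) → Y}

/-- Reindexing of vectors. -/
theorem iota_equiv (e : I ≃ J) (x : J → ℤ) : iota (fun j => sr (e.symm j)) x = fun i => x (e i) := by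
  funext i
  have h1 := iota_levi_apply e.symm.toEmbedding x (e i)
  rw [Equiv.coe_toEmbedding, Equiv.symm_apply_apply] at h1
  exact h1

theorem sr_comp_equiv (e : I ≃ J) (j : J) : (fun i => (sr j : J → ℤ) (e i)) = sr (e.symm j) := by
  rw [← iota_equiv, iota_sr]

/-- The roots correspond. -/
theorem isRoot_comp_iff [Finite W] (e : I ≃ J) (hM : ∀ i j, M i j = M' (e i) (e j))
    (hA : ∀ i j, A i j = A' (e i) (e j)) (cs' : CoxeterSystem M' W') (h' : IsCartan M' A') {x : J → ℤ} :
    IsRoot cs h (fun i => x (e i)) ↔ IsRoot cs' h' x := by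
  have h1 := mem_RootsJ_range_iff' (cs := cs) (h := h) (x := fun i => x (e i)) e.symm.toEmbedding
    (fun i j => by rw [hM]; simp) (fun i j => by rw [hA]; simp) cs' h'
  have h2 : (fun i => x (e i)) ∈ RootsJ cs h (Set.range e.symm.toEmbedding) ↔ IsRoot cs h (fun i => x (e i)) := by
    constructor
    · exact fun h => h.1
    · intro h
      refine ⟨h, fun k hk => absurd ?_ hk⟩
      exact ⟨e k, by simp⟩
  rw [← h2, h1]
  constructor
  · rintro ⟨c, hc, e1⟩
    have : x = c := by
      have h3 : iota (fun j => sr (e.symm.toEmbedding j)) c = fun i => c (e i) := iota_equiv e c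
      rw [h3] at e1
      funext j
      have := congrFun e1 (e.symm j)
      simpa using this
    rw [this]; exact hc
  · intro hx
    exact ⟨x, hx, (iota_equiv e x).symm⟩

theorem rep_comp [Finite W] (e : I ≃ J) (hM : ∀ i j, M i j = M' (e i) (e j))
    (hA : ∀ i j, A i j = A' (e i) (e j)) (cs' : CoxeterSystem M' W') (h' : IsCartan M' A') (j : J) (x : J → ℤ) :
    (fun i => rep cs' h' (cs'.simple j) x (e i)) = rep cs h (cs.simple (e.symm j)) (fun i => x (e i)) := by
  have hp : pairing A (e.symm j) (fun i => x (e i)) = pairing A' j x := by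
    unfold pairing
    rw [← Equiv.sum_comp e]
    refine Finset.sum_congr rfl fun i _ => ?_
    rw [hA]
    simp
  rw [rep_simple_eq, rep_simple_eq, hp]
  funext i
  have h1 := congrFun (sr_comp_equiv e j) i
  simp only [Pi.sub_apply, Pi.smul_apply] at h1 ⊢
  rw [h1]

/-- The classical roots correspond. -/
theorem mem_R_iff [Finite W] (e : I ≃ J) (hM : ∀ i j, M i j = M' (e i) (e j))
    (hA : ∀ i j, A i j = A' (e i) (e j)) (cs' : CoxeterSystem M' W') (h' : IsCartan M' A')
    (hact : ∀ r ∈ R, ∀ w, rep cs h w r ∈ R)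
    {R' : Set (J → ℤ)} (hact' : ∀ r ∈ R', ∀ w, rep cs' h' w r ∈ R') (hsr : ∀ i, sr i ∈ R ↔ sr (e i) ∈ R')
    {x : J → ℤ} (hx : IsRoot cs' h' x) : (fun i => x (e i)) ∈ R ↔ x ∈ R' := by
  obtain ⟨w, j, rfl⟩ := hx
  induction w using cs'.simple_induction_left with
  | one =>
    rw [map_one, Module.End.one_apply, sr_comp_equiv, hsr]
    simp
  | mul_simple_left w i ih =>
    rw [rep_mul_apply, rep_comp (cs := cs) (h := h) e hM hA cs' h']
    have h1 : ∀ r, rep cs h (cs.simple (e.symm i)) r ∈ R ↔ r ∈ R := by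
      intro r
      constructor
      · intro hr
        have h2 := hact _ hr (cs.simple (e.symm i))
        rwa [← rep_mul_apply, cs.simple_mul_simple_self, map_one, Module.End.one_apply] at h2
      · intro hr
        exact hact _ hr _
    have h2 : ∀ r, rep cs' h' (cs'.simple i) r ∈ R' ↔ r ∈ R' := by
      intro r
      constructor
      · intro hr
        have h2 := hact' _ hr (cs'.simple i)
        rwa [← rep_mul_apply, cs'.simple_mul_simple_self, map_one, Module.End.one_apply] at h2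
      · intro hr
        exact hact' _ hr _
    rw [h1, h2, ih]

/-- Reindexing of classical data. -/
theorem cls_reindex [Fintype W] [Fintype W'] (C : Cls cs h p T n X R Z z) (e : I ≃ J)
    (hM : ∀ i j, M i j = M' (e i) (e j)) (hA : ∀ i j, A i j = A' (e i) (e j)) (cs' : CoxeterSystem M' W')
    (h' : IsCartan M' A') {R' : Set (J → ℤ)} (hroot : ∀ r ∈ R', IsRoot cs' h' r)
    (hact' : ∀ r ∈ R', ∀ w, rep cs' h' w r ∈ R') (hsr : ∀ i, sr i ∈ R ↔ sr (e i) ∈ R') :
    Cls cs' h' p T (fun j => n (e.symm j)) (fun x => X (fun i => x (e i))) R' (fun x => Z (fun i => x (e i)))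
      (fun x => z (fun i => x (e i))) := by
  have h1 := cls_levi_of C e.symm.toEmbedding (fun i j => by rw [hM]; simp) (fun i j => by rw [hA]; simp)
    cs' h'
  have h2 : ∀ x : J → ℤ, iota (fun j => sr (e.symm.toEmbedding j)) x = fun i => x (e i) := fun x => iota_equiv e x
  simp only [h2] at h1
  have h3 : {c | IsRoot cs' h' c ∧ (fun i => c (e i)) ∈ R} = R' := by
    ext x
    constructor
    · rintro ⟨hx, hxR⟩
      exact (mem_R_iff e hM hA cs' h' C.act hact' hsr hx).1 hxR
    · intro hx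
      exact ⟨hroot x hx, (mem_R_iff e hM hA cs' h' C.act hact' hsr (hroot x hx)).2 hx⟩
  rw [h3] at h1
  exact h1

theorem G1_reindex [Finite W] (e : I ≃ J) (hM : ∀ i j, M i j = M' (e i) (e j))
    (hA : ∀ i j, A i j = A' (e i) (e j)) (cs' : CoxeterSystem M' W') (h' : IsCartan M' A')
    (X : (I → ℤ) → Subgroup Y) : G1 cs' h' (fun x => X (fun i => x (e i))) = G1 cs h X := by
  unfold G1
  apply le_antisymm
  · refine iSup_le ?_
    rintro ⟨x, hx⟩
    exact le_iSup (fun x : {x : I → ℤ // IsRoot cs h x} => X x.1)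
      ⟨fun i => x (e i), (isRoot_comp_iff e hM hA cs' h').2 hx⟩
  · refine iSup_le ?_
    rintro ⟨x, hx⟩
    have h1 : (fun i => (fun j => x (e.symm j)) (e i)) = x := by funext i; simp
    have h2 : IsRoot cs' h' (fun j => x (e.symm j)) := by
      rw [← isRoot_comp_iff (cs := cs) (h := h) e hM hA cs' h', h1]; exact hx
    have h3 := le_iSup (fun x : {x : J → ℤ // IsRoot cs' h' x} => X (fun i => x.1 (e i)))
      ⟨fun j => x (e.symm j), h2⟩
    simp only [h1] at h3
    exact h3

end Reindex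

/-! ### Charts -/

section Chart

variable {G : Type*} [Group G] {Om : Set (Subgroup G)} {p : ℕ} {L : Subgroup G}

/-- Reindexing of a chart: index type `J`, matrices `M'`, `A'`, classical roots `R'`. -/
def reindex (c : Chart Om p L) {J W' : Type} [Fintype J] [DecidableEq J] [Group W'] [Fintype W']
    {M' : CoxeterMatrix J} {A' : J → J → ℤ} (e : c.I ≃ J)
    (hM : ∀ i j, c.M i j = M' (e i) (e j)) (hA : ∀ i j, c.A i j = A' (e i) (e j)) (cs' : CoxeterSystem M' W')
    (h' : IsCartan M' A') {R' : Set (J → ℤ)} (hroot : ∀ r ∈ R', IsRoot cs' h' r)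
    (hact' : ∀ r ∈ R', ∀ w, rep cs' h' w r ∈ R') (hsr : ∀ i, sr i ∈ c.R ↔ sr (e i) ∈ R')
    (htrans : ∀ r ∈ R', ∀ s ∈ R', ∃ w, s = rep cs' h' w r) : Chart Om p L where
  prime := c.prime
  odd := c.odd
  I := J
  W := W'
  M := M'
  cs := cs'
  A := A'
  h := h'
  T := c.T
  n := fun j => c.n (e.symm j)
  X := fun x => c.X (fun i => x (e i))
  R := R'
  Z := fun x => c.Z (fun i => x (e i))
  z := fun x => c.z (fun i => x (e i))
  cls := cls_reindex c.cls e hM hA cs' h' hroot hact' hsr
  irr := by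
    intro K hK hKu
    obtain ⟨a, ha, b, hb, hab⟩ := c.irr (e ⁻¹' K) (by
      obtain ⟨k, hk⟩ := hK
      exact ⟨e.symm k, by rw [Set.mem_preimage, Equiv.apply_symm_apply]; exact hk⟩) (by
      intro h0
      apply hKu
      rw [Set.eq_univ_iff_forall] at h0 ⊢
      intro k
      have := h0 (e.symm k)
      rwa [Set.mem_preimage, Equiv.apply_symm_apply] at this)
    exact ⟨e a, ha, e b, hb, by rw [← hM]; exact hab⟩
  ne := ⟨e c.ne.some⟩
  T_le := c.T_le
  gen := (G1_reindex (cs := c.cs) (h := c.h) e hM hA cs' h' c.X).trans c.gen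
  trans := htrans
  Rne := by
    obtain ⟨r, hr⟩ := c.Rne
    obtain ⟨w, i, e1⟩ := c.cls.root r hr
    have h1 : sr i ∈ c.R := by
      have h2 := c.cls.act r hr w⁻¹
      rwa [e1, rep_inv_apply] at h2
    exact ⟨_, (hsr i).1 h1⟩
  om := by
    intro r hr
    have h1 := (mem_R_iff (cs := c.cs) (h := c.h) e hM hA cs' h' c.cls.act hact' hsr (hroot r hr)).2 hr
    exact c.om _ h1
  om_conj := by
    intro K hK hKL
    obtain ⟨r, hr, g, hg, e1⟩ := c.om_conj K hK hKL
    have h1 : (fun i => (fun j => r (e.symm j)) (e i)) = r := by funext i; simp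
    have h2 : IsRoot cs' h' (fun j => r (e.symm j)) := by
      rw [← isRoot_comp_iff (cs := c.cs) (h := c.h) e hM hA cs' h', h1]
      exact c.cls.root r hr
    refine ⟨fun j => r (e.symm j), ?_, g, hg, ?_⟩
    · rw [← mem_R_iff (cs := c.cs) (h := c.h) e hM hA cs' h' c.cls.act hact' hsr h2, h1]
      exact hr
    · simp only [Pi.neg_apply, Equiv.symm_apply_apply]
      exact e1

/-- **Standardisation of a typed chart**: index type `Fin τ.rk`, Coxeter matrix `τ.M`, Cartan matrix `τ.cartan`, with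
any prescribed `W`-stable, transitive set of roots containing exactly the simple roots `τ.long`. -/
theorem exists_chart_of_isTy (c : Chart Om p L) {τ : Ty} (hτ : c.IsTy τ) {W' : Type} [Group W'] [Fintype W']
    (cs' : CoxeterSystem τ.M W') {R' : Set (Fin τ.rk → ℤ)} (hroot : ∀ r ∈ R', IsRoot cs' τ.isCartan r)
    (hact' : ∀ r ∈ R', ∀ w, rep cs' τ.isCartan w r ∈ R') (hsr : ∀ i, sr i ∈ R' ↔ τ.long i)
    (htrans : ∀ r ∈ R', ∀ s ∈ R', ∃ w, s = rep cs' τ.isCartan w r) :
    ∃ (e : c.I ≃ Fin τ.rk) (hM : ∀ i j, c.M i j = τ.M (e i) (e j))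
      (hA : ∀ i j, c.A i j = τ.cartan (e i) (e j)) (hR : ∀ i, sr i ∈ c.R ↔ sr (e i) ∈ R'),
      (reindex c e hM hA cs' τ.isCartan hroot hact' hR htrans).IsTy τ := by
  obtain ⟨e, hA, hl⟩ := hτ
  refine ⟨e, fun i j => c.M_apply hA i j, hA, fun i => by rw [hl, hsr], Equiv.refl _, fun i j => rfl, fun i => ?_⟩
  exact hsr i

/-- The Weyl group of a typed chart is finite. -/
theorem finite_of_isTy (c : Chart Om p L) {τ : Ty} (hτ : c.IsTy τ) {W' : Type*} [Group W']
    (cs' : CoxeterSystem τ.M W') : Finite W' := by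
  obtain ⟨e, hA, -⟩ := hτ
  exact finite_of c.cs c.h e.symm.toEmbedding (fun i j => by rw [c.M_apply hA]; simp) cs'

end Chart

end Cfsg.Agent.Nodes.TyStd
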