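import Mathlib
import Cfsg.Agent.Nodes.KindB_m3
import Cfsg.Agent.Nodes.RootKinds
import Cfsg.Agent.Nodes.TyStd
import Cfsg.Agent.Prune
set_option linter.all false
prune_inst 0x7f00000000000000000000000000000000000000000000000000000000000000000000000000000000000000000000000000000000000000000000000000000000000000000000000000000000000000003fffffffffffffffffffffffffffbeffbdffffffff
open scoped Cfsg.Agent.FastGrp

/-!
`RKinds` (helper197's `Nodes/RootKinds.lean`) for the kinds `B n` and `C n`, and for the charts of these types.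
-/

set_option autoImplicit false
set_option linter.unusedSectionVars false

namespace Cfsg.Agent.Nodes.RKindsBC

open CoxeterSystem Cfsg.Agent.ChevalleyStructure.CoxeterGeom Cfsg.Agent.Tits.Roots
  Cfsg.Agent.Nodes.Coroot Cfsg.Agent.Nodes.TypeC Cfsg.Agent.Nodes.TypeCForm
  Cfsg.Agent.Nodes.KindBC Cfsg.Agent.Nodes.KindBase Cfsg.Agent.Nodes.Perp Cfsg.Agent.Nodes.RootKinds
  Cfsg.Agent.Nodes.Chart
open Relation

variable {n : ℕ} {W : Type*} [Group W] [Fintype W] (cs : CoxeterSystem (CoxeterMatrix.B n) W)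

theorem form_zero {x y : Fin n → ℤ} (hy : IsRoot cs (isCartan n) y) :
    form cs (isCartan n) x y = 0 ↔ cpr cs (isCartan n) x y = 0 := (cpr_zero_iff cs (isCartan n) x hy).symm

/-! ### Kind `C n` -/

theorem connC (A : Finset (Fin n)) : RootKinds.Conn cs (isCartan n) (KindC.fr n) A := by
  have hF := KindC.frameSys cs
  intro i hi j hj
  by_cases hij : i = j
  · subst hij; exact ReflTransGen.refl
  have hy : IsRoot cs (isCartan n) (rt (i, true) (j, true)) := isRoot_rt cs (Or.inl hij)
  have hval : ∀ k, cpr cs (isCartan n) (rt (i, true) (j, true)) (KindC.fr n k) =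
      (if k = i then 1 else 0) + (if k = j then 1 else 0) := by
    intro k
    rw [KindC.cpr_fr, ee_rt, Pi.add_apply, wt_apply, wt_apply]
    rfl
  have hp : ∀ l, l ∈ A → KindC.fr n l ∈ Perp cs (isCartan n) (KindC.fr n '' {k | k ∉ A}) := by
    intro l hl
    refine ⟨KindC.isRoot_fr cs l, ?_⟩
    rintro _ ⟨k, hk, rfl⟩
    rw [form_zero cs (KindC.isRoot_fr cs k)]
    exact hF.orth l k (by rintro rfl; exact hk hl)
  have hyp : rt (i, true) (j, true) ∈ Perp cs (isCartan n) (KindC.fr n '' {k | k ∉ A}) := by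
    refine ⟨hy, ?_⟩
    rintro _ ⟨k, hk, rfl⟩
    have hki : k ≠ i := by rintro rfl; exact hk hi
    have hkj : k ≠ j := by rintro rfl; exact hk hj
    rw [form_zero cs (KindC.isRoot_fr cs k), hval, if_neg hki, if_neg hkj, add_zero]
  have h1 : form cs (isCartan n) (rt (i, true) (j, true)) (KindC.fr n i) ≠ 0 := by
    rw [Ne, form_zero cs (KindC.isRoot_fr cs i), hval, if_pos rfl, if_neg hij]
    norm_num
  have h2 : form cs (isCartan n) (rt (i, true) (j, true)) (KindC.fr n j) ≠ 0 := by
    rw [Ne, form_zero cs (KindC.isRoot_fr cs j), hval, if_pos rfl, if_neg (Ne.symm hij)]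
    norm_num
  exact ReflTransGen.head ⟨hp i hi, hyp, by rw [form_comm]; exact h1⟩ (ReflTransGen.single ⟨hyp, hp j hj, h2⟩)

theorem rkindsC (hn : 1 ≤ n) : RKinds cs (isCartan n) (RC n) (KindC.fr n) := by
  unfold RKinds
  rw [Fintype.card_fin]
  by_cases h1 : n = 1
  · exact Or.inl h1
  by_cases h2 : n = 2
  · exact Or.inr (Or.inl h2)
  · refine Or.inr (Or.inr (Or.inl ⟨by rw [Fintype.card_fin]; omega, fun l => connC cs _, fun i j _ => connC cs _⟩))

/-! ### Kind `B n` -/

open KindB

theorem perpB {A : Finset (Fin (2 * (n / 2)))} {l : Fin (2 * (n / 2))} (hl : l ∈ A) :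
    fr n l ∈ Perp cs (isCartan n) (fr n '' {k | k ∉ A}) := by
  refine ⟨isRoot_fr cs l, ?_⟩
  rintro _ ⟨k, hk, rfl⟩
  rw [form_zero cs (isRoot_fr cs k)]
  exact cpr_fr_fr cs fun e => hk (e ▸ hl)

theorem perp_rtB {A : Finset (Fin (2 * (n / 2)))} {i j : Fin (2 * (n / 2))} (hi : i ∈ A) (hi' : pt i ∈ A)
    (hj : j ∈ A) (hj' : pt j ∈ A) :
    rt (i0 i, true) (i0 j, true) ∈ Perp cs (isCartan n) (fr n '' {k | k ∉ A}) := by
  have hok : Ok ((i0 i, true) : Fin n × Bool) (i0 j, true) := by
    by_cases h : i0 i = i0 j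
    · right; rw [h]
    · left; exact h
  refine ⟨isRoot_rt cs hok, ?_⟩
  rintro _ ⟨k, hk, rfl⟩
  rw [form_zero cs (isRoot_fr cs k)]
  have h1 : ∀ l, l ∈ A → pt l ∈ A → i0 k ≠ i0 l := by
    intro l hl hl' e
    rcases i0_eq_iff.1 e with h | h
    · exact hk (h ▸ hl)
    · exact hk (h ▸ hl')
  exact cpr_fr_eq_zero cs (h1 i hi hi') (i0_ne_i1 i k).symm (h1 j hj hj') (i0_ne_i1 j k).symm

theorem form_rt_left {i j : Fin (2 * (n / 2))} :
    form cs (isCartan n) (rt (i0 i, true) (i0 j, true)) (fr n i) ≠ 0 := by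
  rw [Ne, form_zero cs (isRoot_fr cs i), cpr_fr, ee_rt, Pi.add_apply, Pi.add_apply, wt_apply, wt_apply, wt_apply,
    wt_apply]
  simp only [if_true, (i0_ne_i1 i i).symm, (i0_ne_i1 j i).symm, if_false]
  split_ifs <;> norm_num

theorem form_rt_right {i j : Fin (2 * (n / 2))} :
    form cs (isCartan n) (rt (i0 i, true) (i0 j, true)) (fr n j) ≠ 0 := by
  rw [rt_comm]
  exact form_rt_left cs

/-- Chains between members whose partners are also in `A`. -/
theorem chnB {A : Finset (Fin (2 * (n / 2)))} {i j : Fin (2 * (n / 2))} (hi : i ∈ A) (hi' : pt i ∈ A)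
    (hj : j ∈ A) (hj' : pt j ∈ A) : Chn cs (isCartan n) (fr n) A i j := by
  have h1 := perp_rtB cs hi hi' hj hj'
  exact ReflTransGen.head ⟨perpB cs hi, h1, by rw [form_comm]; exact form_rt_left cs⟩
    (ReflTransGen.single ⟨h1, perpB cs hj, form_rt_right cs⟩)

/-- A root orthogonal to `fr n l` is orthogonal to `fr n (pt l)` or equal to `± fr n (pt l)`. -/
theorem orth_pt {y : Fin n → ℤ} (hy : IsRoot cs (isCartan n) y) {l : Fin (2 * (n / 2))}
    (h : form cs (isCartan n) y (fr n l) = 0) :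
    form cs (isCartan n) y (fr n (pt l)) = 0 ∨ y = fr n (pt l) ∨ y = -fr n (pt l) := by
  by_contra hcon
  push Not at hcon
  obtain ⟨h1, h2, h3⟩ := hcon
  rw [Ne, form_zero cs (isRoot_fr cs _)] at h1
  have h4 := (partner_iff cs hy l).2 ⟨h1, h2, h3⟩
  exact h4.1 ((form_zero cs (isRoot_fr cs l)).1 h)

/-- The partner of an index outside `A` is isolated. -/
theorem isolated {A : Finset (Fin (2 * (n / 2)))} {l j : Fin (2 * (n / 2))} (hl : l ∉ A)
    (h : Chn cs (isCartan n) (fr n) A (pt l) j) : j = pt l := by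
  have key : ∀ y, ReflTransGen (Lk cs (isCartan n) (fr n '' {k | k ∉ A})) (fr n (pt l)) y →
      y = fr n (pt l) ∨ y = -fr n (pt l) := by
    intro y hy
    induction hy with
    | refl => exact Or.inl rfl
    | @tail b c _ h2 ih =>
      rcases orth_pt cs h2.2.1.1 (l := l) (h2.2.1.2 _ ⟨l, hl, rfl⟩) with h3 | h3
      · exfalso
        apply h2.2.2
        rw [form_comm]
        rcases ih with e | e
        · rw [e]; exact h3
        · rw [e, form_neg_right, h3, neg_zero]
      · exact h3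
  have hF := frameSys cs
  rcases key _ h with h1 | h1
  · exact hF.injective h1
  · exact absurd h1 (hF.ne_neg j (pt l))

theorem rkoB (hn : 4 ≤ n) : RKO cs (isCartan n) (RB n) (fr n) pt := by
  refine ⟨by rw [Fintype.card_fin]; omega, fun l => ⟨pt_ne l, pt_pt l⟩, ?_, ?_, ?_, ?_⟩
  · intro l i j hi hj
    have hl : l ∉ Finset.univ.erase l := Finset.notMem_erase l _
    constructor
    · intro h
      constructor
      · rintro rfl
        exact isolated cs hl h
      · rintro rfl
        exact isolated cs hl (lk_symm h)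
    · intro h
      by_cases h1 : i = pt l
      · rw [h1, h.1 h1]; exact ReflTransGen.refl
      · have h2 : j ≠ pt l := fun e => h1 (h.2 e)
        have h3 : pt i ≠ l := fun e => h1 (by rw [← e, pt_pt])
        have h4 : pt j ≠ l := fun e => h2 (by rw [← e, pt_pt])
        exact chnB cs (Finset.mem_erase.2 ⟨hi, Finset.mem_univ _⟩) (Finset.mem_erase.2 ⟨h3, Finset.mem_univ _⟩)
          (Finset.mem_erase.2 ⟨hj, Finset.mem_univ _⟩) (Finset.mem_erase.2 ⟨h4, Finset.mem_univ _⟩)
  · intro i j hij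
    constructor
    · intro h
      by_contra hne
      have h1 := h i (Finset.mem_insert_self _ _) j (Finset.mem_insert_of_mem (Finset.mem_singleton_self _))
      have h2 : pt i ∉ ({i, j} : Finset (Fin (2 * (n / 2)))) := by
        rw [Finset.mem_insert, Finset.mem_singleton]
        rintro (h | h)
        · exact pt_ne i h
        · exact hne h.symm
      have h3 := isolated cs h2 (by rw [pt_pt]; exact h1)
      rw [pt_pt] at h3
      exact hij h3.symm
    · rintro rfl a ha b hb
      have hA : ∀ a, a ∈ ({i, pt i} : Finset (Fin (2 * (n / 2)))) → pt a ∈ ({i, pt i} : Finset (Fin (2 * (n / 2)))) := by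
        intro a ha
        rw [Finset.mem_insert, Finset.mem_singleton] at ha ⊢
        rcases ha with rfl | rfl
        · exact Or.inr rfl
        · exact Or.inl (pt_pt _)
      exact chnB cs ha (hA a ha) hb (hA b hb)
  · intro l
    obtain ⟨k, hk0, hk1⟩ : ∃ k : Fin n, k ≠ i0 l ∧ k ≠ i1 l := by
      have h0 := i0_val l
      have h1 := i1_val l
      by_cases hl : (l : ℕ) / 2 = 0
      · exact ⟨⟨2, by omega⟩, by rw [Ne, Fin.ext_iff, h0]; simp only; omega,
          by rw [Ne, Fin.ext_iff, h1]; simp only; omega⟩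
      · exact ⟨⟨0, by omega⟩, by rw [Ne, Fin.ext_iff, h0]; simp only; omega,
          by rw [Ne, Fin.ext_iff, h1]; simp only; omega⟩
    have hne : ee (rt (i0 l, true) ((k, true) : Fin n × Bool)) (i1 l) = 0 := by
      rw [ee_rt, Pi.add_apply, wt_apply, wt_apply, if_neg (i0_ne_i1 l l).symm, if_neg hk1.symm, add_zero]
    have hfr : ee (fr n l) (i1 l) = sgn l := by
      rw [ee_fr_apply, if_neg (i0_ne_i1 l l).symm, if_pos rfl, zero_add]
    have hs : sgn l ≠ 0 := by unfold sgn; split_ifs <;> norm_num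
    refine ⟨rt (i0 l, true) (k, true), rt_mem_RB hk0.symm, ?_, ?_, ?_⟩
    · intro e
      rw [e, hfr] at hne
      exact hs hne
    · intro e
      rw [e, ee_neg, Pi.neg_apply, hfr] at hne
      exact hs (neg_eq_zero.1 hne)
    · rw [Ne, form_zero cs (isRoot_fr cs l), cpr_fr, hne, ee_rt, Pi.add_apply, wt_apply, wt_apply, if_pos rfl,
        if_neg hk0.symm]
      norm_num
  · intro l x hx h h1 h2
    rcases orth_pt cs hx (l := pt l) (h (pt l) (pt_ne l)) with h3 | h3 | h3
    · rwa [pt_pt] at h3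
    · rw [pt_pt] at h3; exact absurd h3 h1
    · rw [pt_pt] at h3; exact absurd h3 h2

theorem rkindsB (hn : 2 ≤ n) : RKinds cs (isCartan n) (RB n) (fr n) := by
  unfold RKinds
  by_cases h4 : 4 ≤ n
  · exact Or.inr (Or.inr (Or.inr (Or.inr (Or.inr (Or.inl ⟨pt, rkoB cs h4⟩)))))
  · refine Or.inr (Or.inl ?_)
    rw [Fintype.card_fin]
    omega

/-! ### Simple roots -/

theorem sr_mem_RC {i : Fin n} : sr i ∈ RC n ↔ (i : ℕ) + 1 = n := by
  have hi := i.2
  let cs := (CoxeterMatrix.B n).toCoxeterSystem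
  have h2 := isRoot_sr cs (isCartan n) i
  rw [mem_RC_iff_ip cs h2, ee_sr, ip_bt, Cf_bt_self]
  unfold cc
  split_ifs with h <;> constructor <;> intro h3 <;> first | omega | norm_num

theorem sr_mem_RB {i : Fin n} : sr i ∈ RB n ↔ (i : ℕ) + 1 < n := by
  have hi := i.2
  let cs := (CoxeterMatrix.B n).toCoxeterSystem
  have h2 := isRoot_sr cs (isCartan n) i
  rw [mem_RB_iff_ip cs h2, ee_sr, ip_bt, Cf_bt_self]
  unfold cc
  split_ifs with h <;> constructor <;> intro h3 <;> first | omega | norm_num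

/-! ### Charts -/

section Chart

open Cfsg.Agent.Nodes.TyStd

variable {G : Type*} [Group G] {Om : Set (Subgroup G)} {p : ℕ} {L : Subgroup G}

/-- A chart of type `C n` has a frame system of size `n` with `RKinds`. -/
theorem exists_rkinds_C (c : Chart Om p L) {n : ℕ} (h : c.IsTy (.C n)) :
    ∃ (c' : Chart Om p L) (g : Fin n → c'.I → ℤ), c'.IsTy (.C n) ∧ FrameSys c'.cs c'.h c'.R g ∧
      RKinds c'.cs c'.h c'.R g := by
  have hn : 1 ≤ n := by
    have h1 := h.card
    have := c.ne
    have h2 : 0 < Fintype.card c.I := Fintype.card_pos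
    rw [h1] at h2
    exact h2
  let cs' : CoxeterSystem (CoxeterMatrix.B n) (CoxeterMatrix.B n).Group := (CoxeterMatrix.B n).toCoxeterSystem
  have hf : Finite (CoxeterMatrix.B n).Group := finite_of_isTy c h cs'
  let _ : Fintype (CoxeterMatrix.B n).Group := Fintype.ofFinite _
  obtain ⟨e, hM, hA, hR, h1⟩ := exists_chart_of_isTy c h (W' := (CoxeterMatrix.B n).Group) cs' (R' := RC n)
    (fun r hr => root_RC cs' hr) (fun r hr w => act_RC cs' hr w) (fun i => sr_mem_RC) (trans_RC cs')
  exact ⟨reindex c e hM hA cs' (Ty.C n).isCartan (fun r hr => root_RC cs' hr) (fun r hr w => act_RC cs' hr w) hR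
    (trans_RC cs'), KindC.fr n, h1, KindC.frameSys cs', rkindsC cs' hn⟩

/-- A chart of type `B n`, `n ≥ 2`, has a frame system of size `2[n/2]` with `RKinds`. -/
theorem exists_rkinds_B (c : Chart Om p L) {n : ℕ} (hn : 2 ≤ n) (h : c.IsTy (.B n)) :
    ∃ (c' : Chart Om p L) (g : Fin (2 * (n / 2)) → c'.I → ℤ), c'.IsTy (.B n) ∧ FrameSys c'.cs c'.h c'.R g ∧
      RKinds c'.cs c'.h c'.R g := by
  let cs' : CoxeterSystem (CoxeterMatrix.B n) (CoxeterMatrix.B n).Group := (CoxeterMatrix.B n).toCoxeterSystem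
  have hf : Finite (CoxeterMatrix.B n).Group := finite_of_isTy c h cs'
  let _ : Fintype (CoxeterMatrix.B n).Group := Fintype.ofFinite _
  obtain ⟨e, hM, hA, hR, h1⟩ := exists_chart_of_isTy c h (W' := (CoxeterMatrix.B n).Group) cs' (R' := RB n)
    (fun r hr => root_RB cs' hr) (fun r hr w => act_RB cs' hr w) (fun i => sr_mem_RB) (trans_RB cs')
  exact ⟨reindex c e hM hA cs' (Ty.B n).isCartan (fun r hr => root_RB cs' hr) (fun r hr w => act_RB cs' hr w) hR
    (trans_RB cs'), fr n, h1, frameSys cs', rkindsB cs' hn⟩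

end Chart

end Cfsg.Agent.Nodes.RKindsBC
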