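import Cfsg.Agent.Nodes.RGDFold
import Cfsg.Agent.Hexagon.TwD4RGD
set_option linter.all false

/-!
The root group datum of `³D₄(q)`, of type `G₂`: node `0` = `{p₂}` (long roots, root groups of order `q`), node `1` =
`{p₁, p₃, p₄}` (short roots, root groups of order `q³`).
-/

set_option autoImplicit false
set_option linter.unusedSectionVars false
set_option maxHeartbeats 400000
set_option Elab.async false

namespace Cfsg.Agent.Nodes.RGDTwD4

open CoxeterSystem Cfsg.Agent.ChevalleyStructure.CoxeterGeom Cfsg.Agent.Tits.Roots Cfsg.Agent.Tits.Core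
  Cfsg.Agent.Nodes.BNOf Cfsg.Agent.Nodes.RGDTwGen Cfsg.Agent.Nodes.RGDChev Cfsg.Agent.Nodes.RGDFold
open Cfsg.Lie Cfsg.Agent.ChevalleyStructure
  Cfsg.Agent.ChevalleyStructure.TwistedU Cfsg.Agent.ChevalleyStructure.TwistedFix
open Cfsg.Agent.ChevalleyStructure.D4Comm
open Cfsg.Agent.ChevalleyStructure.D4Pos (lprod_inj)
open Cfsg.Agent.ChevalleyStructure.D4NConj (nR hR)
open Cfsg.Agent.ChevalleyStructure.GraphSymm
open Cfsg.Agent.ChevalleyStructure.D4U Cfsg.Agent.ChevalleyStructure.D4Twisted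
open Cfsg.Agent.ChevalleyStructure.D4Fixed (sig)

universe u

/-- the blocks -/
def J : Fin 2 → List (Fin 4) := ![[1], [0, 2, 3]]

/-- the classes of positive roots -/
def L : List (List ℕ) := [[14], [18, 13, 12], [19, 16, 15], [21, 17, 20], [22], [23]]

/-- the Cartan matrix: node 0 long, node 1 short -/
def A : Fin 2 → Fin 2 → ℤ := ![![2, -1], ![-3, 2]]

set_option backward.isDefEq.respectTransparency false in
theorem isCartan : IsCartan CoxeterMatrix.G₂ A := by constructor <;> decide +kernel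

theorem foldData : FoldData chevD4 CoxeterMatrix.G₂ A J L where
  wp_V := by decide +kernel
  base := by decide +kernel
  reach := by decide +kernel
  rel := by decide +kernel
  posL := by decide +kernel
  negL := by decide +kernel
  isPos := by decide +kernel
  clsL := by decide +kernel
  goodL := by decide +kernel

theorem hp : IsType chevD4 4 coxeterD4 := by simp [IsType, typeList]

theorem cls0 : ∀ k < chevD4.nroots, (V chevD4 J k = sr 0 ↔ k ∈ [14]) := by decide +kernel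
theorem cls1 : ∀ k < chevD4.nroots, (V chevD4 J k = sr 1 ↔ k ∈ [18, 13, 12]) := by decide +kernel
theorem cls0' : ∀ k < chevD4.nroots, (V chevD4 J k = -sr 0 ↔ k ∈ [9]) := by decide +kernel
theorem cls1' : ∀ k < chevD4.nroots, (V chevD4 J k = -sr 1 ↔ k ∈ [5, 10, 11]) := by decide +kernel

theorem comm_check : ∀ o ∈ L, o.Pairwise fun r s => r < chevD4.nroots ∧ s < chevD4.nroots ∧ s ≠ r ∧
    s ≠ chevD4.neg r ∧ chevD4.commTerms r s = [] := by decide +kernel

/-- the triality on root indices -/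
def rho (r : ℕ) : ℕ := if h : r < 24 then (symmD4a.σ ⟨r, h⟩).val else r

/-- the signs -/
def eps (r : ℕ) : ℤ := if h : r < 24 then symmD4a.ε ⟨r, h⟩ else 1

theorem perm_check : ∀ o ∈ L, (o.map rho).Perm o := by decide +kernel

theorem rho_check : ∀ r ∈ L.flatten, rho (rho (rho r)) = r := by decide +kernel

section

variable {K : Type u} [Field K]

theorem xG_eq : (Elts.xG (F := K) hp.inList) = D4Comm.xG := by
  funext r t
  exact Units.ext rfl

theorem nn_eq (i : Fin 4) : nn hp K i = D4NConj.nG K i := by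
  apply Units.ext
  rw [nn, Elts.coe_nG, D4NConj.nG_def, ← D4NConj.simple_eq i.2]
  exact (D4NConj.coe_nR (by rw [D4NConj.simple_eq i.2]; revert i; decide +kernel) 1).symm

theorem nI_zero : nI hp K (J 0) = na K := by
  show ([1].map (nn hp K)).prod = na K
  rw [List.map_cons, List.map_nil, List.prod_cons, List.prod_nil, mul_one, nn_eq]
  rfl

theorem nI_one : nI hp K (J 1) = nb K := by
  show ([0, 2, 3].map (nn hp K)).prod = nb K
  rw [List.map_cons, List.map_cons, List.map_cons, List.map_nil, List.prod_cons, List.prod_cons, List.prod_cons,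
    List.prod_nil, mul_one, nn_eq, nn_eq, nn_eq, ← mul_assoc]
  rfl

theorem fixS_eq (φ : K →+* K) : fixS (sig φ) = D4Fixed.fix φ := rfl

theorem R0 (φ : K →+* K) : R chevD4 hp K J (sig φ) (sr 0) = RS K [14] ⊓ D4Fixed.fix φ := by
  rw [R_eq cls0 (by decide +kernel), xG_eq, fixS_eq]
theorem R1 (φ : K →+* K) : R chevD4 hp K J (sig φ) (sr 1) = RS K [18, 13, 12] ⊓ D4Fixed.fix φ := by
  rw [R_eq cls1 (by decide +kernel), xG_eq, fixS_eq]
theorem R0' (φ : K →+* K) : R chevD4 hp K J (sig φ) (-sr 0) = RS K [9] ⊓ D4Fixed.fix φ := by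
  rw [R_eq cls0' (by decide +kernel), xG_eq, fixS_eq]
theorem R1' (φ : K →+* K) : R chevD4 hp K J (sig φ) (-sr 1) = RS K [5, 10, 11] ⊓ D4Fixed.fix φ := by
  rw [R_eq cls1' (by decide +kernel), xG_eq, fixS_eq]

theorem flatten_L : L.flatten = D4Pos.ordA := by decide +kernel

theorem setup (φ : K →+* K) : Setup (Elts.xG (F := K) hp.inList) L (sig φ) rho (fun r => rho (rho r))
    (fun r t => ((eps r : ℤ) : K) * φ t) where
  hadd r t u := (Elts.xG_add hp.inList r t u).symm
  nodup := by decide +kernel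
  good := by
    rw [xG_eq, flatten_L]
    exact D4Pos.good_of_goodB D4Pos.ordA D4Pos.goodB_ordA
  inj := by
    rw [xG_eq, flatten_L]
    intro t t' h
    exact lprod_inj D4Pos.ordA D4Pos.uniqB_ordA h
  hσ := by
    intro r hr t
    have h24 : r < 24 := foldData.ltL hr
    rw [xG_eq]
    exact sig_xG φ h24 (by rw [rho, dif_pos h24]) (by rw [eps, dif_pos h24]) t
  perm := perm_check
  comm := by
    intro o ho
    refine (comm_check o ho).imp ?_
    intro r s h t u
    exact commute_of_nil hp h.1 h.2.1 h.2.2.1 h.2.2.2.1 h.2.2.2.2 t u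
  left_inv := rho_check

end

section Group

variable {K : Type u} [Field K] {q : ℕ} {φ : K →+* K}

theorem foldGrp (hφ : ∀ x, φ x = x ^ q) (hle : twistedD4 K q ≤ D4Fixed.fix φ) :
    FoldGrp hp K J L (sig φ) rho (fun r => rho (rho r)) (fun r t => ((eps r : ℤ) : K) * φ t)
      (twistedD4 K q) where
  setup := setup φ
  nfix i := by
    fin_cases i
    · show sig φ (nI hp K (J 0)) = nI hp K (J 0)
      rw [nI_zero]; exact hle (na_mem hφ)
    · show sig φ (nI hp K (J 1)) = nI hp K (J 1)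
      rw [nI_one]; exact hle (nb_mem hφ)
  G_le := hle
  nG i := by
    fin_cases i
    · show nI hp K (J 0) ∈ _
      rw [nI_zero]; exact na_mem hφ
    · show nI hp K (J 1) ∈ _
      rw [nI_one]; exact nb_mem hφ
  rk1 i u hu hu' hu1 := by
    fin_cases i
    · change u ∈ R chevD4 hp K J (sig φ) (-sr 0) at hu'
      show ∃ a ∈ R chevD4 hp K J (sig φ) (sr 0), ∃ t ∈ _, ∃ b ∈ R chevD4 hp K J (sig φ) (sr 0),
        u = a * t * nI hp K (J 0) * b
      rw [R0'] at hu'
      rw [R0, nI_zero]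
      obtain ⟨t, htφ, rfl⟩ := RS_9_fix φ hu'.1 hu'.2
      have ht0 : t ≠ 0 := by
        rintro rfl
        exact hu1 (xG_zero _)
      have hs : φ t⁻¹ = t⁻¹ := by rw [map_inv₀, htφ]
      have hs' : φ (-t⁻¹) = -t⁻¹ := by rw [map_neg, hs]
      have hx : xG 14 t⁻¹ ∈ RS K [14] ⊓ D4Fixed.fix φ :=
        ⟨mem_rspan xG (S := {k | k ∈ [14]}) (by simp) _, hle (xG14_mem hφ hs)⟩
      refine ⟨xG 14 t⁻¹, hx, hR 14 (-t⁻¹), ⟨D4RGD.hR_mem (by norm_num) (neg_ne_zero.2 (inv_ne_zero ht0)),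
        h14_mem hφ hs'⟩, xG 14 t⁻¹, hx, ?_⟩
      have e1 := rank_one_eq (K := K) (r := 14) t
      rw [show 23 - 14 = 9 from rfl] at e1
      have e : hR 14 (-t⁻¹) * na K = nR 14 (-t⁻¹) := by
        rw [D4NConj.nR_eq 14 (-t⁻¹)]
        rfl
      rw [e1, mul_assoc (xG 14 t⁻¹) (hR 14 (-t⁻¹)), e, mul_assoc]
    · change u ∈ R chevD4 hp K J (sig φ) (-sr 1) at hu'
      show ∃ a ∈ R chevD4 hp K J (sig φ) (sr 1), ∃ t ∈ _, ∃ b ∈ R chevD4 hp K J (sig φ) (sr 1),
        u = a * t * nI hp K (J 1) * b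
      rw [R1'] at hu'
      rw [R1, nI_one]
      obtain ⟨t, rfl⟩ := RS_neg_fix φ hu'.1 hu'.2
      have ht0 : t ≠ 0 := by
        rintro rfl
        exact hu1 Hexagon.TwD4RGD.Y_zero
      have hx : D4Fixed.X φ t⁻¹ ∈ RS K [18, 13, 12] ⊓ D4Fixed.fix φ :=
        ⟨X_mem_RS _, hle (D4Fixed.X_mem hφ _)⟩
      refine ⟨_, hx, hb φ (-t⁻¹), ⟨hb_mem_diagonal φ (neg_ne_zero.2 (inv_ne_zero ht0)), hb_mem hφ _⟩, _, hx, ?_⟩
      rw [Y_rank_one, nbt_eq]
      simp only [mul_assoc]
  XG i := by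
    fin_cases i
    · show R chevD4 hp K J (sig φ) (sr 0) ≤ _
      rw [R0]; exact fun g hg => RS_14_le hφ hg.1 hg.2
    · show R chevD4 hp K J (sig φ) (sr 1) ≤ _
      rw [R1]; exact fun g hg => RS_outer_le hφ hg.1 hg.2
  ne i := by
    fin_cases i
    · show R chevD4 hp K J (sig φ) (sr 0) ≠ ⊥
      rw [R0]
      intro h0
      have h1 : xG 14 (1 : K) ∈ RS K [14] ⊓ D4Fixed.fix φ :=
        ⟨mem_rspan xG (S := {k | k ∈ [14]}) (by simp) _, hle (xG14_mem hφ (map_one φ))⟩
      rw [h0, Subgroup.mem_bot] at h1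
      exact one_ne_zero ((D4RGD.xG_eq_one_iff (by norm_num) _).1 h1)
    · show R chevD4 hp K J (sig φ) (sr 1) ≠ ⊥
      rw [R1]
      intro h0
      have h1 : D4Fixed.X φ (1 : K) ∈ RS K [18, 13, 12] ⊓ D4Fixed.fix φ :=
        ⟨X_mem_RS _, hle (D4Fixed.X_mem hφ _)⟩
      rw [h0, Subgroup.mem_bot] at h1
      unfold D4Fixed.X at h1
      rw [map_one, map_one, xU_eq, xU_eq, xU_eq] at h1
      have h3 := lprod_inj [18, 13, 12] (by decide +kernel) (t := fun _ => (1 : K)) (t' := fun _ => 0) (by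
        rw [lprod_cons, lprod_cons, lprod_cons, lprod_nil, mul_one, ← mul_assoc, h1]
        simp only [lprod_cons, lprod_nil, xG_zero, mul_one]) 18 (by simp)
      exact one_ne_zero h3
  gen := by
    have hpos : ∀ i, R chevD4 hp K J (sig φ) (sr i) ≤
        ⨆ i, (R chevD4 hp K J (sig φ) (sr i) ⊔ R chevD4 hp K J (sig φ) (-sr i)) := fun i =>
      le_sup_left.trans (le_iSup (fun i => R chevD4 hp K J (sig φ) (sr i) ⊔ R chevD4 hp K J (sig φ) (-sr i)) i)
    have hneg : ∀ i, R chevD4 hp K J (sig φ) (-sr i) ≤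
        ⨆ i, (R chevD4 hp K J (sig φ) (sr i) ⊔ R chevD4 hp K J (sig φ) (-sr i)) := fun i =>
      le_sup_right.trans (le_iSup (fun i => R chevD4 hp K J (sig φ) (sr i) ⊔ R chevD4 hp K J (sig φ) (-sr i)) i)
    have h0 := hpos 0
    have h0' := hneg 0
    have h1 := hpos 1
    have h1' := hneg 1
    clear hpos hneg
    revert h0 h0' h1 h1'
    generalize (⨆ i, (R chevD4 hp K J (sig φ) (sr i) ⊔ R chevD4 hp K J (sig φ) (-sr i))) = S
    intro h0 h0' h1 h1'
    rw [R0] at h0
    rw [R0'] at h0'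
    rw [R1] at h1
    rw [R1'] at h1'
    refine D4Fixed.twisted_induction hφ (fun t ht => ?_) (fun t ht => ?_) (fun t => ?_) (fun t => ?_)
    · refine h0 ⟨?_, hle (D4Fixed.x14_mem ((hφ t).symm.trans ht))⟩
      rw [xU_eq]
      exact mem_rspan xG (S := {k | k ∈ [14]}) (by simp) _
    · refine h0' ⟨?_, hle (D4Fixed.x9_mem ((hφ t).symm.trans ht))⟩
      rw [xU_eq]
      exact mem_rspan xG (S := {k | k ∈ [9]}) (by simp) _
    · exact h1 ⟨X_mem_RS t, hle (D4Fixed.X_mem hφ t)⟩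
    · exact h1' ⟨Hexagon.TwD4RGD.Y_mem_RS t, hle (D4Fixed.Y_mem hφ t)⟩

/-- The root group of the relative root `z` in `³D₄(q)`. -/
noncomputable def X (φ : K →+* K) (q : ℕ) (z : Fin 2 → ℤ) : Subgroup ↥(twistedD4 K q) :=
  (R chevD4 hp K J (sig φ) z).subgroupOf (twistedD4 K q)

/-- The torus. -/
def T (K : Type u) [Field K] (q : ℕ) : Subgroup ↥(twistedD4 K q) :=
  (chevD4.diagonalSubgroup K ⊓ twistedD4 K q).subgroupOf (twistedD4 K q)

/-- The reflections. -/
def n (hφ : ∀ x, φ x = x ^ q) (i : Fin 2) : ↥(twistedD4 K q) :=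
  ⟨nI hp K (J i), by
    fin_cases i
    · show nI hp K (J 0) ∈ _
      rw [nI_zero]; exact na_mem hφ
    · show nI hp K (J 1) ∈ _
      rw [nI_one]; exact nb_mem hφ⟩

variable {W : Type*} [Group W] (cs : CoxeterSystem CoxeterMatrix.G₂ W)

/-- **The root group datum of `³D₄(q)`.** -/
theorem rgd [Fintype K] (hK : Fintype.card K = q ^ 3) (hφ : ∀ x, φ x = x ^ q) (p : ℕ) [Fact p.Prime] [CharP K p] :
    RGD cs isCartan p (T K q) (n hφ) (X φ q) :=
  RGDFold.rgd cs isCartan foldData (foldGrp hφ (D4Fixed.twisted_le_fix hK hφ)) p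

theorem G1_eq_top [Fintype K] (hK : Fintype.card K = q ^ 3) (hφ : ∀ x, φ x = x ^ q) :
    RGDLib.G1 cs isCartan (X φ q) = ⊤ := by
  obtain ⟨p, hp'⟩ := CharP.exists K
  have : Fact p.Prime := ⟨CharP.char_is_prime K p⟩
  exact RGDFold.G1_eq_top cs isCartan foldData (foldGrp hφ (D4Fixed.twisted_le_fix hK hφ)) p

end Group

/-- `³D₄(q)` has a root group datum of its characteristic. -/
theorem hasRGD {K : Type u} [Field K] [Fintype K] {q : ℕ} (hq : IsPrimePow q) (hK : Fintype.card K = q ^ 3)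
    (p : ℕ) [CharP K p] : HasRGD p ↥(twistedD4 K q) := by
  obtain ⟨φ, hφ⟩ := D4Fixed.exists_frob hq hK
  exact RGDFold.hasRGD foldData (foldGrp hφ (D4Fixed.twisted_le_fix hK hφ)) p isCartan

end Cfsg.Agent.Nodes.RGDTwD4
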