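import Cfsg.Agent.Nodes.RGDFoldSL
import Cfsg.Agent.S1042
import Cfsg.Agent.ChevFast.E6
import Cfsg.Agent.ChevFast.Lin
import Cfsg.Agent.Nodes.RGDTwE6
import Cfsg.Agent.Nodes.RGDTwNode
import Cfsg.Agent.Lib.FinFast
import Cfsg.Agent.KFacts.RgdChevCoord
import Cfsg.Agent.KFacts.RgdNodes
import Cfsg.Agent.FastGrp
import Cfsg.Agent.Prune
set_option linter.all false

section
prune_inst 0x7ffefffbeffcbfffffff7ffffedfdffdfbf9ffffeffff9cbbfe8a1ef2fdf6f9ce9c76bbd8fe070ff1ee3e2b614fa7b53fbffffffeb6ffc7ffffdfff41ffbffcffdf7b58951dc8cb41fbe0fff83f07fca7f3fffffffffffffffffffffffffffbeffffffffffff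

-- part: Nodes/RGDTwCoord
section
prune_inst 0x40002000000000000000000000400000000000200401044008000000010000000101208000100000060000000000000000400020000000000000000100208000000010000000040001000000000000000000000000000000000000000000000000000
set_option linter.all false
open scoped Cfsg.Agent.FastGrp

/-!
Coordinates of all root groups of the twisted groups obtained by folding (`RGDFold`).

For a relative root `z` with class of roots `cl z = [s₀, s₁, …]` (a `ρ`-orbit) put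
`Y z a = x_{s₀}(δ a) x_{s₁}(δ φ a) ⋯` in the general linear group. The root group of `z` is
`{Y z a | φ^k a = a}`, `k` the length of the class.
-/

set_option autoImplicit false
set_option linter.unusedSectionVars false
set_option maxHeartbeats 400000

namespace Cfsg.Agent.Nodes.RGDTwCoord

open CoxeterSystem Cfsg.Agent.ChevalleyStructure.CoxeterGeom Cfsg.Agent.Tits.Roots Cfsg.Agent.Tits.Core
  Cfsg.Agent.Nodes.BNOf Cfsg.Agent.Nodes.RGDTwGen Cfsg.Agent.Nodes.RGDChev Cfsg.Agent.Nodes.RGDFold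
  Cfsg.Agent.Nodes.RGDFoldSL
open Cfsg.Lie Cfsg.Agent.ChevalleyStructure Cfsg.Agent.ChevalleyStructure.Elts
  Cfsg.Agent.ChevalleyStructure.RootVec Cfsg.Agent.ChevalleyStructure.RootVecTab
  Cfsg.Agent.ChevalleyStructure.TwistedU Cfsg.Agent.ChevalleyStructure.TwistedFix
  Cfsg.Agent.ChevalleyStructure.TwistedFixOrbit
open scoped commutatorElement

universe u

/-! ### Products over commuting roots -/

section Gen

variable {Γ K : Type*} [Group Γ] [Field K] {x : ℕ → K → Γ}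

theorem lprod_add (hadd : ∀ r t u, x r (t + u) = x r t * x r u) {o : List ℕ}
    (hc : o.Pairwise fun r s => ∀ t u, Commute (x r t) (x s u)) (c d : ℕ → K) :
    lprod x o (fun s => c s + d s) = lprod x o c * lprod x o d := by
  induction o with
  | nil => exact (mul_one 1).symm
  | cons r o ih =>
    rw [List.pairwise_cons] at hc
    rw [lprod_cons, lprod_cons, lprod_cons, ih hc.2, hadd]
    have h1 : Commute (x r (d r)) (lprod x o c) := by
      have h2 : ∀ g ∈ o.map (fun s => x s (c s)), Commute (x r (d r)) g := by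
        intro g hg
        obtain ⟨s, hs, rfl⟩ := List.mem_map.1 hg
        exact hc.1 s hs _ _
      exact Commute.list_prod_right _ _ h2
    simp only [mul_assoc]
    rw [← mul_assoc (x r (d r)) (lprod x o c), h1.eq]
    simp only [mul_assoc]

theorem lprod_zero (hadd : ∀ r t u, x r (t + u) = x r t * x r u) (o : List ℕ) :
    lprod x o (fun _ => (0 : K)) = 1 := by
  induction o with
  | nil => rfl
  | cons r o ih => rw [lprod_cons, ih, x_zero hadd, one_mul]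

theorem lprod_single (hadd : ∀ r t u, x r (t + u) = x r t * x r u) {o : List ℕ} (hnd : o.Nodup) {k : ℕ}
    (hk : k ∈ o) (c : K) : lprod x o (fun s => if k = s then c else 0) = x k c := by
  induction o with
  | nil => exact absurd hk List.not_mem_nil
  | cons r o ih =>
    rw [List.nodup_cons] at hnd
    rw [lprod_cons]
    by_cases h : k = r
    · subst h
      rw [if_pos rfl]
      have h1 : lprod x o (fun s => if k = s then c else 0) = lprod x o fun _ => (0 : K) :=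
        lprod_congr x fun s hs => by
          rw [if_neg]
          rintro rfl
          exact hnd.1 hs
      rw [h1, lprod_zero hadd, mul_one]
    · rw [if_neg h, x_zero hadd, one_mul]
      exact ih hnd.2 ((List.mem_cons.1 hk).resolve_left h)

theorem yv_eq_lprod {φ : K →+* K} {o : List ℕ} (hnd : o.Nodup) (a : K) :
    yv x φ o a = lprod x o fun s => φ^[o.idxOf s] a := by
  induction o generalizing a with
  | nil => rfl
  | cons r o ih =>
    rw [List.nodup_cons] at hnd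
    show x r a * yv x φ o (φ a) = _
    rw [lprod_cons, ih hnd.2, List.idxOf_cons_self]
    congr 1
    refine lprod_congr x fun s hs => ?_
    have hne : r ≠ s := by
      rintro rfl
      exact hnd.1 hs
    rw [List.idxOf_cons_ne _ hne, Function.iterate_succ_apply]

/-- Uniqueness of coordinates. -/
def Inj (x : ℕ → K → Γ) (o : List ℕ) : Prop :=
  ∀ c c' : ℕ → K, lprod x o c = lprod x o c' → ∀ s ∈ o, c s = c' s

/-- The class `o` of commuting roots, permuted cyclically by `ρ`. -/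
structure Cls (x : ℕ → K → Γ) (σ : Γ →* Γ) (ρ : ℕ → ℕ) (φ : K →+* K) (o : List ℕ) : Prop where
  nodup : o.Nodup
  comm : o.Pairwise fun r s => ∀ t u, Commute (x r t) (x s u)
  sig : ∀ r ∈ o, ∀ t, σ (x r t) = x (ρ r) (φ t)
  rot : o.map ρ = o.rotate 1

variable {σ : Γ →* Γ} {ρ : ℕ → ℕ} {φ : K →+* K} {o : List ℕ}

theorem rot_cons {r : ℕ} {o : List ℕ} (h : (r :: o).map ρ = (r :: o).rotate 1) : (r :: o).map ρ = o ++ [r] := by
  rw [h, List.rotate_cons_succ, List.rotate_zero]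

/-- A `σ`-fixed product over the class is determined by the coordinate of the head. -/
theorem Cls.eq_yv (C : Cls x σ ρ φ o) (hI : Inj x o) {c : ℕ → K} {r : ℕ} {o' : List ℕ} (ho : o = r :: o')
    (hc : σ (lprod x o c) = lprod x o c) :
    lprod x o c = yv x φ o (c r) ∧ φ^[o.length] (c r) = c r := by
  -- the image of the product under `σ`
  have hperm : (o.map ρ).Perm o := by rw [C.rot]; exact List.rotate_perm o 1
  have hinj : ∀ a ∈ o, ∀ b ∈ o, ρ a = ρ b → a = b := by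
    have h1 : (o.map ρ).Nodup := hperm.nodup_iff.2 C.nodup
    exact fun a ha b hb h => List.inj_on_of_nodup_map h1 ha hb h
  -- inverse of `ρ`
  obtain ⟨ρ', hρ'⟩ : ∃ ρ' : ℕ → ℕ, ∀ s ∈ o, ρ' (ρ s) = s := by
    classical
    refine ⟨fun t => if h : ∃ s ∈ o, ρ s = t then h.choose else t, fun s hs => ?_⟩
    have h : ∃ s' ∈ o, ρ s' = ρ s := ⟨s, hs, rfl⟩
    show (if h : ∃ s' ∈ o, ρ s' = ρ s then h.choose else ρ s) = s
    rw [dif_pos h]
    exact hinj _ h.choose_spec.1 _ hs h.choose_spec.2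
  have h1 : σ (lprod x o c) = lprod x o fun s => φ (c (ρ' s)) := by
    refine map_lprod_orbit (f := fun _ t => φ t) C.sig hperm C.comm fun s hs => ?_
    show φ (c (ρ' (ρ s))) = φ (c s)
    rw [hρ' s hs]
  have h2 : ∀ s ∈ o, c (ρ s) = φ (c s) := by
    intro s hs
    have h3 := hI _ _ (h1.symm.trans hc) (ρ s) (hperm.subset (List.mem_map_of_mem hs))
    rw [← h3, hρ' s hs]
  subst ho
  obtain ⟨h4, h5⟩ := lprod_eq_yv (x := x) (φ := φ) (c := c) (rot_cons C.rot) h2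
  exact ⟨h4, by rw [List.length_cons]; exact h5.symm⟩

theorem Cls.exists_lprod (C : Cls x σ ρ φ o) (hadd : ∀ r t u, x r (t + u) = x r t * x r u) {g : Γ}
    (hg : g ∈ rspan x {k | k ∈ o}) : ∃ c, g = lprod x o c :=
  TwistedU.exists_lprod hadd C.nodup (good_of_commute C.comm) hg

theorem Cls.yv_fix (C : Cls x σ ρ φ o) {a : K} (ha : φ^[o.length] a = a) : σ (yv x φ o a) = yv x φ o a := by
  cases o with
  | nil => exact map_one σ
  | cons r o => exact RGDFoldSL.yv_fix C.sig (rot_cons C.rot) C.comm ha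

theorem Cls.yv_inj (C : Cls x σ ρ φ o) (hI : Inj x o) (ho : o ≠ []) {a b : K} (h : yv x φ o a = yv x φ o b) :
    a = b := by
  cases o with
  | nil => exact absurd rfl ho
  | cons r o =>
    rw [yv_eq_lprod C.nodup, yv_eq_lprod C.nodup] at h
    have h1 := hI _ _ h r List.mem_cons_self
    rwa [List.idxOf_cons_self] at h1

theorem map_lprod_to {τ : Γ →* Γ} {w : ℕ → ℕ} {f : ℕ → K → K} {o o' : List ℕ}
    (hσ : ∀ r ∈ o, ∀ t, τ (x r t) = x (w r) (f r t)) (hp : (o.map w).Perm o')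
    (hc : o'.Pairwise fun r s => ∀ t u, Commute (x r t) (x s u)) {t t' : ℕ → K}
    (ht : ∀ r ∈ o, t' (w r) = f r (t r)) : τ (lprod x o t) = lprod x o' t' := by
  rw [lprod_perm hp.symm hc t']
  unfold lprod
  rw [map_list_prod, List.map_map, List.map_map]
  congr 1
  refine List.map_congr_left fun r hr => ?_
  show τ (x r (t r)) = x (w r) (t' (w r))
  rw [hσ r hr, ht r hr]

/-! ### Commutators -/

/-- `x_k` for `k` in the list `T` commutes with the `x_r`, `r ∈ o`. -/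
def Cen (x : ℕ → K → Γ) (T o : List ℕ) : Prop := ∀ k ∈ T, ∀ r ∈ o, ∀ t u, Commute (x k t) (x r u)

theorem Cen.lprod {T o : List ℕ} (h : Cen x T o) (e : ℕ → K) {r : ℕ} (hr : r ∈ o) (u : K) :
    Commute (x r u) (lprod x T e) := by
  have h2 : ∀ g ∈ T.map (fun s => x s (e s)), Commute (x r u) g := by
    intro g hg
    obtain ⟨s, hs, rfl⟩ := List.mem_map.1 hg
    exact (h s hs r hr _ _).symm
  exact Commute.list_prod_right _ _ h2

/-- The commutator of two products, when the commutators of the root elements are products over `T` commuting with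
everything. -/
theorem comm_lprod (hadd : ∀ r t u, x r (t + u) = x r t * x r u) {T : List ℕ}
    (hT : T.Pairwise fun r s => ∀ t u, Commute (x r t) (x s u)) {o o' : List ℕ} (ho : Cen x T o) (ho' : Cen x T o')
    {E : ℕ → ℕ → ℕ → K → K → K}
    (hE : ∀ r ∈ o, ∀ s ∈ o', ∀ t u, ⁅x r t, x s u⁆ = lprod x T fun k => E r s k t u) (c d : ℕ → K) :
    ⁅lprod x o c, lprod x o' d⁆ =
      lprod x T fun k => (o.map fun r => (o'.map fun s => E r s k (c r) (d s)).sum).sum := by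
  have h1 : ∀ r ∈ o, ∀ t, ∀ o'' : List ℕ, (∀ s ∈ o'', s ∈ o') → ⁅x r t, lprod x o'' d⁆ =
      lprod x T fun k => (o''.map fun s => E r s k t (d s)).sum := by
    intro r hr t o''
    induction o'' with
    | nil =>
      intro _
      rw [lprod_nil, commutatorElement_one_right]
      exact (lprod_zero hadd T).symm
    | cons s o'' ih =>
      intro hs
      have h2 := ih fun s' hs' => hs s' (List.mem_cons_of_mem _ hs')
      have h3 : ⁅x r t, x s (d s) * lprod x o'' d⁆ =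
          ⁅x r t, x s (d s)⁆ * (x s (d s) * ⁅x r t, lprod x o'' d⁆ * (x s (d s))⁻¹) := by
        rw [commutatorElement_def, commutatorElement_def, commutatorElement_def]; group
      rw [lprod_cons, h3, h2, (ho'.lprod _ (hs s List.mem_cons_self) _).eq, mul_inv_cancel_right,
        hE r hr s (hs s List.mem_cons_self), ← lprod_add hadd hT]
      rfl
  have h4 : ∀ o₁ : List ℕ, (∀ s ∈ o₁, s ∈ o) → ⁅lprod x o₁ c, lprod x o' d⁆ =
      lprod x T fun k => (o₁.map fun r => (o'.map fun s => E r s k (c r) (d s)).sum).sum := by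
    intro o₁
    induction o₁ with
    | nil =>
      intro _
      rw [lprod_nil, commutatorElement_one_left]
      exact (lprod_zero hadd T).symm
    | cons r o₁ ih =>
      intro hs
      have h2 := ih fun s' hs' => hs s' (List.mem_cons_of_mem _ hs')
      have h3 : ⁅x r (c r) * lprod x o₁ c, lprod x o' d⁆ =
          (x r (c r) * ⁅lprod x o₁ c, lprod x o' d⁆ * (x r (c r))⁻¹) * ⁅x r (c r), lprod x o' d⁆ := by
        rw [commutatorElement_def, commutatorElement_def, commutatorElement_def]; group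
      rw [lprod_cons, h3, h2, (ho.lprod _ (hs r List.mem_cons_self) _).eq, mul_inv_cancel_right,
        h1 r (hs r List.mem_cons_self) _ o' (fun _ h => h), ← lprod_add hadd hT]
      refine lprod_congr x fun k _ => ?_
      rw [List.map_cons, List.sum_cons, add_comm]
  exact h4 o fun _ h => h

end Gen

/-! ### The tables -/

section Tab

variable {D : ChevalleyDatum} {l m : ℕ}

/-- The class of the relative root `z`. -/
def cl (D : ChevalleyDatum) (J : Fin m → List (Fin l)) (O : List (List ℕ)) (z : Fin m → ℤ) : List ℕ :=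
  (O.find? fun o => decide (V D J (o.headD 0) = z)).getD []

/-- the root with code `n ≥ 2` -/
def dk (n : ℕ) : ℕ := (n - 2) / 2

/-- the sign with code `n ≥ 2` -/
def dc (n : ℕ) : ℤ := if n % 2 = 0 then 1 else -1

/-- The code `dg r s` describes the commutator of the roots `r`, `s`: `0` commuting, `1` opposite, `2 k + 2`, `2 k + 3`
sum `k` with sign `1`, `-1`. -/
def dgB (D : ChevalleyDatum) (dg : ℕ → ℕ → ℕ) (r s : ℕ) : Bool :=
  match dg r s with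
  | 0 => decide (r = s) || (decide (s ≠ D.neg r) && decide (D.commTerms r s = []))
  | 1 => decide (s = D.neg r)
  | n + 2 => decide (s ≠ r) && decide (s ≠ D.neg r) && decide (D.commTerms r s = [(dk (n + 2), dc (n + 2), 1, 1)])

/-- The table `dg` is correct. -/
def DgOK (D : ChevalleyDatum) (dg : ℕ → ℕ → ℕ) : Prop := ∀ r < D.nroots, ∀ s < D.nroots, dgB D dg r s = true

theorem DgOK.zero {D : ChevalleyDatum} {dg : ℕ → ℕ → ℕ} (H : DgOK D dg) {r s : ℕ} (hr : r < D.nroots)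
    (hs : s < D.nroots) (h : dg r s = 0) : r = s ∨ (s ≠ D.neg r ∧ D.commTerms r s = []) := by
  have h1 := H r hr s hs
  unfold dgB at h1
  rw [h] at h1
  simpa only [Bool.or_eq_true, Bool.and_eq_true, decide_eq_true_eq] using h1

theorem DgOK.one {D : ChevalleyDatum} {dg : ℕ → ℕ → ℕ} (H : DgOK D dg) {r s : ℕ} (hr : r < D.nroots)
    (hs : s < D.nroots) (h : dg r s = 1) : s = D.neg r := by
  have h1 := H r hr s hs
  unfold dgB at h1
  rw [h] at h1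
  simpa only [decide_eq_true_eq] using h1

theorem DgOK.two {D : ChevalleyDatum} {dg : ℕ → ℕ → ℕ} (H : DgOK D dg) {r s : ℕ} (hr : r < D.nroots)
    (hs : s < D.nroots) (h : 2 ≤ dg r s) :
    s ≠ r ∧ s ≠ D.neg r ∧ D.commTerms r s = [(dk (dg r s), dc (dg r s), 1, 1)] := by
  have h1 := H r hr s hs
  unfold dgB at h1
  obtain ⟨n, hn⟩ : ∃ n, dg r s = n + 2 := ⟨dg r s - 2, by omega⟩
  rw [hn] at h1 ⊢
  simp only [Bool.and_eq_true, decide_eq_true_eq] at h1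
  exact ⟨h1.1.1, h1.1.2, h1.2⟩

/-- The root elements commute by the tables. -/
def comB (n : ℕ) (dg : ℕ → ℕ → ℕ) (r s : ℕ) : Bool :=
  decide (r < n) && decide (s < n) && decide (dg r s = 0)

/-- The table checks for the classes. -/
structure ClData (D : ChevalleyDatum) (J : Fin m → List (Fin l)) (A : Fin m → Fin m → ℤ) (L : List (List ℕ))
    (ρ : ℕ → ℕ) (ε δ : ℕ → ℤ) (O : List (List ℕ)) (dg : ℕ → ℕ → ℕ) : Prop where
  dgOK : DgOK D dg
  cover : ∀ r < D.nroots, r ∈ O.flatten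
  lt : ∀ o ∈ O, ∀ r ∈ o, r < D.nroots
  ne : ∀ o ∈ O, o ≠ []
  cls : ∀ o ∈ O, ∀ s < D.nroots, (V D J s = V D J (o.headD 0) ↔ s ∈ o)
  cl_eq : ∀ o ∈ O, cl D J O (V D J (o.headD 0)) = o
  nodup : ∀ o ∈ O, o.Nodup
  rot : ∀ o ∈ O, o.map ρ = o.rotate 1
  comm : ∀ o ∈ O, o.Pairwise fun r s => comB D.nroots dg r s = true
  dsq : ∀ r < D.nroots, δ r * δ r = 1
  deps : ∀ r < D.nroots, ε r * δ r = δ (ρ r)
  perm : ∀ o ∈ O, ∀ i, (o.map (wp D (J i))).Perm (cl D J O (RGDFold.refl A i (V D J (o.headD 0))))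
  baseL : ∀ i, cl D J O (sr i) ∈ L
  baseF : ∀ i, (L.flatten.filter fun r => decide (r ∈ cl D J O (sr i))) = cl D J O (sr i)

variable {M : CoxeterMatrix (Fin m)} {A : Fin m → Fin m → ℤ} {J : Fin m → List (Fin l)} {L : List (List ℕ)}
  {W : Type*} [Group W] {cs : CoxeterSystem M W} {h : IsCartan M A} {ρ : ℕ → ℕ} {ε δ : ℕ → ℤ} {O : List (List ℕ)}
  {dg : ℕ → ℕ → ℕ}

theorem ClData.exists_cl (C : ClData D J A L ρ ε δ O dg) {r : ℕ} (hr : r < D.nroots) :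
    ∃ o ∈ O, r ∈ o ∧ V D J (o.headD 0) = V D J r ∧ cl D J O (V D J r) = o := by
  obtain ⟨o, ho, hro⟩ := List.mem_flatten.1 (C.cover r hr)
  have h1 := (C.cls o ho r hr).2 hro
  exact ⟨o, ho, hro, h1.symm, by rw [h1, C.cl_eq o ho]⟩

theorem ClData.root (C : ClData D J A L ρ ε δ O dg) (F : FoldData D M A J L) (hc : Checked D)
    (hwp : ∀ i : Fin m, ∀ r < D.nroots, wp D (J i) r < D.nroots) {z : Fin m → ℤ} (hz : IsRoot cs h z) :
    cl D J O z ∈ O ∧ V D J ((cl D J O z).headD 0) = z ∧ ∀ s < D.nroots, (V D J s = z ↔ s ∈ cl D J O z) := by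
  obtain ⟨r, hr, rfl⟩ := (F.isRoot_iff hc hwp z).1 hz
  obtain ⟨o, ho, hro, h1, h2⟩ := C.exists_cl hr
  rw [h2]
  refine ⟨ho, h1, fun s hs => ?_⟩
  rw [← h1]
  exact C.cls o ho s hs

end Tab

/-! ### The group -/

section Group

variable {D : ChevalleyDatum} {l : ℕ} {M' : CoxeterMatrix (Fin l)} (hp : IsType D l M') {K : Type u} [Field K]

/-- The root elements with signs. -/
def xs (hp : IsType D l M') (δ : ℕ → ℤ) (r : ℕ) (t : K) : GL D.Idx K := xG hp.inList r (((δ r : ℤ) : K) * t)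

theorem xs_add (δ : ℕ → ℤ) (r : ℕ) (t u : K) : xs hp δ r (t + u) = xs hp δ r t * xs hp δ r u := by
  unfold xs; rw [mul_add, xG_add]

variable {hp}

theorem commute_of_comB {δ : ℕ → ℤ} {dg : ℕ → ℕ → ℕ} (H : DgOK D dg) {r s : ℕ}
    (h : comB D.nroots dg r s = true) (t u : K) : Commute (xs hp δ r t) (xs hp δ s u) := by
  unfold comB at h
  rw [Bool.and_eq_true, Bool.and_eq_true] at h
  simp only [decide_eq_true_eq] at h
  obtain ⟨⟨hr, hs⟩, h⟩ := h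
  have h := H.zero hr hs h
  by_cases he : r = s
  · subst he
    unfold xs
    have h1 := xG_add hp.inList r (((δ r : ℤ) : K) * t) (((δ r : ℤ) : K) * u)
    have h2 := xG_add hp.inList r (((δ r : ℤ) : K) * u) (((δ r : ℤ) : K) * t)
    rw [add_comm] at h1
    exact h1.trans h2.symm
  · obtain ⟨h1, h2⟩ := h.resolve_left he
    exact commute_of_nil hp hr hs (Ne.symm he) h1 h2 _ _

theorem cast_sq {δ : ℕ → ℤ} {r : ℕ} (h : δ r * δ r = 1) : ((δ r : ℤ) : K) * ((δ r : ℤ) : K) = 1 := by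
  rw [← Int.cast_mul, h, Int.cast_one]

/-- `±1` -/
def Sg (η : K) : Prop := η = 1 ∨ η = -1

theorem Sg.mul_self {η : K} (h : Sg η) : η * η = 1 := by
  rcases h with rfl | rfl
  · exact mul_one 1
  · rw [neg_mul_neg, mul_one]

theorem Sg.mul {η η' : K} (h : Sg η) (h' : Sg η') : Sg (η * η') := by
  rcases h with rfl | rfl
  · rwa [one_mul]
  · rcases h' with rfl | rfl
    · right; rw [mul_one]
    · left; rw [neg_mul_neg, mul_one]

theorem Sg.ne_zero {η : K} (h : Sg η) : η ≠ 0 := by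
  rintro rfl
  have := h.mul_self
  rw [mul_zero] at this
  exact zero_ne_one this

theorem Sg.fix {η : K} (h : Sg η) (φ : K →+* K) : φ η = η := by
  rcases h with rfl | rfl
  · exact map_one φ
  · rw [map_neg, map_one]

theorem Sg.eq_one {η : K} (h : Sg η) (h2 : (2 : K) = 0) : η = 1 := by
  rcases h with rfl | rfl
  · rfl
  · exact (neg_eq_of_add_eq_zero_right (by rw [one_add_one_eq_two, h2]))

theorem sg_cast {δ : ℕ → ℤ} {r : ℕ} (h : δ r * δ r = 1) : Sg ((δ r : ℤ) : K) := by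
  have h1 : δ r = 1 ∨ δ r = -1 := mul_self_eq_one_iff.1 h
  rcases h1 with h1 | h1
  · left; rw [h1, Int.cast_one]
  · right; rw [h1, Int.cast_neg, Int.cast_one]

theorem conj_xG (o : List (Fin l)) {s : ℕ} (hs : s < D.nroots) :
    ∃ η : K, Sg η ∧ ∀ t, nI hp K o * xG hp.inList s t * (nI hp K o)⁻¹ = xG hp.inList (wp D o s) (η * t) := by
  induction o with
  | nil =>
    refine ⟨1, Or.inl rfl, fun t => ?_⟩
    show 1 * xG hp.inList s t * 1⁻¹ = xG hp.inList s (1 * t)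
    rw [one_mul, inv_one, mul_one, one_mul]
  | cons j o ih =>
    obtain ⟨η, h1, h2⟩ := ih
    obtain ⟨η', h3, h4, -⟩ := NConj.conj_x (F := K) hp.inList (lt_rank hp j) (wp_lt hp o hs)
    have h3' : Sg η' := h3
    refine ⟨η' * η, h3'.mul h1, fun t => ?_⟩
    have e : nI hp K (j :: o) * xG hp.inList s t * (nI hp K (j :: o))⁻¹ =
        nn hp K j * (nI hp K o * xG hp.inList s t * (nI hp K o)⁻¹) * (nn hp K j)⁻¹ := by
      rw [nI_cons]; group
    have h5 := h4 (η * t)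
    rw [← mul_assoc] at h5
    rw [e, h2]
    exact h5

theorem conj_xs {δ : ℕ → ℤ} (hδ : ∀ r < D.nroots, δ r * δ r = 1) (o : List (Fin l)) {s : ℕ} (hs : s < D.nroots) :
    ∃ η : K, Sg η ∧ ∀ t, nI hp K o * xs hp δ s t * (nI hp K o)⁻¹ = xs hp δ (wp D o s) (η * t) := by
  obtain ⟨η, h1, h2⟩ := conj_xG (K := K) (hp := hp) o hs
  have h3 : Sg ((δ s : ℤ) : K) := sg_cast (hδ s hs)
  have h4 : Sg ((δ (wp D o s) : ℤ) : K) := sg_cast (hδ _ (wp_lt hp o hs))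
  refine ⟨((δ (wp D o s) : ℤ) : K) * (((δ s : ℤ) : K) * η), h4.mul (h3.mul h1), fun t => ?_⟩
  unfold xs
  rw [h2]
  congr 1
  have := h4.mul_self
  linear_combination (-(((δ s : ℤ) : K) * η * t)) * this

variable {m : ℕ} {M : CoxeterMatrix (Fin m)} {W : Type*} [Group W] {cs : CoxeterSystem M W}
  {A : Fin m → Fin m → ℤ} {h : IsCartan M A}
  {J : Fin m → List (Fin l)} {L : List (List ℕ)} {σ : GL D.Idx K →* GL D.Idx K} {ρ ρ' : ℕ → ℕ}
    {f : ℕ → K → K} {G : Subgroup (GL D.Idx K)} {φ : K →+* K} {ε δ : ℕ → ℤ} {O : List (List ℕ)}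
    {dg : ℕ → ℕ → ℕ}

/-- The properties of the twisted group used for the coordinates. -/
structure TwC (hp : IsType D l M') (K : Type u) [Field K] (M : CoxeterMatrix (Fin m)) (A : Fin m → Fin m → ℤ)
    (J : Fin m → List (Fin l)) (L : List (List ℕ)) (σ : GL D.Idx K →* GL D.Idx K) (ρ ρ' : ℕ → ℕ)
    (f : ℕ → K → K) (G : Subgroup (GL D.Idx K)) (φ : K →+* K) (ε δ : ℕ → ℤ) (O : List (List ℕ))
    (dg : ℕ → ℕ → ℕ) : Prop where
  FD : FoldData D M A J L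
  FG : FoldGrp hp K J L σ ρ ρ' f G
  CD : ClData D J A L ρ ε δ O dg
  sig : ∀ r < D.nroots, ∀ t, σ (xG hp.inList r t) = xG hp.inList (ρ r) (((ε r : ℤ) : K) * φ t)

/-- The root element of the relative root `z`. -/
def Y (hp : IsType D l M') (J : Fin m → List (Fin l)) (φ : K →+* K) (δ : ℕ → ℤ) (O : List (List ℕ))
    (z : Fin m → ℤ) (a : K) : GL D.Idx K := yv (xs hp δ) φ (cl D J O z) a

variable (T : TwC hp K M A J L σ ρ ρ' f G φ ε δ O dg)

include T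

theorem TwC.root {z : Fin m → ℤ} (hz : IsRoot cs h z) :
    cl D J O z ∈ O ∧ V D J ((cl D J O z).headD 0) = z ∧ ∀ s < D.nroots, (V D J s = z ↔ s ∈ cl D J O z) :=
  T.CD.root T.FD hp.checked (fun i _ hr => wp_lt hp (J i) hr) hz

theorem TwC.sig_xs {r : ℕ} (hr : r < D.nroots) (t : K) : σ (xs hp δ r t) = xs hp δ (ρ r) (φ t) := by
  unfold xs
  rw [T.sig r hr, map_mul, (sg_cast (K := K) (T.CD.dsq r hr)).fix φ, ← T.CD.deps r hr, Int.cast_mul, mul_assoc]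

theorem TwC.cls {o : List ℕ} (ho : o ∈ O) : Cls (xs hp δ) σ ρ φ o where
  nodup := T.CD.nodup o ho
  comm := (T.CD.comm o ho).imp fun h t u => commute_of_comB T.CD.dgOK h t u
  sig r hr t := T.sig_xs (T.CD.lt o ho r hr) t
  rot := T.CD.rot o ho

omit T in
theorem lprod_xs (o : List ℕ) (c : ℕ → K) :
    lprod (xs hp δ) o c = lprod (xG hp.inList) o fun s => ((δ s : ℤ) : K) * c s := by
  induction o with
  | nil => rfl
  | cons r o ih => rw [lprod_cons, lprod_cons, ih]; rfl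

theorem TwC.image_mem (i : Fin m) {o : List ℕ} (ho : o ∈ O) :
    cl D J O (RGDFold.refl A i (V D J (o.headD 0))) ∈ O := by
  have h1 : o.headD 0 ∈ o := by
    cases o with
    | nil => exact absurd rfl (T.CD.ne _ ho)
    | cons r o => exact List.mem_cons_self
  have h2 := T.CD.lt o ho _ h1
  rw [← T.FD.wp_V _ h2]
  obtain ⟨o', ho', -, -, e⟩ := T.CD.exists_cl (wp_lt hp (J i) h2)
  rw [e]
  exact ho'

/-- Conjugation by the fundamental reflections. -/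
theorem TwC.conj_lprod (i : Fin m) {o : List ℕ} (ho : o ∈ O) :
    ∃ η : ℕ → K, (∀ s ∈ o, Sg (η s)) ∧ ∀ c e : ℕ → K, (∀ s ∈ o, e (wp D (J i) s) = η s * c s) →
      nI hp K (J i) * lprod (xs hp δ) o c * (nI hp K (J i))⁻¹ =
        lprod (xs hp δ) (cl D J O (RGDFold.refl A i (V D J (o.headD 0)))) e := by
  have hperm := T.CD.perm o ho i
  have hcomm := (T.cls (T.image_mem i ho)).comm
  have hη : ∀ s, ∃ η : K, s < D.nroots → Sg η ∧ ∀ t, nI hp K (J i) * xs hp δ s t * (nI hp K (J i))⁻¹ =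
      xs hp δ (wp D (J i) s) (η * t) := by
    intro s
    by_cases hs : s < D.nroots
    · obtain ⟨η, h⟩ := conj_xs (K := K) (hp := hp) T.CD.dsq (J i) hs
      exact ⟨η, fun _ => h⟩
    · exact ⟨1, fun h => absurd h hs⟩
  choose η hη using hη
  have hlt := T.CD.lt o ho
  refine ⟨η, fun s hs => (hη s (hlt s hs)).1, fun c e he => ?_⟩
  exact map_lprod_to (τ := (MulAut.conj (nI hp K (J i))).toMonoidHom) (w := wp D (J i))
      (f := fun s t => η s * t) (fun s hs t => (hη s (hlt s hs)).2 t) hperm hcomm he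

/-- Existence of the transported coordinate function. -/
theorem TwC.exists_fun (i : Fin m) {o : List ℕ} (ho : o ∈ O) (c : ℕ → K) :
    ∃ e : ℕ → K, ∀ s ∈ o, e (wp D (J i) s) = c s := by
  classical
  have hinj : ∀ a ∈ o, ∀ b ∈ o, wp D (J i) a = wp D (J i) b → a = b := by
    have h1 : (o.map (wp D (J i))).Nodup :=
      (T.CD.perm o ho i).nodup_iff.2 (T.CD.nodup _ (T.image_mem i ho))
    exact fun a ha b hb h => List.inj_on_of_nodup_map h1 ha hb h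
  refine ⟨fun t => if h : ∃ s ∈ o, wp D (J i) s = t then c h.choose else 0, fun s hs => ?_⟩
  have h : ∃ s' ∈ o, wp D (J i) s' = wp D (J i) s := ⟨s, hs, rfl⟩
  show (if h : ∃ s' ∈ o, wp D (J i) s' = wp D (J i) s then c h.choose else 0) = _
  rw [dif_pos h, hinj _ h.choose_spec.1 _ hs h.choose_spec.2]

theorem TwC.inj_base (i : Fin m) : Inj (xs (K := K) hp δ) (cl D J O (sr i)) := by
  intro c c' hcc s hs
  rw [lprod_xs, lprod_xs] at hcc
  have h1 := inj_orbit T.FG.setup (T.CD.baseL i) (T.CD.baseF i) hcc s hs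
  have h2 : s < D.nroots := T.FD.ltL (List.mem_flatten.2 ⟨_, T.CD.baseL i, hs⟩)
  exact mul_left_cancel₀ (sg_cast (K := K) (T.CD.dsq s h2)).ne_zero h1

/-- **Uniqueness of coordinates in all classes.** -/
theorem TwC.inj {z : Fin m → ℤ} (hz : IsRoot cs h z) : Inj (xs (K := K) hp δ) (cl D J O z) := by
  obtain ⟨w, i, rfl⟩ := hz
  obtain ⟨ω, rfl⟩ := cs.wordProd_surjective w
  induction ω with
  | nil =>
    rw [wordProd_nil, map_one, Module.End.one_apply]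
    exact T.inj_base i
  | cons j ω ih =>
    have hz : IsRoot cs h (rep cs h (cs.wordProd ω) (sr i)) := ⟨_, i, rfl⟩
    rw [wordProd_cons, rep_mul_apply, rep_refl]
    generalize rep cs h (cs.wordProd ω) (sr i) = z at ih hz ⊢
    obtain ⟨ho, hV, -⟩ := T.root hz
    have hperm := T.CD.perm _ ho j
    rw [hV] at hperm
    obtain ⟨η, hη, key⟩ := T.conj_lprod j ho
    rw [hV] at key
    intro c c' hcc s hs
    obtain ⟨s, hs', rfl⟩ := List.mem_map.1 (hperm.symm.subset hs)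
    have h1 : ∀ c : ℕ → K, nI hp K (J j) * lprod (xs hp δ) (cl D J O z) (fun s => η s * c (wp D (J j) s)) *
        (nI hp K (J j))⁻¹ = lprod (xs hp δ) (cl D J O (RGDFold.refl A j z)) c := by
      intro c
      apply key
      intro s hs
      rw [← mul_assoc, (hη s hs).mul_self, one_mul]
    rw [← h1 c, ← h1 c'] at hcc
    have h2 := ih _ _ (mul_left_cancel (mul_right_cancel hcc)) s hs'
    exact mul_left_cancel₀ (hη s hs').ne_zero h2

/-- **The root group of `z`.** -/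
theorem TwC.mem_R {z : Fin m → ℤ} (hz : IsRoot cs h z) (g : GL D.Idx K) :
    g ∈ R D hp K J σ z ↔ ∃ a, φ^[(cl D J O z).length] a = a ∧ g = Y hp J φ δ O z a := by
  obtain ⟨ho, hV, hcls⟩ := T.root hz
  have hR : R D hp K J σ z = rspan (xG (F := K) hp.inList) {k | k ∈ cl D J O z} ⊓ fixS σ :=
    R_eq hcls (T.CD.lt _ ho)
  have hC := T.cls ho
  have hsp : rspan (xG (F := K) hp.inList) {k | k ∈ cl D J O z} = rspan (xs hp δ) {k | k ∈ cl D J O z} := by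
    apply le_antisymm
    · refine rspan_le _ fun r hr t => ?_
      have h1 := (sg_cast (K := K) (T.CD.dsq r (T.CD.lt _ ho r hr))).mul_self
      have h2 : xG hp.inList r t = xs hp δ r (((δ r : ℤ) : K) * t) := by
        unfold xs
        rw [← mul_assoc, h1, one_mul]
      rw [h2]
      exact mem_rspan (xs hp δ) hr _
    · exact rspan_le _ fun r hr t => mem_rspan (xG hp.inList) hr _
  rw [hR, hsp]
  constructor
  · rintro ⟨hg1, hg2⟩
    obtain ⟨c, rfl⟩ := hC.exists_lprod (xs_add hp δ) hg1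
    obtain ⟨r, o', e⟩ : ∃ r o', cl D J O z = r :: o' := List.exists_cons_of_ne_nil (T.CD.ne _ ho)
    obtain ⟨h1, h2⟩ := hC.eq_yv (T.inj hz) e hg2
    exact ⟨c r, h2, h1⟩
  · rintro ⟨a, ha, rfl⟩
    refine ⟨?_, hC.yv_fix ha⟩
    unfold Y
    rw [yv_eq_lprod hC.nodup]
    exact lprod_mem_rspan _ (fun _ h => h) _

theorem TwC.Y_inj {z : Fin m → ℤ} (hz : IsRoot cs h z) {a b : K}
    (hab : Y hp J φ δ O z a = Y hp J φ δ O z b) : a = b :=
  (T.cls (T.root hz).1).yv_inj (T.inj hz) (T.CD.ne _ (T.root hz).1) hab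

theorem TwC.Y_add {z : Fin m → ℤ} (hz : IsRoot cs h z) (a b : K) :
    Y hp J φ δ O z (a + b) = Y hp J φ δ O z a * Y hp J φ δ O z b :=
  yv_add (xs_add hp δ) (T.cls (T.root hz).1).comm a b

/-- The first root of the class. -/
theorem TwC.head {z : Fin m → ℤ} (hz : IsRoot cs h z) :
    ∃ o', cl D J O z = (cl D J O z).headD 0 :: o' := by
  obtain ⟨r, o', e⟩ := List.exists_cons_of_ne_nil (T.CD.ne _ (T.root hz).1)
  exact ⟨o', by rw [e]; rfl⟩

/-- A `σ`-fixed product over the class of `z`. -/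
theorem TwC.eq_Y {z : Fin m → ℤ} (hz : IsRoot cs h z) {c : ℕ → K}
    (hc : σ (lprod (xs hp δ) (cl D J O z) c) = lprod (xs hp δ) (cl D J O z) c) :
    lprod (xs hp δ) (cl D J O z) c = Y hp J φ δ O z (c ((cl D J O z).headD 0)) ∧
      φ^[(cl D J O z).length] (c ((cl D J O z).headD 0)) = c ((cl D J O z).headD 0) := by
  obtain ⟨o', e⟩ := T.head hz
  exact (T.cls (T.root hz).1).eq_yv (T.inj hz) e hc

theorem TwC.Y_fix {z : Fin m → ℤ} (hz : IsRoot cs h z) {a : K} (ha : φ^[(cl D J O z).length] a = a) :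
    σ (Y hp J φ δ O z a) = Y hp J φ δ O z a := (T.cls (T.root hz).1).yv_fix ha

theorem TwC.Y_eq {z : Fin m → ℤ} (hz : IsRoot cs h z) (a : K) :
    Y hp J φ δ O z a = lprod (xs hp δ) (cl D J O z) fun s => φ^[(cl D J O z).idxOf s] a :=
  yv_eq_lprod (T.cls (T.root hz).1).nodup a

omit T in
theorem idxOf_map {w : ℕ → ℕ} {o : List ℕ} (hinj : ∀ a ∈ o, ∀ b ∈ o, w a = w b → a = b) {s : ℕ} (hs : s ∈ o) :
    (o.map w).idxOf (w s) = o.idxOf s := by
  induction o with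
  | nil => exact absurd hs List.not_mem_nil
  | cons r o ih =>
    rw [List.map_cons]
    by_cases h : r = s
    · subst h; rw [List.idxOf_cons_self, List.idxOf_cons_self]
    · have h1 : w r ≠ w s := fun e => h (hinj r List.mem_cons_self s hs e)
      rw [List.idxOf_cons_ne _ h1, List.idxOf_cons_ne _ h,
        ih (fun a ha b hb => hinj a (List.mem_cons_of_mem _ ha) b (List.mem_cons_of_mem _ hb))
          ((List.mem_cons.1 hs).resolve_left (Ne.symm h))]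

/-- The field exponent of the fundamental reflection `i` on the root `z`. -/
def ex (D : ChevalleyDatum) (J : Fin m → List (Fin l)) (A : Fin m → Fin m → ℤ) (O : List (List ℕ)) (i : Fin m)
    (z : Fin m → ℤ) : ℕ :=
  ((cl D J O z).map (wp D (J i))).idxOf ((cl D J O (RGDFold.refl A i z)).headD 0)

/-- **The action of the fundamental reflections.** -/
theorem TwC.conj_Y (i : Fin m) {z : Fin m → ℤ} (hz : IsRoot cs h z) :
    ∃ η : K, Sg η ∧ ∀ a, φ^[(cl D J O z).length] a = a → nI hp K (J i) * Y hp J φ δ O z a * (nI hp K (J i))⁻¹ =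
      Y hp J φ δ O (rep cs h (cs.simple i) z) (η * φ^[ex D J A O i z] a) := by
  obtain ⟨ho, hV, -⟩ := T.root hz
  have hz' : IsRoot cs h (RGDFold.refl A i z) := by
    rw [← rep_refl (cs := cs) (h := h)]; exact hz.act (cs.simple i)
  obtain ⟨η, hη, key⟩ := T.conj_lprod i ho
  have hperm := T.CD.perm _ ho i
  rw [hV] at key hperm
  obtain ⟨s, hs, e⟩ : ∃ s ∈ cl D J O z, wp D (J i) s = (cl D J O (RGDFold.refl A i z)).headD 0 := by
    obtain ⟨o', e⟩ := T.head hz'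
    have h1 : (cl D J O (RGDFold.refl A i z)).headD 0 ∈ (cl D J O z).map (wp D (J i)) := by
      refine hperm.symm.subset ?_
      rw [e]
      exact List.mem_cons_self
    obtain ⟨s, hs, e⟩ := List.mem_map.1 h1
    exact ⟨s, hs, e⟩
  have hinj : ∀ a ∈ cl D J O z, ∀ b ∈ cl D J O z, wp D (J i) a = wp D (J i) b → a = b := by
    have h1 : ((cl D J O z).map (wp D (J i))).Nodup := hperm.nodup_iff.2 (T.CD.nodup _ (T.root hz').1)
    exact fun a ha b hb h => List.inj_on_of_nodup_map h1 ha hb h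
  refine ⟨η s, hη s hs, fun a ha => ?_⟩
  obtain ⟨c, hc⟩ := T.exists_fun i ho fun s => η s * φ^[(cl D J O z).idxOf s] a
  have h1 := key _ c hc
  rw [← T.Y_eq hz] at h1
  have h2 : σ (lprod (xs hp δ) (cl D J O (RGDFold.refl A i z)) c) =
      lprod (xs hp δ) (cl D J O (RGDFold.refl A i z)) c := by
    rw [← h1, map_mul, map_mul, map_inv, T.FG.nfix, T.Y_fix hz ha]
  rw [h1, rep_refl, (T.eq_Y hz' h2).1, ← e, hc s hs]
  unfold ex
  rw [← e, idxOf_map hinj hs]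

/-- **The action of the torus.** -/
theorem TwC.tor_Y {t : GL D.Idx K} (ht : t ∈ D.diagonalSubgroup K) (htσ : σ t = t) {z : Fin m → ℤ}
    (hz : IsRoot cs h z) {χ : K} (hχ : ∀ u, t * xG hp.inList ((cl D J O z).headD 0) u * t⁻¹ =
      xG hp.inList ((cl D J O z).headD 0) (χ * u)) :
    χ ≠ 0 ∧ φ^[(cl D J O z).length] χ = χ ∧ ∀ a, φ^[(cl D J O z).length] a = a →
      t * Y hp J φ δ O z a * t⁻¹ = Y hp J φ δ O z (χ * a) := by
  obtain ⟨ho, hV, -⟩ := T.root hz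
  have hC := T.cls ho
  have hlt := T.CD.lt _ ho
  have hη : ∀ s, ∃ η : K, s < D.nroots → η ≠ 0 ∧ ∀ u, t * xG hp.inList s u * t⁻¹ = xG hp.inList s (η * u) := by
    intro s
    by_cases hs : s < D.nroots
    · obtain ⟨η, h1, h2⟩ := BNChev.diagonal_conj hp.inList (F := K) ht hs
      exact ⟨η, fun _ => ⟨h1, h2⟩⟩
    · exact ⟨1, fun h => absurd h hs⟩
  choose η hη using hη
  obtain ⟨o', e⟩ := T.head hz
  have hhead : (cl D J O z).headD 0 ∈ cl D J O z := by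
    rw [e]; exact List.mem_cons_self
  have hχη : η ((cl D J O z).headD 0) = χ := by
    have h1 := (hη _ (hlt _ hhead)).2 1
    rw [hχ] at h1
    have h2 := xG_injective hp.inList (hlt _ hhead) h1
    rw [mul_one, mul_one] at h2
    exact h2.symm
  have key : ∀ c : ℕ → K, t * lprod (xs hp δ) (cl D J O z) c * t⁻¹ =
      lprod (xs hp δ) (cl D J O z) fun s => η s * c s := by
    intro c
    have h1 : ((cl D J O z).map (id : ℕ → ℕ)).Perm (cl D J O z) := by rw [List.map_id]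
    refine map_lprod_to (τ := (MulAut.conj t).toMonoidHom) (w := id)
      (f := fun s u => η s * u) (fun s hs u => ?_) h1 hC.comm (fun s _ => rfl)
    show t * xG hp.inList s _ * t⁻¹ = xG hp.inList s _
    rw [(hη s (hlt s hs)).2]
    congr 1
    show η s * (((δ s : ℤ) : K) * u) = ((δ s : ℤ) : K) * (η s * u)
    ring
  have main : ∀ a, φ^[(cl D J O z).length] a = a → t * Y hp J φ δ O z a * t⁻¹ = Y hp J φ δ O z (χ * a) ∧
      φ^[(cl D J O z).length] (χ * a) = χ * a := by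
    intro a ha
    have h1 := key fun s => φ^[(cl D J O z).idxOf s] a
    rw [← T.Y_eq hz] at h1
    have h2 : σ (lprod (xs hp δ) (cl D J O z) fun s => η s * φ^[(cl D J O z).idxOf s] a) =
        lprod (xs hp δ) (cl D J O z) fun s => η s * φ^[(cl D J O z).idxOf s] a := by
      rw [← h1, map_mul, map_mul, map_inv, htσ, T.Y_fix hz ha]
    obtain ⟨h3, h4⟩ := T.eq_Y hz h2
    have h5 : (cl D J O z).idxOf ((cl D J O z).headD 0) = 0 := by
      rw [e]; exact List.idxOf_cons_self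
    rw [h5, hχη] at h3 h4
    exact ⟨h1.trans h3, h4⟩
  refine ⟨?_, ?_, fun a ha => (main a ha).1⟩
  · rw [← hχη]; exact (hη _ (hlt _ hhead)).1
  · have h1 := (main 1 (by rw [iterate_map_one])).2
    rwa [mul_one] at h1

/-! ### Commutators of root elements -/

/-- the structure constant of the modified root elements -/
def NN (dg : ℕ → ℕ → ℕ) (δ : ℕ → ℤ) (r s : ℕ) : ℤ := δ (dk (dg r s)) * dc (dg r s) * δ r * δ s

/-- One pair of roots: either commuting or with sum in `T`, commuting with the `r`, `s`. -/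
def okB (n : ℕ) (dg : ℕ → ℕ → ℕ) (T : List ℕ) (r s : ℕ) : Bool :=
  decide (r < n) && decide (s < n) && (decide (dg r s = 0) || (decide (2 ≤ dg r s) && decide (dk (dg r s) ∈ T) &&
    comB n dg (dk (dg r s)) r && comB n dg (dk (dg r s)) s))

/-- All pairs, and `T` commutes with `o` and `o'`. -/
def okP (n : ℕ) (dg : ℕ → ℕ → ℕ) (T o o' : List ℕ) : Bool :=
  (o.all fun r => o'.all fun s => okB n dg T r s) && (T.all fun k => o.all fun r => comB n dg k r) &&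
    (T.all fun k => o'.all fun s => comB n dg k s)

omit T in
theorem comm_xs (H : DgOK D dg) {δ : ℕ → ℤ} (hδ : ∀ r < D.nroots, δ r * δ r = 1) {T : List ℕ} (hT : T.Nodup)
    (hT' : ∀ k ∈ T, k < D.nroots) {r s : ℕ}
    (hok : okB D.nroots dg T r s = true) (t u : K) :
    ⁅xs hp δ r t, xs hp δ s u⁆ = lprod (xs hp δ) T fun k =>
      if 2 ≤ dg r s ∧ dk (dg r s) = k then ((NN dg δ r s : ℤ) : K) * (t * u) else 0 := by
  unfold okB at hok
  simp only [Bool.and_eq_true, Bool.or_eq_true, decide_eq_true_eq] at hok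
  obtain ⟨⟨hr, hs⟩, hok⟩ := hok
  by_cases hc : dg r s = 0
  · have hc' : comB D.nroots dg r s = true := by
      unfold comB
      simp only [Bool.and_eq_true, decide_eq_true_eq]
      exact ⟨⟨hr, hs⟩, hc⟩
    rw [commutatorElement_eq_one_iff_commute.2 (commute_of_comB H hc' t u)]
    have h1 : (fun k => if 2 ≤ dg r s ∧ dk (dg r s) = k then ((NN dg δ r s : ℤ) : K) * (t * u) else 0) =
        fun _ => (0 : K) := by
      funext k
      rw [if_neg]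
      rintro ⟨h1, -⟩
      omega
    rw [h1]
    exact (lprod_zero (xs_add hp δ) T).symm
  · obtain ⟨⟨⟨h2, hkT⟩, hkr⟩, hks⟩ := hok.resolve_left hc
    obtain ⟨hsr, hneg, hct⟩ := H.two hr hs h2
    have h1 : (fun k => if 2 ≤ dg r s ∧ dk (dg r s) = k then ((NN dg δ r s : ℤ) : K) * (t * u) else 0) =
        fun k => if dk (dg r s) = k then ((NN dg δ r s : ℤ) : K) * (t * u) else 0 := by
      funext k
      by_cases hk : dk (dg r s) = k
      · rw [if_pos ⟨h2, hk⟩, if_pos hk]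
      · rw [if_neg (fun h => hk h.2), if_neg hk]
    rw [h1, lprod_single (xs_add hp δ) hT hkT]
    -- the commutator formula
    have hk := hT' _ hkT
    have h3 := Cfsg.Agent.S1025.result (F := K) D hp.inList r s hr hs hsr hneg (((δ r : ℤ) : K) * t)
      (((δ s : ℤ) : K) * u)
    have h4 : xs hp δ s u * xs hp δ r t = xs hp δ r t * xs hp δ s u *
        wordG hp.inList (D.commWord K r s (((δ r : ℤ) : K) * t) (((δ s : ℤ) : K) * u)) := by
      apply Units.ext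
      rw [Units.val_mul, Units.val_mul, Units.val_mul, coe_wordG, xs, xs, coe_xG, coe_xG]
      exact h3
    have h5 : wordG hp.inList (D.commWord K r s (((δ r : ℤ) : K) * t) (((δ s : ℤ) : K) * u)) =
        (xs hp δ (dk (dg r s)) (((NN dg δ r s : ℤ) : K) * (t * u)))⁻¹ := by
      unfold ChevalleyDatum.commWord
      rw [hct, List.map_cons, List.map_nil, wordG_cons, wordG_nil, mul_one, xs, xG_inv]
      congr 1
      have h6 := (sg_cast (K := K) (hδ _ hk)).mul_self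
      unfold NN
      push_cast
      linear_combination ((dc (dg r s) : ℤ) : K) * (((δ r : ℤ) : K) * t) * (((δ s : ℤ) : K) * u) * h6
    rw [h5] at h4
    have c1 := commute_of_comB (K := K) (hp := hp) (δ := δ) H hkr (((NN dg δ r s : ℤ) : K) * (t * u)) t
    have c2 := commute_of_comB (K := K) (hp := hp) (δ := δ) H hks (((NN dg δ r s : ℤ) : K) * (t * u)) u
    generalize xs hp δ (dk (dg r s)) (((NN dg δ r s : ℤ) : K) * (t * u)) = g at h4 c1 c2 ⊢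
    generalize xs hp δ r t = a at h4 c1 c2 ⊢
    generalize xs hp δ s u = b at h4 c1 c2 ⊢
    have h7 : g = a * b * (b * a)⁻¹ := by
      have h8 : b * a * g = a * b := by rw [h4, mul_assoc, inv_mul_cancel, mul_one]
      have h9 : g * (b * a) = b * a * g := by
        rw [← mul_assoc, c2.eq, mul_assoc, c1.eq, ← mul_assoc]
      rw [← h8, ← h9, mul_inv_cancel_right]
    rw [h7, commutatorElement_def]
    group

omit T in
theorem sum_map_ite {α : Type*} (p : α → Prop) [DecidablePred p] (g : α → K) (o : List α) :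
    (o.map fun s => if p s then g s else 0).sum = ((o.filter fun s => decide (p s)).map g).sum := by
  induction o with
  | nil => rfl
  | cons s o ih =>
    rw [List.map_cons, List.sum_cons, ih]
    by_cases h : p s
    · rw [if_pos h, List.filter_cons_of_pos (by simpa using h), List.map_cons, List.sum_cons]
    · rw [if_neg h, List.filter_cons_of_neg (by simpa using h), zero_add]

omit T in
theorem sum_flatMap {α : Type*} (g : α → List K) (o : List α) :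
    (o.flatMap g).sum = (o.map fun r => (g r).sum).sum := by
  induction o with
  | nil => rfl
  | cons r o ih => rw [List.flatMap_cons, List.sum_append, ih, List.map_cons, List.sum_cons]

/-- The terms `(N, i, j)` of the commutator of the root elements of the classes `o`, `o'` for the root `k₀`. -/
def tm (dg : ℕ → ℕ → ℕ) (δ : ℕ → ℤ) (o o' : List ℕ) (k₀ : ℕ) : List (ℤ × ℕ × ℕ) :=
  o.flatMap fun r => (o'.filter fun s => decide (2 ≤ dg r s ∧ dk (dg r s) = k₀)).map fun s =>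
      (NN dg δ r s, o.idxOf r, o'.idxOf s)

/-- **The commutator formula, bilinear case.** -/
theorem TwC.comm_Y {z z' z'' : Fin m → ℤ} (hz : IsRoot cs h z) (hz' : IsRoot cs h z') (hz'' : IsRoot cs h z'')
    (hok : okP D.nroots dg (cl D J O z'') (cl D J O z) (cl D J O z') = true) {a b : K}
    (ha : φ^[(cl D J O z).length] a = a) (hb : φ^[(cl D J O z').length] b = b) :
    ⁅Y hp J φ δ O z a, Y hp J φ δ O z' b⁆ = Y hp J φ δ O z''
      (((tm dg δ (cl D J O z) (cl D J O z') ((cl D J O z'').headD 0)).map fun p =>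
        ((p.1 : ℤ) : K) * (φ^[p.2.1] a * φ^[p.2.2] b)).sum) := by
  unfold okP at hok
  rw [Bool.and_eq_true, Bool.and_eq_true, List.all_eq_true, List.all_eq_true, List.all_eq_true] at hok
  obtain ⟨⟨h1, h2⟩, h3⟩ := hok
  have hC := T.cls (T.root hz'').1
  have c1 : Cen (xs (K := K) hp δ) (cl D J O z'') (cl D J O z) := fun k hk r hr t u =>
    commute_of_comB T.CD.dgOK (List.all_eq_true.1 (h2 k hk) r hr) t u
  have c2 : Cen (xs (K := K) hp δ) (cl D J O z'') (cl D J O z') := fun k hk r hr t u =>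
    commute_of_comB T.CD.dgOK (List.all_eq_true.1 (h3 k hk) r hr) t u
  have h4 := comm_lprod (xs_add hp δ) hC.comm c1 c2
    (E := fun r s k t u => if 2 ≤ dg r s ∧ dk (dg r s) = k then ((NN dg δ r s : ℤ) : K) * (t * u) else 0)
    (fun r hr s hs t u => comm_xs T.CD.dgOK T.CD.dsq hC.nodup (T.CD.lt _ (T.root hz'').1)
      (List.all_eq_true.1 (h1 r hr) s hs) t u)
    (fun s => φ^[(cl D J O z).idxOf s] a) (fun s => φ^[(cl D J O z').idxOf s] b)
  rw [← T.Y_eq hz, ← T.Y_eq hz'] at h4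
  have h5 := T.eq_Y hz'' (by
    rw [← h4, map_commutatorElement, T.Y_fix hz ha, T.Y_fix hz' hb])
  rw [h4, h5.1]
  congr 1
  unfold tm
  rw [List.map_flatMap, sum_flatMap]
  congr 1
  refine List.map_congr_left fun r _ => ?_
  rw [List.map_map]
  exact sum_map_ite _ _ _

/-- **The commutator formula, commuting case.** -/
theorem TwC.commute_Y {z z' : Fin m → ℤ} (hok : ((cl D J O z).all fun r => (cl D J O z').all fun s =>
    comB D.nroots dg r s) = true) (a b : K) : Commute (Y hp J φ δ O z a) (Y hp J φ δ O z' b) := by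
  rw [List.all_eq_true] at hok
  unfold Y
  have h1 : ∀ o' : List ℕ, (∀ s ∈ o', s ∈ cl D J O z') → ∀ o : List ℕ, (∀ r ∈ o, r ∈ cl D J O z) → ∀ a b,
      Commute (yv (xs (K := K) hp δ) φ o a) (yv (xs hp δ) φ o' b) := by
    intro o' ho' o
    induction o with
    | nil => intro _ a b; exact Commute.one_left _
    | cons r o ih =>
      intro ho a b
      have h2 : Commute (xs hp δ r a) (yv (xs hp δ) φ o' b) := by
        clear ih
        induction o' generalizing b with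
        | nil => exact Commute.one_right _
        | cons s o' ih' =>
          exact Commute.mul_right (commute_of_comB T.CD.dgOK (List.all_eq_true.1
            (hok r (ho r List.mem_cons_self)) s (ho' s List.mem_cons_self)) _ _)
            (ih' (fun s' hs' => ho' s' (List.mem_cons_of_mem _ hs')) _)
      exact Commute.mul_left h2 (ih (fun r' hr' => ho r' (List.mem_cons_of_mem _ hr')) _ _)
  exact h1 _ (fun _ h => h) _ (fun _ h => h) a b

/-- `r + s = k` is a root commuting with `r`, `s`. -/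
def sumB (n : ℕ) (dg : ℕ → ℕ → ℕ) (r s k : ℕ) : Bool :=
  okB n dg [k] r s && decide (2 ≤ dg r s) && decide (dk (dg r s) = k) && decide (k < n)

omit T in
theorem comm_one (H : DgOK D dg) {δ : ℕ → ℤ} (hδ : ∀ r < D.nroots, δ r * δ r = 1) {r s k : ℕ}
    (hok : sumB D.nroots dg r s k = true)
    (t u : K) : ⁅xs hp δ r t, xs hp δ s u⁆ = xs hp δ k (((NN dg δ r s : ℤ) : K) * (t * u)) := by
  unfold sumB at hok
  simp only [Bool.and_eq_true, decide_eq_true_eq] at hok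
  obtain ⟨⟨⟨h1, h2⟩, h3⟩, h4⟩ := hok
  rw [comm_xs H hδ (List.nodup_singleton k) (fun k' hk' => by rw [List.mem_singleton.1 hk']; exact h4) h1,
    lprod_cons, lprod_nil, mul_one, if_pos ⟨h2, h3⟩]

/-- The checks for the quadratic case. -/
def okQ (n : ℕ) (dg : ℕ → ℕ → ℕ) (δ : ℕ → ℤ) (r s₀ s₁ u₀ u₁ v : ℕ) : Bool :=
  sumB n dg r s₀ u₀ && sumB n dg r s₁ u₁ && sumB n dg s₀ u₁ v && comB n dg v u₁ &&
    decide (NN dg δ r s₀ = NN dg δ r s₁)

/-- **The commutator formula, quadratic case.** -/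
theorem TwC.comm_quad {z z' z₁ z₂ : Fin m → ℤ} {r s₀ s₁ u₀ u₁ v : ℕ} (hz : cl D J O z = [r])
    (hz' : cl D J O z' = [s₀, s₁]) (hz₁ : cl D J O z₁ = [u₀, u₁]) (hz₂ : cl D J O z₂ = [v])
    (hok : okQ D.nroots dg δ r s₀ s₁ u₀ u₁ v = true) {a : K} (ha : φ a = a) (b : K) :
    ⁅Y hp J φ δ O z a, Y hp J φ δ O z' b⁆ = Y hp J φ δ O z₁ (((NN dg δ r s₀ : ℤ) : K) * (a * b)) *
      Y hp J φ δ O z₂ (((NN dg δ r s₀ * NN dg δ s₀ u₁ : ℤ) : K) * (a * (b * φ b))) := by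
  unfold okQ at hok
  simp only [Bool.and_eq_true, decide_eq_true_eq] at hok
  obtain ⟨⟨⟨⟨h1, h2⟩, h3⟩, h4⟩, h5⟩ := hok
  unfold Y
  rw [hz, hz', hz₁, hz₂]
  show ⁅xs hp δ r a * 1, xs hp δ s₀ b * (xs hp δ s₁ (φ b) * 1)⁆ =
    (xs hp δ u₀ _ * (xs hp δ u₁ (φ _) * 1)) * (xs hp δ v _ * 1)
  rw [mul_one, mul_one, mul_one, mul_one]
  have hδ := T.CD.dsq
  have H := T.CD.dgOK
  have e1 : ⁅xs hp δ r a, xs hp δ s₀ b * xs hp δ s₁ (φ b)⁆ = ⁅xs hp δ r a, xs hp δ s₀ b⁆ *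
      (⁅xs hp δ s₀ b, ⁅xs hp δ r a, xs hp δ s₁ (φ b)⁆⁆ * ⁅xs hp δ r a, xs hp δ s₁ (φ b)⁆) := by
    simp only [commutatorElement_def]; group
  have e2 : φ (((NN dg δ r s₀ : ℤ) : K) * (a * b)) = ((NN dg δ r s₁ : ℤ) : K) * (a * φ b) := by
    rw [map_mul, map_mul, map_intCast, ha, h5]
  rw [e1, comm_one H hδ h1, comm_one H hδ h2, comm_one H hδ h3, e2, (commute_of_comB H h4 _ _).eq, ← mul_assoc]
  congr 2
  rw [h5]
  push_cast
  ring

omit T in
theorem V_sum (H : DgOK D dg) (hp : IsType D l M') (J : Fin m → List (Fin l)) {r s : ℕ} (hr : r < D.nroots)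
    (hs : s < D.nroots) (h : 2 ≤ dg r s) :
    dk (dg r s) < D.nroots ∧ V D J (dk (dg r s)) = V D J r + V D J s := by
  obtain ⟨-, -, hct⟩ := H.two hr hs h
  have h1 : (dk (dg r s), dc (dg r s), 1, 1) ∈ D.commTerms r s := by rw [hct]; exact List.mem_cons_self
  obtain ⟨h2, -, -, -, -, h3⟩ := commTerms_rt hp.checked h1
  refine ⟨h2, ?_⟩
  have h4 := V_linear (D := D) (J := J) (u := dk (dg r s)) (r := r) (s := s) (a := 1) (b := 1) fun a => by
    rw [h3]; push_cast; ring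
  rw [h4, one_smul, one_smul]

omit T in
theorem V_opp (H : DgOK D dg) (hp : IsType D l M') (J : Fin m → List (Fin l)) {r s : ℕ} (hr : r < D.nroots)
    (hs : s < D.nroots) (h : dg r s = 1) : V D J s = -V D J r := by
  rw [H.one hr hs h, V_neg hp.checked hr]

theorem TwC.NN_sq {r s : ℕ} (hr : r < D.nroots) (hs : s < D.nroots) (h : 2 ≤ dg r s) :
    NN dg δ r s * NN dg δ r s = 1 := by
  have h1 := T.CD.dsq _ hr
  have h2 := T.CD.dsq _ hs
  have h3 := T.CD.dsq _ (V_sum T.CD.dgOK hp J hr hs h).1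
  have h4 : dc (dg r s) * dc (dg r s) = 1 := by
    unfold dc
    split_ifs <;> rfl
  unfold NN
  calc _ = (δ (dk (dg r s)) * δ (dk (dg r s))) * (dc (dg r s) * dc (dg r s)) * (δ r * δ r) * (δ s * δ s) := by ring
    _ = 1 := by rw [h1, h2, h3, h4]; rfl

/-! ### Elements of the twisted group -/

omit T in
open Classical in
/-- The root elements in the twisted group `G`. -/
noncomputable def x (hp : IsType D l M') (J : Fin m → List (Fin l)) (φ : K →+* K) (δ : ℕ → ℤ) (O : List (List ℕ))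
    (G : Subgroup (GL D.Idx K)) (z : Fin m → ℤ) (a : K) : ↥G :=
  if h : Y hp J φ δ O z a ∈ G then ⟨Y hp J φ δ O z a, h⟩ else 1

/-- `a` is a coordinate for the root `z`. -/
def Ok (D : ChevalleyDatum) (J : Fin m → List (Fin l)) (O : List (List ℕ)) (φ : K →+* K) (z : Fin m → ℤ) (a : K) :
    Prop := φ^[(cl D J O z).length] a = a

section

variable (cs h) [Finite K] (p : ℕ) [Fact p.Prime] [CharP K p]

include cs h p

theorem TwC.Y_mem {z : Fin m → ℤ} (hz : IsRoot cs h z) {a : K} (ha : Ok D J O φ z a) :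
    Y hp J φ δ O z a ∈ G :=
  R_le cs h T.FD T.FG p hz ((T.mem_R hz _).2 ⟨a, ha, rfl⟩)

theorem TwC.coe_x {z : Fin m → ℤ} (hz : IsRoot cs h z) {a : K} (ha : Ok D J O φ z a) :
    ((x hp J φ δ O G z a : ↥G) : GL D.Idx K) = Y hp J φ δ O z a := by
  unfold x
  rw [dif_pos (T.Y_mem cs h p hz ha)]

theorem TwC.mem_X {z : Fin m → ℤ} (hz : IsRoot cs h z) (g : ↥G) :
    g ∈ (R D hp K J σ z).subgroupOf G ↔ ∃ a, Ok D J O φ z a ∧ x hp J φ δ O G z a = g := by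
  rw [Subgroup.mem_subgroupOf, T.mem_R hz]
  constructor
  · rintro ⟨a, ha, e⟩
    exact ⟨a, ha, Subtype.ext ((T.coe_x cs h p hz ha).trans e.symm)⟩
  · rintro ⟨a, ha, rfl⟩
    exact ⟨a, ha, T.coe_x cs h p hz ha⟩

theorem TwC.x_inj {z : Fin m → ℤ} (hz : IsRoot cs h z) {a b : K} (ha : Ok D J O φ z a) (hb : Ok D J O φ z b)
    (hab : x hp J φ δ O G z a = x hp J φ δ O G z b) : a = b := by
  have h1 := congrArg Subtype.val hab
  rw [T.coe_x cs h p hz ha, T.coe_x cs h p hz hb] at h1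
  exact T.Y_inj hz h1

omit T cs h p [Finite K] [Fact p.Prime] [CharP K p] in
theorem Ok.add {z : Fin m → ℤ} {a b : K} (ha : Ok D J O φ z a) (hb : Ok D J O φ z b) :
    Ok D J O φ z (a + b) := by
  unfold Ok at *
  rw [iterate_map_add, ha, hb]

omit T cs h p [Finite K] [Fact p.Prime] [CharP K p] in
theorem Ok.mul {z : Fin m → ℤ} {a b : K} (ha : Ok D J O φ z a) (hb : Ok D J O φ z b) :
    Ok D J O φ z (a * b) := by
  unfold Ok at *
  rw [iterate_map_mul, ha, hb]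

theorem TwC.x_add {z : Fin m → ℤ} (hz : IsRoot cs h z) {a b : K} (ha : Ok D J O φ z a) (hb : Ok D J O φ z b) :
    x hp J φ δ O G z (a + b) = x hp J φ δ O G z a * x hp J φ δ O G z b := by
  apply Subtype.ext
  rw [Subgroup.coe_mul, T.coe_x cs h p hz ha, T.coe_x cs h p hz hb, T.coe_x cs h p hz (ha.add hb), T.Y_add hz]

/-- the action of the torus -/
theorem TwC.tor_x {t : ↥G} (ht : t ∈ (D.diagonalSubgroup K ⊓ G).subgroupOf G) {z : Fin m → ℤ}
    (hz : IsRoot cs h z) : ∃ χ : K, χ ≠ 0 ∧ Ok D J O φ z χ ∧ ∀ a, Ok D J O φ z a →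
      t * x hp J φ δ O G z a * t⁻¹ = x hp J φ δ O G z (χ * a) := by
  obtain ⟨ho, -, -⟩ := T.root hz
  obtain ⟨o', e⟩ := T.head hz
  have hlt : (cl D J O z).headD 0 < D.nroots := T.CD.lt _ ho _ (by
    have : (cl D J O z).headD 0 ∈ (cl D J O z).headD 0 :: o' := List.mem_cons_self
    rwa [← e] at this)
  rw [Subgroup.mem_subgroupOf] at ht
  obtain ⟨χ, -, h2⟩ := BNChev.diagonal_conj hp.inList (F := K) ht.1 hlt
  obtain ⟨h3, h4, h5⟩ := T.tor_Y ht.1 (T.FG.G_le ht.2) hz h2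
  refine ⟨χ, h3, h4, fun a ha => Subtype.ext ?_⟩
  rw [Subgroup.coe_mul, Subgroup.coe_mul, Subgroup.coe_inv, T.coe_x cs h p hz ha, h5 a ha,
    T.coe_x cs h p hz (Ok.mul h4 ha)]

/-- the action of the fundamental reflections -/
theorem TwC.conj_x (i : Fin m) {z : Fin m → ℤ} (hz : IsRoot cs h z) :
    ∃ η : K, Sg η ∧ ∀ a, Ok D J O φ z a →
      Ok D J O φ (rep cs h (cs.simple i) z) (η * φ^[ex D J A O i z] a) ∧
      (⟨nI hp K (J i), T.FG.nG i⟩ : ↥G) * x hp J φ δ O G z a * (⟨nI hp K (J i), T.FG.nG i⟩ : ↥G)⁻¹ =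
        x hp J φ δ O G (rep cs h (cs.simple i) z) (η * φ^[ex D J A O i z] a) := by
  obtain ⟨η, h1, h2⟩ := T.conj_Y (cs := cs) (h := h) i hz
  refine ⟨η, h1, fun a ha => ?_⟩
  have hlen : (cl D J O (rep cs h (cs.simple i) z)).length = (cl D J O z).length := by
    obtain ⟨ho, hV, -⟩ := T.root hz
    have h3 := (T.CD.perm _ ho i).length_eq
    rw [hV, List.length_map] at h3
    rw [rep_refl, ← h3]
  have h4 : Ok D J O φ (rep cs h (cs.simple i) z) (η * φ^[ex D J A O i z] a) := by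
    unfold Ok at ha ⊢
    rw [hlen, iterate_map_mul, ← Function.iterate_add_apply, add_comm, Function.iterate_add_apply, ha]
    congr 1
    have h5 : ∀ k : ℕ, φ^[k] η = η := by
      intro k
      induction k with
      | zero => rfl
      | succ k ih => rw [Function.iterate_succ_apply, h1.fix, ih]
    exact h5 _
  refine ⟨h4, Subtype.ext ?_⟩
  rw [Subgroup.coe_mul, Subgroup.coe_mul, Subgroup.coe_inv, T.coe_x cs h p hz ha,
    T.coe_x cs h p (hz.act (cs.simple i)) h4]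
  exact h2 a ha

end

/-! ### Elements of the torus -/

omit T in
/-- `∏ h_{j_k}(φ^k d)` -/
noncomputable def hI (hp : IsType D l M') (φ : K →+* K) : List (Fin l) → K → GL D.Idx K
  | [], _ => 1
  | j :: o, d => hG hp.inList (D.simple j) d * hI hp φ o (φ d)

omit T in
/-- its scalar on `x_s` -/
def wt (D : ChevalleyDatum) {l : ℕ} (φ : K →+* K) : List (Fin l) → ℕ → K → K
  | [], _, _ => 1
  | j :: o, s, d => d ^ D.cartan j s * wt D φ o s (φ d)

omit T in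
theorem hI_conj (o : List (Fin l)) {s : ℕ} (hs : s < D.nroots) {d : K} (hd : d ≠ 0) (u : K) :
    hI hp φ o d * xG hp.inList s u * (hI hp φ o d)⁻¹ = xG hp.inList s (wt D φ o s d * u) := by
  induction o generalizing d u with
  | nil =>
    show 1 * xG hp.inList s u * 1⁻¹ = xG hp.inList s (1 * u)
    rw [one_mul, inv_one, mul_one, one_mul]
  | cons j o ih =>
    show hG hp.inList (D.simple j) d * hI hp φ o (φ d) * xG hp.inList s u *
      (hG hp.inList (D.simple j) d * hI hp φ o (φ d))⁻¹ = xG hp.inList s (d ^ D.cartan j s * wt D φ o s (φ d) * u)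
    have e : hG hp.inList (D.simple j) d * hI hp φ o (φ d) * xG hp.inList s u *
        (hG hp.inList (D.simple j) d * hI hp φ o (φ d))⁻¹ =
        hG hp.inList (D.simple j) d * (hI hp φ o (φ d) * xG hp.inList s u * (hI hp φ o (φ d))⁻¹) *
          (hG hp.inList (D.simple j) d)⁻¹ := by group
    rw [e, ih ((map_ne_zero φ).2 hd), mul_inv_eq_iff_eq_mul]
    have h1 := Cfsg.Agent.S1032.result D hp.inList j s (lt_rank hp j) hs d hd (wt D φ o s (φ d) * u)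
    apply Units.ext
    rw [Units.val_mul, Units.val_mul, coe_hG, coe_xG, coe_xG, h1, mul_assoc]

omit T in
theorem hv_eq_hI {o : List ℕ} {o' : List (Fin l)} (ho : o'.map (fun j : Fin l => D.simple (j : ℕ)) = o)
    (hlt : ∀ s ∈ o, s < D.nroots) (d : K) : hv (psi hp.inList K) φ o (hS d) = hI hp φ o' d := by
  induction o' generalizing o d with
  | nil =>
    rw [List.map_nil] at ho
    subst ho
    rfl
  | cons j o' ih =>
    rw [List.map_cons] at ho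
    subst ho
    show psi hp.inList K (D.simple j) (hS d) *
      hv (psi hp.inList K) φ _ (Matrix.SpecialLinearGroup.map φ (hS d)) = _
    rw [map_hS, psi_hS hp.inList (hlt _ List.mem_cons_self), ih rfl fun s hs => hlt s (List.mem_cons_of_mem _ hs)]
    rfl

/-- The torus elements of the node `i`. -/
theorem TwC.hI_mem {i : Fin m} {r : ℕ} {o : List ℕ} (N : NodeOK D J L ρ i r o) (hf : ∀ s ∈ r :: o, ∀ t, f s t = φ t)
    {d : K} (hd : d ≠ 0) (hdφ : φ^[o.length + 1] d = d) :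
    hI hp φ (J i) d ∈ D.diagonalSubgroup K ∧ hI hp φ (J i) d ∈ G := by
  have h1 := Phi_hS T.FG N hf (d := (⟨d, mem_Fx.2 hdφ⟩ : Fx φ (o.length + 1)))
    (fun h0 => hd (congrArg Subtype.val h0))
  rw [Subgroup.mem_subgroupOf] at h1
  have h2 : ((Phi T.FG N hf (hS (⟨d, mem_Fx.2 hdφ⟩ : Fx φ (o.length + 1))) : ↥G) : GL D.Idx K) =
      hI hp φ (J i) d := by
    show Ph hp K N φ (Matrix.SpecialLinearGroup.map _ (hS _)) = _
    rw [map_hS]
    exact hv_eq_hI N.Jn N.lt _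
  rw [h2] at h1
  exact h1

/-- The action of the torus elements of the node `i` on the root element of `z`. -/
theorem TwC.hI_Y {i : Fin m} {r : ℕ} {o : List ℕ} (N : NodeOK D J L ρ i r o) (hf : ∀ s ∈ r :: o, ∀ t, f s t = φ t)
    {d : K} (hd : d ≠ 0) (hdφ : φ^[o.length + 1] d = d) {z : Fin m → ℤ} (hz : IsRoot cs h z) {a : K}
    (ha : Ok D J O φ z a) :
    Ok D J O φ z (wt D φ (J i) ((cl D J O z).headD 0) d) ∧
    hI hp φ (J i) d * Y hp J φ δ O z a * (hI hp φ (J i) d)⁻¹ =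
      Y hp J φ δ O z (wt D φ (J i) ((cl D J O z).headD 0) d * a) := by
  obtain ⟨ho, -, -⟩ := T.root hz
  obtain ⟨o', e⟩ := T.head hz
  have hlt : (cl D J O z).headD 0 < D.nroots := T.CD.lt _ ho _ (by
    have : (cl D J O z).headD 0 ∈ (cl D J O z).headD 0 :: o' := List.mem_cons_self
    rwa [← e] at this)
  obtain ⟨h1, h2⟩ := T.hI_mem N hf hd hdφ
  obtain ⟨h3, h4, h5⟩ := T.tor_Y h1 (T.FG.G_le h2) hz (hI_conj (J i) hlt hd)
  exact ⟨h4, h5 a ha⟩

end Group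

end Cfsg.Agent.Nodes.RGDTwCoord

private theorem dce_a1a4e994b1c4 : _root_.True := by
  try have : _root_.True := by simp only [_root_.Cfsg.Agent.Nodes.RGDTwCoord.hI.congr_simp]
  try have : _root_.True := by simp only [_root_.Cfsg.Agent.Nodes.RGDTwCoord.xs.eq_1]
  try have : _root_.True := by simp only [_root_.Cfsg.Agent.Nodes.RGDTwCoord.xs.congr_simp]
  exact _root_.True.intro
end

-- part: Nodes/RGDTwTab
section
set_option linter.all false

/-!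
Tables of the commutators of `D₄` and `E₆` (`RGDTwCoord.DgOK`).
-/

set_option autoImplicit false
set_option maxHeartbeats 4000000
set_option Elab.async false

namespace Cfsg.Agent.Nodes.RGDTwTab

open Cfsg.Lie Cfsg.Agent.Nodes.RGDTwCoord

/-- The codes, `8` bits for every pair. -/
def tabE6 : ℕ := 0x8f8c8b88878483817e7d0000000000706f6c6a69666562615e010000000000000000000000000000000000000000000000000091000000000000000000000000008d8a8900878483000000000000007b78770000706f6c0000005c5b58545350013400000000000000000000000000000000000000000000000090000000000000008f000000008b880000008700807f00000000007b780000750070006b68005c5b0000564f4c014233000000000000000000000000000000000000000000000091000000000000008e00008d008900000000008580007d000000007b0076007500006e6b00665c00590056004a014641300000000000000000000000000000000000000000000090000000000000008f00008c008b000000000000837e7d0000000000797600750000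006c6966005a59005600000148453e2f000000000000000000000000000000000000000000910000000000008f8d00000000000000858200817e0000000000007b7800000000007370000065620055524f4c0100003c3a2c0000000000000000000000000000000000000000900000000000008e008b00000000870083000081007c00000000007b00760000000073006e006500605500504a0146003c00392b00000000000000000000000000000000000000910000000000008f0000890000008600850000007f7c0000000000007976000000007300006c006360005350000148453c000036280000000000000000000000000000000000009100000000000000008c8a000087850000007f007d000000000000007b0000740000730000006a6500005e4e4a01004240003b39002600000000000000000000000000000000009000000000000000008d008800860083000081007d0000000000000000790074000073000000006863005e004c014842003f3b0036002500000000000000000000000000000000910000000000000000008b890000848200817f00000000000000000000007774000073000000000066615e0000014644413f003836000022000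0000000000000000000000000000000008f008d8b008785810000000000000000000079007700007500000073000000000000000000005c544e4a01000034003230002c2a260000000000000000000000000000000000008e008c00898600837f0000000000000000007b00770000750000007300000000000000000000005a524c014800340032002f2c00292500000000000000000000000000000000008f00008a88008482007d000000000000007b790000000075000000730000000000000000000000005850014644340000312f002b29002200000000000000000000000000000000008d8b89000000807e7c00000000007b79770000000000000000007300000000000000000000000000560142403e33312f000000262422000000000000000000000000000000000000878583817f7d000000007b7977750000000000000000000000000000000000000000000000000000013c3a38362c2a282624220000000000000000000000000000009000008e8c860000000000000000000000000000000000000000006f6c006b680000656200005d5a0055524f4c01000000000000000000002100001f1d170000000000000000009100008f008a84000000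00000000000000000000000000000071006d00006b006600650060005d00585500504a01460000000000000000002100001f001a1400000000000000009000008e00008882000000000000000000000000000000000070006f00000069660000636000005b580053500001484500000000000000002100001f000019130000000000000090000000008d8b0080000000000000000000000000000000716f0000006900670000006500005e5d0000564e4a010042400000000000000021000000001c1a001100000000000091000000008c0089007e000000000000000000000000000070006d00006b00670000000063005e005b0056004c014842003f00000000000021000000001c0019000e00000000009000000000008a8800007c00000000000000000000000000006e6c006b6900000000000000615e000059560000014644413f0000000000002100000000001b1900000d000000009100000000000000878581000000000000000000000000716f6b00000000000063006100005f00000000544e4a0100003c003a38000000000000001e001c1a000000000a00000090000000000000008600837f000000000000000000000070006d690000000000650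06100005f0000000000524c0148003c003a00370000000000001e001c0019000000000900009100000000000000008482007d00000000000000000000006e6c00670000006563000000005f000000000000500146443c000039370000000000001e00001b190000000000060090000000000000000000807e7c0000000000000000000000006a686600656361000000000000000000000000000142403e3b393700000000000000001d1b190000000000000005000000000000008e008c8a000000007a00000000000000716f6b000000000000000000005b0059000057544e4a0100000000000034003230000000002100000000000000171511000000000000008f008d0088000000007800000000000070006d690000000000000000005d005900005700524c01480000000000340032002f00000021000000000000001700120e0000000000008e00008b890000000000760000000000006e6c0067000000000000005d5b000000005700005001464400000000340000312f0000002100000000000000001412000d0000000000008c8a8800000000000000740000000000006a686600000000005d5b590000000000000000000142403e0000000033312f00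00000021000000000000000000110f0d0000000000008e0000000087850000007a0000000000716f000000640000005c0000000000005300514e4a010000003d00000035000000002c2a000000001f0000000016140000000b000000008f00000000860083000000780000000070006d000000620000005a0000000000550051004c014800003d00000035000000002c00290000001f00000000160013000000080000008e000000000084820000000076000000006e6c000000006000000058000000555300000000014644003d0000003500000000002b290000001f00000000001513000000000700000000008d00008700008000007a000000007100006a0000640000005c000000540000004d4a010000430000003b0000003300002d000026000000001d00001700001000000a00000000008c0000860000007e00007800000070000000680000620000005a0000005200004f00014800430000003b0000003300002d000000250000001d0000170000000f0000090000000000008a000084008000007a00000000006e006a0000640000005c0000005400004e00010047000041000000390000003100002b002700000000001b000015001100000b00000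000000088000082007e00007800000000006c00680000620000005a0000005200004c0001004500003f000000370000002f0000290025000000000019000013000f0000090000000000008a0000840000007c0000760000006e000000660000600000005800000050004b010044000041000000390000003100002b000000230000001b0000150000000d00000700000000008900008300007c000076000000006d000066000060000000580000005000000149460000003f000000370000002f000029000022000000001900001300000c00000600000000008c00000000807e0000000000740000006a6800000000005e00000056004f4d0100000000403e0000003b00000033000000002725000000001d00000000110f0000000000050000008b00000080007d00000000740000006a0067000000005e0000005600004b01470042003e00000000003900000031000000260023000000001b00000010000d000000000400000000880000007f7d0000000074000000006967000000005e00000056000000014945420040000000000000370000002f00000024220000000000190000000e0c0000000005000000000000868482000000000000000000720000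000064626000000000555351010000000000000000003a383600000000002d2b290000000000001f000000000000000b09070000000000008600817f000000000000000072000000646200005f000000004f4d014300003c000000003836000000000000002c0027250000000000001d00000000000a080000050000000000008581007c0000000000000072000000640061005f00000000004b014741003c00003a00360000000000000000002a2600230000000000001b000000000b0006000400000000000000827e7c0000000000000072000000006361005f0000000000000149453f3c00003a00380000000000000000000028242200000000000000190000000009070005000000000000008e000000000000007a787600000000000000005c5a58555351010000000000000000000000000032302e002d2b2900000000000000000000000017151300000000000000000003008d00000000007a780000750000000000005c5a0000574f4d01430000000000003400000000302e0000002c00272500000000000000000000001600110f00000000000000000200008a000000007a007700750000000000005c00590057004b01474100000000003400003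2002e00000000002a26002300000000000000000000001410000d0000000000000003000000890000000079770075000000000000005b59005700000149453f00000000340000320030000000000000282422000000000000000000000000120e0c0000000000000002000000008600007a7800000000007200000000000054524f4d0100003d3a00003532000000000000002a2800272500000000000000000000000000001700000b09000000000003000000000085007a007700000000720000000000005400514b0147003d003800350030000000002c00280000260023000000000000000000000000000015000a00070000000002000000000000820079770000000072000000000000005351000149453d0000363500002e0000002c002a000000242200000000000000000000000000000013000806000000000300000000000000807a00007400007200000000000000004e4b01004340003b380000333000002d2a0000002400230000000000000000000000000000000000110b00000500000300000000000000007f7900740000720000000000000000004d014943003e3b00360033002e002d002800002600220000000000000000000000000000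000000000f0900040000020000000000000000007c767400007200000000000000000000014744413e0039360000312e00002b280027240000000000000000000000000000000000000000000d0705000003000000000000000000000000000000716f6d6b69675d5b59570100000000000000000000000000000000000000000000000000001e1c1a1800000000161412100e0c000000000000000000000000000000000000716f6d000000646260555351013d00000000000000000000000000200000000000000000001c1a1800000000001715130000000a0806000000000000000000000000000000000071006a6800646200005f4f4d01433b000000000000000000000000200000001e000000001a18000000000000001600110f000b0900000400000000000000000000000000000000006e6a0067640061005f004b014741390000000000000000000000200000001e00001c00180000000000000000001410000d0a000700050000000000000000000000000000000000006d6967006361005f00000149453f3700000000000000000000200000001e00001c001a00000000000000000000120e0c00080600040000000000000000000000000000000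000007100005d5b0054524f4d01000035322d00000000002000001f1c0000000000000000000000141200110f00000a0800000000000000000002000000000000000000000000000000006e005d00585400514b0147003500302b000000002000001f001a0000000000000000160012000010000d000b000600000000000000000300000000000000000000000000000000006d005a58005351000149453500002e290000002000001f000018000000000000001600140000000e0c000009070000000000000000020000000000000000000000000000000000006b5d0000574e4b010043400033300027000020000000001d1a00000000000017140000000e000d0000000a0000040000000000000200000000000000000000000000000000000000685a0057004d014943003e33002e00250020000000001d00180000000000170012000010000c000000000800050000000000000300000000000000000000000000000000000000006759570000014744413e00312e0000232000000000001b18000000000000151200110e0000000000000006040000000000000200000000000000000000000000000000000000000064554e4b0100003d003a39002d2a27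0000001e001d1a000000000016151000000000000008000700000400000000000000030000000000000000000000000000000000000000000063524d0149003d003a00372d00282500001e001d0018000000001600130e00000000000a00060000050000000000000002000000000000000000000000000000000000000000000060510147443d00003837002b280023001e00001b1800000000001413000c0000000b08000000000400000000000000030000000000000000000000000000000000000000000000005f0143403f3b383700000027242300001c1b1800000000000000100f0c000a0906000000000000000000000000000200000000000000000000000000000000000000000000000000013532312e2d2a292724230000000000161512100f0c0b08070400000000000000000000000000000000000000000000000000000000000000000000000000000000000000000000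

/-- The codes, `8` bits for every pair. -/
def tabD4 : ℕ := 0x2f2c2a29002423211e010000000000000000003100002d2b0000002724001c1a011400000000000000003000002f002900002700221c00011813000000000000003000002f00290000270000201a01001611000000000000310000002d2b0000270000001e011816000e0000000000002f2d2b290000000000000000011412100e0000000000302e0000000000002321001c1a01000000000d0b00000031002c000000000025001f1c0001180000000d000800003100002a0000000025001f001a01001600000d000006003000000028000000002321000001181600000d000000050000002e2c000000242200000001000015130000000b090000002e002a0000240020000001000015001100000b000700002c0028000022001e000001000013000f00000900050000002a28000000201e000001000000110f00000007050000002e0000002600001d1b0100001210000000000b00000003002d00002600001d0001190014000e000000000900000200002b00260000001b01001714000e0000000000070002000000282600000000011917001210000000000000050300000000002523211f0100000000000000000a08060400000000000025001d1b01150000000c0000080600000002000000000000221d0001191300000c00000a000400000300000000000000201b01001711000c00000a000400000300000000000000001f011917000f0c0000000806000002000000000000000000011512100f000a0907040000000000000000000000000000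

/-- The commutators of `E₆`. -/
def dgE6 (r s : ℕ) : ℕ := tabE6 / 256 ^ (72 * r + s) % 256

/-- The commutators of `D₄`. -/
def dgD4 (r s : ℕ) : ℕ := tabD4 / 256 ^ (24 * r + s) % 256

theorem dgOK_D4 : DgOK chevD4 dgD4 := by
  unfold DgOK
  decide +kernel

theorem dgOK_E6 : DgOK chevE6 dgE6 := by
  unfold DgOK
  (delta Cfsg.Agent.Nodes.RGDTwCoord.dgB; rewrite [Cfsg.Agent.ChevFast.E6.commTerms, Cfsg.Agent.ChevFast.E6.neg]; open scoped Cfsg.Agent.ChevFast.Lin in decide +kernel)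

end Cfsg.Agent.Nodes.RGDTwTab
end

-- part: Nodes/RGDTwComE6
section
prune_inst 0x10004100340000000000001002000000200001000003040065a10100090020238000260010700211c10490a01000004000000109000000002000320040030020800342002334a804060001801800400000000000000000000000000000000000000000000
set_option linter.all false
open scoped Cfsg.Agent.FastGrp

-- part: Nodes/RGDTwCoordE6
section
/-!
Coordinates of all root groups of `²E₆(q)` and the commutator formulas.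

Relative roots `z : Fin 4 → ℤ` of `F₄` (nodes `0, 1` long, `2, 3` short, `RGDTwE6`). For a root `z`, `x φ q z a` is the
root element with coordinate `a : K`; `φ a = a` for `z` long, `a` arbitrary for `z` short.

* `comm_nil`, `comm_long`, `comm_short`, `comm_trace`, `comm_quad` : all commutators of nonopposite root elements;
* `conj_nn`, `hh_conj` : the actions of the fundamental reflections and of the torus.
-/

set_option autoImplicit false
set_option linter.unusedSectionVars false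
set_option maxHeartbeats 400000
set_option Elab.async false

namespace Cfsg.Agent.Nodes.RGDTwCoordE6

open CoxeterSystem Cfsg.Agent.ChevalleyStructure.CoxeterGeom Cfsg.Agent.Tits.Roots Cfsg.Agent.Tits.Core
  Cfsg.Agent.Nodes.BNOf Cfsg.Agent.Nodes.RGDTwGen Cfsg.Agent.Nodes.RGDChev Cfsg.Agent.Nodes.RGDFold
  Cfsg.Agent.Nodes.RGDFoldSL Cfsg.Agent.Nodes.RGDTwE6 Cfsg.Agent.Nodes.RGDTwCoord Cfsg.Agent.Nodes.RGDTwTab
open Cfsg.Lie Cfsg.Agent.ChevalleyStructure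
  Cfsg.Agent.ChevalleyStructure.TwistedU Cfsg.Agent.ChevalleyStructure.TwistedFix
open Cfsg.Agent.ChevalleyStructure.TwE6Basic (sg)
open scoped commutatorElement

universe u

/-! ### The tables -/

/-- The classes: relative roots of `F₄`; long roots have one element, short roots two. -/
def O : List (List ℕ) := [[0], [1], [2], [5, 3], [4, 16], [6], [17, 7], [8], [18], [19, 9], [11], [20], [10, 22],
  [26, 12], [23, 21], [27], [13, 30], [24], [31, 28], [14, 33], [25], [32], [34, 29], [35, 15], [56, 36], [42, 37],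
  [39], [46], [38, 57], [43, 40], [47], [41, 58], [44], [50, 48], [59, 45], [49, 61], [51], [60], [62, 52], [53], [63],
  [64, 54], [65], [55, 67], [68, 66], [69], [70], [71]]

/-- The signs. -/
def dl (r : ℕ) : ℤ := if r ∈ [7, 9, 12, 16, 22, 28, 33, 40, 45, 52, 54, 57, 61, 67] then -1 else 1

private noncomputable def _root_.Cfsg.Agent.KOe8dd13a.k0 : ((x0 : Prop) → ((@Decidable @x0) → @Bool)) := @(fun (x0 : Prop) (x1 : @Decidable @x0) => @Decidable.rec.{1} @x0 @(fun (x2 : @Decidable @x0) => @Bool) @(fun (x2 : @Not @x0) => @Bool.false) @(fun (x2 : x0) => @Bool.true) @x1)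
private theorem _root_.Cfsg.Agent.KOe8dd13a.e0 : @Decidable.decide = @_root_.Cfsg.Agent.KOe8dd13a.k0 := by delta _root_.Cfsg.Agent.KOe8dd13a.k0; rfl'
private noncomputable def _root_.Cfsg.Agent.KOe8dd13a.k1l (n : Nat) (P : ∀ k, k < n → Prop) (H : ∀ k h, Decidable (P k h)) (m : Nat) : m ≤ n → Bool := @Nat.rec (fun m => m ≤ n → Bool) (fun _ => true) (fun k ih h => @Decidable.rec (P k h) (fun _ => Bool) (fun _ => false) (fun _ => ih (Nat.le_of_succ_le h)) (H k h)) m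
private theorem _root_.Cfsg.Agent.KOe8dd13a.k1ls (n : Nat) (P : ∀ k, k < n → Prop) (H : ∀ k h, Decidable (P k h)) (m : Nat) : ∀ h : m ≤ n, _root_.Cfsg.Agent.KOe8dd13a.k1l n P H m h = true ↔ ∀ k (g : k < m), P k (Nat.lt_of_lt_of_le g h) := by induction m with | zero => exact fun _ => ⟨fun _ _ g => absurd g (Nat.not_lt_zero _), fun _ => rfl⟩ | succ m ih => intro h; show @Decidable.rec (P m h) (fun _ => Bool) (fun _ => false) (fun _ => _root_.Cfsg.Agent.KOe8dd13a.k1l n P H m (Nat.le_of_succ_le h)) (H m h) = true ↔ _; cases H m h with | isFalse q => exact ⟨fun g => absurd g Bool.false_ne_true, fun g => absurd (g m (Nat.lt_succ_self m)) q⟩ | isTrue q => exact ⟨fun g k hk => (Nat.lt_succ_iff_lt_or_eq.1 hk).elim ((ih _).1 g k) fun e => by subst e; exact q, fun g => (ih _).2 fun k hk => g k (Nat.lt_succ_of_lt hk)⟩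
private noncomputable def _root_.Cfsg.Agent.KOe8dd13a.k1 (n : Nat) (P : ∀ k, k < n → Prop) (H : ∀ k h, Decidable (P k h)) : Decidable (∀ k h, P k h) := @Bool.rec (fun b => _root_.Cfsg.Agent.KOe8dd13a.k1l n P H n (Nat.le_refl n) = b → Decidable (∀ k h, P k h)) (fun g => isFalse fun q => Bool.false_ne_true (g.symm.trans ((_root_.Cfsg.Agent.KOe8dd13a.k1ls n P H n _).2 fun k h => q k h))) (fun g => isTrue fun k h => (_root_.Cfsg.Agent.KOe8dd13a.k1ls n P H n _).1 g k h) (_root_.Cfsg.Agent.KOe8dd13a.k1l n P H n (Nat.le_refl n)) rfl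
private theorem _root_.Cfsg.Agent.KOe8dd13a.e1 : @Nat.decidableBallLT = @_root_.Cfsg.Agent.KOe8dd13a.k1 := funext fun _ => funext fun _ => funext fun _ => Subsingleton.elim _ _
private noncomputable def _root_.Cfsg.Agent.KOe8dd13a.k2 : ((x0 : @Bool) → ((x1 : @Bool) → @Decidable (@Eq.{1} @Bool @x0 @x1))) := @(fun (x0 : @Bool) (x1 : @Bool) => @Bool.rec.{1} @(fun (x2 : @Bool) => @Decidable (@Eq.{1} @Bool @x2 @x1)) (@Bool.rec.{1} @(fun (x2 : @Bool) => @Decidable (@Eq.{1} @Bool @Bool.false @x2)) (@Decidable.isTrue (@Eq.{1} @Bool @Bool.false @Bool.false) (@rfl.{1} @Bool @Bool.false)) (@Decidable.isFalse (@Eq.{1} @Bool @Bool.false @Bool.true) @(fun (x2 : @Eq.{1} @Bool @Bool.false @Bool.true) => @Bool.noConfusion.{0} @False @Bool.false @Bool.true @x2)) @x1) (@Bool.rec.{1} @(fun (x2 : @Bool) => @Decidable (@Eq.{1} @Bool @Bool.true @x2)) (@Decidable.isFalse (@Eq.{1} @Bool @Bool.true @Bool.false)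 @(fun (x2 : @Eq.{1} @Bool @Bool.true @Bool.false) => @Bool.noConfusion.{0} @False @Bool.true @Bool.false @x2)) (@Decidable.isTrue (@Eq.{1} @Bool @Bool.true @Bool.true) (@rfl.{1} @Bool @Bool.true)) @x1) @x0)
private theorem _root_.Cfsg.Agent.KOe8dd13a.e2 : @Bool.decEq = @_root_.Cfsg.Agent.KOe8dd13a.k2 := by delta _root_.Cfsg.Agent.KOe8dd13a.k2; rfl'
private theorem _root_.Cfsg.Agent.KOe8dd13a.e3.{ku, kv} {α : Type kv} {M : List α → Sort ku} (φ : ∀ l, M l) {z : M List.nil} {s : ∀ a l, M l → M (List.cons a l)} (h0 : φ List.nil = z) (hs : ∀ a l, φ (List.cons a l) = s a l (φ l)) (l : List α) : φ l = @List.rec α M z s l := List.rec h0 (fun a l ih => (hs a l).trans (congrArg (s a l) ih)) l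
private noncomputable def _root_.Cfsg.Agent.KOe8dd13a.k5.{ku0} : ((x0 : Sort (ku0+1)) → ((x1 : @BEq.{ku0} @x0) → ((@LawfulBEq.{ku0} @x0 @x1) → ((x3 : x0) → ((x4 : @List.{ku0} @x0) → @Decidable (@Membership.mem.{ku0, ku0} @x0 (@List.{ku0} @x0) (@List.instMembership.{ku0} @x0) @x4 @x3)))))) := @(fun (x0 : Sort (ku0+1)) (x1 : @BEq.{ku0} @x0) (x2 : @LawfulBEq.{ku0} @x0 @x1) (x3 : x0) (x4 : @List.{ku0} @x0) => @Decidable.rec.{1} (@Eq.{1} @Bool (@List.elem.{ku0} @x0 @x1 @x3 @x4) @Bool.true) @(fun (x5 : @Decidable (@Eq.{1} @Bool (@List.elem.{ku0} @x0 @x1 @x3 @x4) @Bool.true)) => @Decidable (@Membership.mem.{ku0, ku0} @x0 (@List.{ku0} @x0) (@List.instMembership.{ku0} @x0) @x4 @x3)) @(fun (x5 : @Not (@Eq.{1} @Bool (@List.elem.{ku0} @x0 @x1 @x3 @x4) @Bool.true)) => @Decidable.isFalse (@Membership.mem.{ku0, ku0} @x0 (@List.{ku0} @x0) (@List.instMembership.{ku0} @x0) @x4 @x3) (@decidable_of_decidable_of_iff._proof_1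 (@Eq.{1} @Bool (@List.elem.{ku0} @x0 @x1 @x3 @x4) @Bool.true) (@Membership.mem.{ku0, ku0} @x0 (@List.{ku0} @x0) (@List.instMembership.{ku0} @x0) @x4 @x3) (@List.instDecidableMemOfLawfulBEq._proof_1.{ku0} @x0 @x1 @x2 @x3 @x4) @x5)) @(fun (x5 : @Eq.{1} @Bool (@List.elem.{ku0} @x0 @x1 @x3 @x4) @Bool.true) => @Decidable.isTrue (@Membership.mem.{ku0, ku0} @x0 (@List.{ku0} @x0) (@List.instMembership.{ku0} @x0) @x4 @x3) (@Iff.mp (@Eq.{1} @Bool (@List.elem.{ku0} @x0 @x1 @x3 @x4) @Bool.true) (@Membership.mem.{ku0, ku0} @x0 (@List.{ku0} @x0) (@List.instMembership.{ku0} @x0) @x4 @x3) (@List.instDecidableMemOfLawfulBEq._proof_1.{ku0} @x0 @x1 @x2 @x3 @x4) @x5)) (@Cfsg.Agent.KOe8dd13a.k2 (@List.elem.{ku0} @x0 @x1 @x3 @x4) @Bool.true))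
private theorem _root_.Cfsg.Agent.KOe8dd13a.e5.{ku0} : @List.instDecidableMemOfLawfulBEq.{ku0} = @_root_.Cfsg.Agent.KOe8dd13a.k5.{ku0} := by delta _root_.Cfsg.Agent.KOe8dd13a.k5; rewrite [← Cfsg.Agent.KOe8dd13a.e2]; rfl'
private noncomputable def _root_.Cfsg.Agent.KOe8dd13a.k6 : ((x0 : @Nat) → ((x1 : @Nat) → @Decidable (@Eq.{1} @Nat @x0 @x1))) := @(fun (x0 : @Nat) (x1 : @Nat) => @Bool.rec.{1} @(fun (x2 : @Bool) => ((@Eq.{1} @Bool (@Nat.beq @x0 @x1) @x2) → @Decidable (@Eq.{1} @Nat @x0 @x1))) @(fun (x2 : @Eq.{1} @Bool (@Nat.beq @x0 @x1) @Bool.false) => @Decidable.isFalse (@Eq.{1} @Nat @x0 @x1) (@Nat.ne_of_beq_eq_false @x0 @x1 @x2)) @(fun (x2 : @Eq.{1} @Bool (@Nat.beq @x0 @x1) @Bool.true) => @Decidable.isTrue (@Eq.{1} @Nat @x0 @x1) (@Nat.eq_of_beq_eq_true @x0 @x1 @x2)) (@Nat.beq @x0 @x1) (@Eq.refl.{1} @Bool (@Nat.beq @x0 @x1)))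
private theorem _root_.Cfsg.Agent.KOe8dd13a.e6 : @Nat.decEq = @_root_.Cfsg.Agent.KOe8dd13a.k6 := by delta _root_.Cfsg.Agent.KOe8dd13a.k6; rfl'
private noncomputable def _root_.Cfsg.Agent.KOe8dd13a.k10.{ku0} : ((x0 : Sort (ku0+1)) → ((x1 : (x0 → Prop)) → ((@DecidablePred.{(ku0+1)} @x0 @x1) → ((x3 : @List.{ku0} @x0) → @Decidable ((x4 : x0) → ((@Membership.mem.{ku0, ku0} @x0 (@List.{ku0} @x0) (@List.instMembership.{ku0} @x0) @x3 @x4) → @x1 @x4)))))) := @(fun (x0 : Sort (ku0+1)) (x1 : (x0 → Prop)) (x2 : @DecidablePred.{(ku0+1)} @x0 @x1) (x3 : @List.{ku0} @x0) => @List.rec.{1, ku0} @x0 @(fun (x4 : @List.{ku0} @x0) => @Decidable ((x5 : x0) → ((@Membership.mem.{ku0, ku0} @x0 (@List.{ku0} @x0) (@List.instMembership.{ku0} @x0) @x4 @x5) → @x1 @x5))) (@Decidable.isTrue ((x4 : x0) → ((@Membership.mem.{ku0, ku0} @x0 (@List.{ku0} @x0) (@List.instMembership.{ku0} @x0) (@List.nil.{ku0} @x0) @x4) → @x1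 @x4)) (@List.decidableBAll._proof_1.{ku0} @x0 @x1)) @(fun (x4 : x0) (x5 : @List.{ku0} @x0) (x6 : @Decidable ((x6 : x0) → ((@Membership.mem.{ku0, ku0} @x0 (@List.{ku0} @x0) (@List.instMembership.{ku0} @x0) @x5 @x6) → @x1 @x6))) => @Decidable.rec.{1} (@x1 @x4) @(fun (x7 : @Decidable (@x1 @x4)) => @Decidable ((x8 : x0) → ((@Membership.mem.{ku0, ku0} @x0 (@List.{ku0} @x0) (@List.instMembership.{ku0} @x0) (@List.cons.{ku0} @x0 @x4 @x5) @x8) → @x1 @x8))) @(fun (x7 : @Not (@x1 @x4)) => @Decidable.isFalse ((x8 : x0) → ((@Membership.mem.{ku0, ku0} @x0 (@List.{ku0} @x0) (@List.instMembership.{ku0} @x0) (@List.cons.{ku0} @x0 @x4 @x5) @x8) → @x1 @x8)) (@List.decidableBAll._proof_4.{ku0} @x0 @x1 @x4 @x5 @x7)) @(fun (x7 : @x1 @x4) => @Decidable.rec.{1} ((x8 : x0) → ((@Membership.mem.{ku0, ku0} @x0 (@List.{ku0} @x0) (@List.instMembership.{ku0} @x0) @x5 @x8) → @x1 @x8)) @(fun (x8 : @Decidable ((x8 : x0)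 → ((@Membership.mem.{ku0, ku0} @x0 (@List.{ku0} @x0) (@List.instMembership.{ku0} @x0) @x5 @x8) → @x1 @x8))) => @Decidable ((x9 : x0) → ((@Membership.mem.{ku0, ku0} @x0 (@List.{ku0} @x0) (@List.instMembership.{ku0} @x0) (@List.cons.{ku0} @x0 @x4 @x5) @x9) → @x1 @x9))) @(fun (x8 : @Not ((x8 : x0) → ((@Membership.mem.{ku0, ku0} @x0 (@List.{ku0} @x0) (@List.instMembership.{ku0} @x0) @x5 @x8) → @x1 @x8))) => @Decidable.isFalse ((x9 : x0) → ((@Membership.mem.{ku0, ku0} @x0 (@List.{ku0} @x0) (@List.instMembership.{ku0} @x0) (@List.cons.{ku0} @x0 @x4 @x5) @x9) → @x1 @x9)) (@List.decidableBAll._proof_3.{ku0} @x0 @x1 @x4 @x5 @x8)) @(fun (x8 : ((x8 : x0) → ((@Membership.mem.{ku0, ku0} @x0 (@List.{ku0} @x0) (@List.instMembership.{ku0} @x0) @x5 @x8) → @x1 @x8))) => @Decidable.isTrue ((x9 : x0) → ((@Membership.mem.{ku0, ku0} @x0 (@List.{ku0} @x0) (@List.instMembership.{ku0} @x0) (@List.cons.{ku0} @x0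 @x4 @x5) @x9) → @x1 @x9)) (@List.decidableBAll._proof_2.{ku0} @x0 @x1 @x4 @x5 @x7 @x8)) @x6) (@x2 @x4)) @x3)
private theorem _root_.Cfsg.Agent.KOe8dd13a.e10.{ku0} : @List.decidableBAll.{ku0} = @_root_.Cfsg.Agent.KOe8dd13a.k10.{ku0} := by delta _root_.Cfsg.Agent.KOe8dd13a.k10; funext a0 a1 a2 a3; refine (_root_.Cfsg.Agent.KOe8dd13a.e3 (fun a3 => @List.decidableBAll.{ku0} a0 a1 a2 a3) ?_ (fun c0 c1 => ?_) a3 :) <;> (rfl')
private noncomputable def _root_.Cfsg.Agent.KOe8dd13a.k11 : ((x0 : Prop) → ((x1 : Prop) → ((@Decidable @x0) → ((@Decidable @x1) → @Decidable (@Iff @x0 @x1))))) := @(fun (x0 : Prop) (x1 : Prop) (x2 : @Decidable @x0) (x3 : @Decidable @x1) => @Decidable.rec.{1} @x0 @(fun (x4 : @Decidable @x0) => @Decidable (@Iff @x0 @x1)) @(fun (x4 : @Not @x0) => @Decidable.rec.{1} @x1 @(fun (x5 : @Decidable @x1) => @Decidable (@Iff @x0 @x1)) @(fun (x5 : @Not @x1) => @Decidable.isTrue (@Iff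 @x0 @x1) (@instDecidableIff._proof_4 @x0 @x1 @x4 @x5)) @(fun (x5 : x1) => @Decidable.isFalse (@Iff @x0 @x1) (@instDecidableIff._proof_3 @x0 @x1 @x4 @x5)) @x3) @(fun (x4 : x0) => @Decidable.rec.{1} @x1 @(fun (x5 : @Decidable @x1) => @Decidable (@Iff @x0 @x1)) @(fun (x5 : @Not @x1) => @Decidable.isFalse (@Iff @x0 @x1) (@instDecidableIff._proof_2 @x0 @x1 @x4 @x5)) @(fun (x5 : x1) => @Decidable.isTrue (@Iff @x0 @x1) (@instDecidableIff._proof_1 @x0 @x1 @x4 @x5)) @x3) @x2)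
private theorem _root_.Cfsg.Agent.KOe8dd13a.e11 : @instDecidableIff = @_root_.Cfsg.Agent.KOe8dd13a.k11 := by delta _root_.Cfsg.Agent.KOe8dd13a.k11; rfl'
private noncomputable def _root_.Cfsg.Agent.KOe8dd13a.k12.{ku0, ku1} : ((x0 : Sort ku0) → ((x1 : (x0 → (x0 → Prop))) → ((x2 : ((@Quot.{ku0} @x0 @x1) → Sort ku1)) → ((x3 : ((x3 : x0) → @x2 (@Quot.mk.{ku0} @x0 @x1 @x3))) → (((x4 : x0) → ((x5 : x0) → ((x6 : @x1 @x4 @x5) → @Eq.{ku1} (@x2 (@Quot.mk.{ku0} @x0 @x1 @x5)) (@Eq.ndrec.{ku1, ku0} (@Quot.{ku0} @x0 @x1) (@Quot.mk.{ku0} @x0 @x1 @x4) @x2 (@x3 @x4) (@Quot.mk.{ku0} @x0 @x1 @x5) (@Quot.sound.{ku0} @x0 @x1 @x4 @x5 @x6)) (@x3 @x5)))) → ((x5 : @Quot.{ku0} @x0 @x1) → @x2 @x5)))))) := @(fun (x0 : Sort ku0) (x1 : (x0 → (x0 → Prop))) (x2 : ((@Quot.{ku0} @x0 @x1) → Sort ku1)) (x3 : ((x3 : x0) → @x2 (@Quot.mk.{ku0} @x0 @x1 @x3))) (x4 : ((x4 : x0) → ((x5 : x0) → ((x6 : @x1 @x4 @x5) → @Eq.{ku1} (@x2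 (@Quot.mk.{ku0} @x0 @x1 @x5)) (@Eq.ndrec.{ku1, ku0} (@Quot.{ku0} @x0 @x1) (@Quot.mk.{ku0} @x0 @x1 @x4) @x2 (@x3 @x4) (@Quot.mk.{ku0} @x0 @x1 @x5) (@Quot.sound.{ku0} @x0 @x1 @x4 @x5 @x6)) (@x3 @x5))))) (x5 : @Quot.{ku0} @x0 @x1) => @Eq.rec.{ku1, ku0} (@Quot.{ku0} @x0 @x1) (@PSigma.fst.{ku0, ku1} (@Quot.{ku0} @x0 @x1) @x2 (@Quot.lift.{ku0, (max (max 1 ku1) ku0)} @x0 @x1 (@PSigma.{ku0, ku1} (@Quot.{ku0} @x0 @x1) @x2) (@Quot.indep.{ku0, ku1} @x0 @x1 @x2 @x3) (@Quot.indepCoherent.{ku0, ku1} @x0 @x1 @x2 @x3 @x4) @x5)) @(fun (x6 : @Quot.{ku0} @x0 @x1) (x7 : @Eq.{ku0} (@Quot.{ku0} @x0 @x1) (@PSigma.fst.{ku0, ku1} (@Quot.{ku0} @x0 @x1) @x2 (@Quot.lift.{ku0, (max (max 1 ku1) ku0)} @x0 @x1 (@PSigma.{ku0, ku1} (@Quot.{ku0} @x0 @x1) @x2) (@Quot.indep.{ku0, ku1} @x0 @x1 @x2 @x3) (@Quot.indepCoherent.{ku0, ku1} @x0 @x1 @x2 @x3 @x4) @x5)) @x6) => @x2 @x6) (@PSigma.snd.{ku0, ku1} (@Quot.{ku0} @x0 @x1) @x2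 (@Quot.lift.{ku0, (max (max 1 ku1) ku0)} @x0 @x1 (@PSigma.{ku0, ku1} (@Quot.{ku0} @x0 @x1) @x2) (@Quot.indep.{ku0, ku1} @x0 @x1 @x2 @x3) (@Quot.indepCoherent.{ku0, ku1} @x0 @x1 @x2 @x3 @x4) @x5)) @x5 (@Quot.liftIndepPr1.{ku0, ku1} @x0 @x1 @x2 @x3 @x4 @x5))
private theorem _root_.Cfsg.Agent.KOe8dd13a.e12.{ku0, ku1} : @Quot.rec.{ku0, ku1} = @_root_.Cfsg.Agent.KOe8dd13a.k12.{ku0, ku1} := by delta _root_.Cfsg.Agent.KOe8dd13a.k12; rfl'
private noncomputable def _root_.Cfsg.Agent.KOe8dd13a.k13.{ku0, ku1} : ((x0 : Sort ku0) → ((x1 : (x0 → (x0 → Prop))) → ((x2 : ((@Quot.{ku0} @x0 @x1) → Sort ku1)) → (((x3 : x0) → @Subsingleton.{ku1} (@x2 (@Quot.mk.{ku0} @x0 @x1 @x3))) → ((x4 : @Quot.{ku0} @x0 @x1) → (((x5 : x0) → @x2 (@Quot.mk.{ku0} @x0 @x1 @x5)) → @x2 @x4)))))) := @(fun (x0 : Sort ku0) (x1 : (x0 → (x0 → Prop))) (x2 : ((@Quot.{ku0} @x0 @x1) → Sort ku1)) (x3 : ((x3 : x0) → @Subsingleton.{ku1} (@x2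 (@Quot.mk.{ku0} @x0 @x1 @x3)))) (x4 : @Quot.{ku0} @x0 @x1) (x5 : ((x5 : x0) → @x2 (@Quot.mk.{ku0} @x0 @x1 @x5))) => @Cfsg.Agent.KOe8dd13a.k12.{ku0, ku1} @x0 @x1 @(fun (x6 : @Quot.{ku0} @x0 @x1) => @x2 @x6) @(fun (x6 : x0) => @x5 @x6) (@Quot.recOnSubsingleton._proof_1.{ku1, ku0} @x0 @x1 @x2 @x3 @x5) @x4)
private theorem _root_.Cfsg.Agent.KOe8dd13a.e13.{ku0, ku1} : @Quot.recOnSubsingleton.{ku0, ku1} = @_root_.Cfsg.Agent.KOe8dd13a.k13.{ku0, ku1} := by delta _root_.Cfsg.Agent.KOe8dd13a.k13; rewrite [← Cfsg.Agent.KOe8dd13a.e12.{ku0, ku1}]; rfl'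
private noncomputable def _root_.Cfsg.Agent.KOe8dd13a.k14.{ku0} : ((x0 : Sort (ku0+1)) → ((x1 : @Multiset.{ku0} @x0) → ((x2 : (x0 → Prop)) → (((x3 : x0) → @Decidable (@x2 @x3)) → @Decidable ((x4 : x0) → ((@Membership.mem.{ku0, ku0} @x0 (@Multiset.{ku0} @x0) (@Multiset.instMembership.{ku0} @x0) @x1 @x4) → @x2 @x4)))))) := @(fun (x0 : Sort (ku0+1)) (x1 : @Multiset.{ku0} @x0) (x2 : (x0 → Prop)) (x3 : ((x3 : x0) → @Decidable (@x2 @x3))) => @Cfsg.Agent.KOe8dd13a.k13.{(ku0+1), 1} (@List.{ku0} @x0) (@Setoid.r.{(ku0+1)} (@List.{ku0} @x0) (@List.isSetoid.{ku0} @x0)) @(fun (x4 : @Quotient.{(ku0+1)} (@List.{ku0} @x0) (@List.isSetoid.{ku0} @x0)) => @Decidable ((x5 : x0) → ((@Membership.mem.{ku0, ku0} @x0 (@Multiset.{ku0} @x0) (@Multiset.instMembership.{ku0} @x0) @x4 @x5) → @x2 @x5))) (@Multiset.decidableForallMultiset._proof_2.{ku0} @x0 @x2) @x1 @(fun (x4 : @List.{ku0} @x0) => @Decidable.rec.{1} ((x5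 : x0) → ((@Membership.mem.{ku0, ku0} @x0 (@List.{ku0} @x0) (@List.instMembership.{ku0} @x0) @x4 @x5) → @x2 @x5)) @(fun (x5 : @Decidable ((x5 : x0) → ((@Membership.mem.{ku0, ku0} @x0 (@List.{ku0} @x0) (@List.instMembership.{ku0} @x0) @x4 @x5) → @x2 @x5))) => @Decidable ((x6 : x0) → ((@Membership.mem.{ku0, ku0} @x0 (@Multiset.{ku0} @x0) (@Multiset.instMembership.{ku0} @x0) (@Quotient.mk.{(ku0+1)} (@List.{ku0} @x0) (@List.isSetoid.{ku0} @x0) @x4) @x6) → @x2 @x6))) @(fun (x5 : @Not ((x5 : x0) → ((@Membership.mem.{ku0, ku0} @x0 (@List.{ku0} @x0) (@List.instMembership.{ku0} @x0) @x4 @x5) → @x2 @x5))) => @Decidable.isFalse ((x6 : x0) → ((@Membership.mem.{ku0, ku0} @x0 (@Multiset.{ku0} @x0) (@Multiset.instMembership.{ku0} @x0) (@Quotient.mk.{(ku0+1)} (@List.{ku0} @x0) (@List.isSetoid.{ku0} @x0) @x4) @x6) → @x2 @x6)) (@decidable_of_decidable_of_iff._proof_1 ((x6 : x0) → ((@Membership.mem.{ku0, ku0}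 @x0 (@List.{ku0} @x0) (@List.instMembership.{ku0} @x0) @x4 @x6) → @x2 @x6)) ((x6 : x0) → ((@Membership.mem.{ku0, ku0} @x0 (@Multiset.{ku0} @x0) (@Multiset.instMembership.{ku0} @x0) (@Quotient.mk.{(ku0+1)} (@List.{ku0} @x0) (@List.isSetoid.{ku0} @x0) @x4) @x6) → @x2 @x6)) (@Multiset.decidableForallMultiset._proof_1.{ku0} @x0 @x2 @x4) @x5)) @(fun (x5 : ((x5 : x0) → ((@Membership.mem.{ku0, ku0} @x0 (@List.{ku0} @x0) (@List.instMembership.{ku0} @x0) @x4 @x5) → @x2 @x5))) => @Decidable.isTrue ((x6 : x0) → ((@Membership.mem.{ku0, ku0} @x0 (@Multiset.{ku0} @x0) (@Multiset.instMembership.{ku0} @x0) (@Quotient.mk.{(ku0+1)} (@List.{ku0} @x0) (@List.isSetoid.{ku0} @x0) @x4) @x6) → @x2 @x6)) (@Iff.mp ((x6 : x0) → ((@Membership.mem.{ku0, ku0} @x0 (@List.{ku0} @x0) (@List.instMembership.{ku0} @x0) @x4 @x6) → @x2 @x6)) ((x6 : x0) → ((@Membership.mem.{ku0, ku0} @x0 (@Multiset.{ku0} @x0) (@Multiset.instMembership.{ku0}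 @x0) (@Quotient.mk.{(ku0+1)} (@List.{ku0} @x0) (@List.isSetoid.{ku0} @x0) @x4) @x6) → @x2 @x6)) (@Multiset.decidableForallMultiset._proof_1.{ku0} @x0 @x2 @x4) @x5)) (@Cfsg.Agent.KOe8dd13a.k10.{ku0} @x0 @x2 @x3 @x4)))
private theorem _root_.Cfsg.Agent.KOe8dd13a.e14.{ku0} : @Multiset.decidableForallMultiset.{ku0} = @_root_.Cfsg.Agent.KOe8dd13a.k14.{ku0} := by delta _root_.Cfsg.Agent.KOe8dd13a.k14; rewrite [← Cfsg.Agent.KOe8dd13a.e10.{ku0}, ← Cfsg.Agent.KOe8dd13a.e13.{(ku0+1), 1}]; rfl'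
private noncomputable def _root_.Cfsg.Agent.KOe8dd13a.k18.{ku0} : ((x0 : Sort (ku0+1)) → ((x1 : @Multiset.{ku0} @x0) → ((x2 : ((x2 : x0) → ((@Membership.mem.{ku0, ku0} @x0 (@Multiset.{ku0} @x0) (@Multiset.instMembership.{ku0} @x0) @x1 @x2) → Prop))) → (((x3 : x0) → ((x4 : @Membership.mem.{ku0, ku0} @x0 (@Multiset.{ku0} @x0) (@Multiset.instMembership.{ku0} @x0) @x1 @x3) → @Decidable (@x2 @x3 @x4))) → @Decidable ((x4 : x0) → ((x5 : @Membership.mem.{ku0, ku0} @x0 (@Multiset.{ku0} @x0) (@Multiset.instMembership.{ku0} @x0) @x1 @x4) → @x2 @x4 @x5)))))) := @(fun (x0 : Sort (ku0+1)) (x1 : @Multiset.{ku0} @x0) (x2 : ((x2 : x0) → ((@Membership.mem.{ku0, ku0} @x0 (@Multiset.{ku0} @x0) (@Multiset.instMembership.{ku0} @x0) @x1 @x2) → Prop))) (x3 : ((x3 : x0) → ((x4 : @Membership.mem.{ku0, ku0} @x0 (@Multiset.{ku0} @x0) (@Multiset.instMembership.{ku0} @x0) @x1 @x3) → @Decidable (@x2 @x3 @x4)))) => @Decidable.rec.{1}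 ((x4 : @Subtype.{(ku0+1)} @x0 @(fun (x4 : x0) => @Membership.mem.{ku0, ku0} @x0 (@Multiset.{ku0} @x0) (@Multiset.instMembership.{ku0} @x0) @x1 @x4)) → ((@Membership.mem.{ku0, ku0} (@Subtype.{(ku0+1)} @x0 @(fun (x5 : x0) => @Membership.mem.{ku0, ku0} @x0 (@Multiset.{ku0} @x0) (@Multiset.instMembership.{ku0} @x0) @x1 @x5)) (@Multiset.{ku0} (@Subtype.{(ku0+1)} @x0 @(fun (x5 : x0) => @Membership.mem.{ku0, ku0} @x0 (@Multiset.{ku0} @x0) (@Multiset.instMembership.{ku0} @x0) @x1 @x5))) (@Multiset.instMembership.{ku0} (@Subtype.{(ku0+1)} @x0 @(fun (x5 : x0) => @Membership.mem.{ku0, ku0} @x0 (@Multiset.{ku0} @x0) (@Multiset.instMembership.{ku0} @x0) @x1 @x5))) (@Multiset.attach.{ku0} @x0 @x1) @x4) → @x2 (@Subtype.val.{(ku0+1)} @x0 @(fun (x6 : x0) => @Membership.mem.{ku0, ku0} @x0 (@Multiset.{ku0} @x0) (@Multiset.instMembership.{ku0} @x0) @x1 @x6) @x4) (@Multiset.decidableDforallMultiset._proof_1.{ku0}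 @x0 @x1 @x4))) @(fun (x4 : @Decidable ((x4 : @Subtype.{(ku0+1)} @x0 @(fun (x4 : x0) => @Membership.mem.{ku0, ku0} @x0 (@Multiset.{ku0} @x0) (@Multiset.instMembership.{ku0} @x0) @x1 @x4)) → ((@Membership.mem.{ku0, ku0} (@Subtype.{(ku0+1)} @x0 @(fun (x5 : x0) => @Membership.mem.{ku0, ku0} @x0 (@Multiset.{ku0} @x0) (@Multiset.instMembership.{ku0} @x0) @x1 @x5)) (@Multiset.{ku0} (@Subtype.{(ku0+1)} @x0 @(fun (x5 : x0) => @Membership.mem.{ku0, ku0} @x0 (@Multiset.{ku0} @x0) (@Multiset.instMembership.{ku0} @x0) @x1 @x5))) (@Multiset.instMembership.{ku0} (@Subtype.{(ku0+1)} @x0 @(fun (x5 : x0) => @Membership.mem.{ku0, ku0} @x0 (@Multiset.{ku0} @x0) (@Multiset.instMembership.{ku0} @x0) @x1 @x5))) (@Multiset.attach.{ku0} @x0 @x1) @x4) → @x2 (@Subtype.val.{(ku0+1)} @x0 @(fun (x6 : x0) => @Membership.mem.{ku0, ku0} @x0 (@Multiset.{ku0} @x0) (@Multiset.instMembership.{ku0} @x0) @x1 @x6) @x4) (@Multiset.decidableDforallMultiset._proof_1.{ku0}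 @x0 @x1 @x4)))) => @Decidable ((x5 : x0) → ((x6 : @Membership.mem.{ku0, ku0} @x0 (@Multiset.{ku0} @x0) (@Multiset.instMembership.{ku0} @x0) @x1 @x5) → @x2 @x5 @x6))) @(fun (x4 : @Not ((x4 : @Subtype.{(ku0+1)} @x0 @(fun (x4 : x0) => @Membership.mem.{ku0, ku0} @x0 (@Multiset.{ku0} @x0) (@Multiset.instMembership.{ku0} @x0) @x1 @x4)) → ((@Membership.mem.{ku0, ku0} (@Subtype.{(ku0+1)} @x0 @(fun (x5 : x0) => @Membership.mem.{ku0, ku0} @x0 (@Multiset.{ku0} @x0) (@Multiset.instMembership.{ku0} @x0) @x1 @x5)) (@Multiset.{ku0} (@Subtype.{(ku0+1)} @x0 @(fun (x5 : x0) => @Membership.mem.{ku0, ku0} @x0 (@Multiset.{ku0} @x0) (@Multiset.instMembership.{ku0} @x0) @x1 @x5))) (@Multiset.instMembership.{ku0} (@Subtype.{(ku0+1)} @x0 @(fun (x5 : x0) => @Membership.mem.{ku0, ku0} @x0 (@Multiset.{ku0} @x0) (@Multiset.instMembership.{ku0} @x0) @x1 @x5))) (@Multiset.attach.{ku0} @x0 @x1) @x4) → @x2 (@Subtype.val.{(ku0+1)}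 @x0 @(fun (x6 : x0) => @Membership.mem.{ku0, ku0} @x0 (@Multiset.{ku0} @x0) (@Multiset.instMembership.{ku0} @x0) @x1 @x6) @x4) (@Multiset.decidableDforallMultiset._proof_1.{ku0} @x0 @x1 @x4)))) => @Decidable.isFalse ((x5 : x0) → ((x6 : @Membership.mem.{ku0, ku0} @x0 (@Multiset.{ku0} @x0) (@Multiset.instMembership.{ku0} @x0) @x1 @x5) → @x2 @x5 @x6)) (@decidable_of_decidable_of_iff._proof_1 ((x5 : @Subtype.{(ku0+1)} @x0 @(fun (x5 : x0) => @Membership.mem.{ku0, ku0} @x0 (@Multiset.{ku0} @x0) (@Multiset.instMembership.{ku0} @x0) @x1 @x5)) → ((@Membership.mem.{ku0, ku0} (@Subtype.{(ku0+1)} @x0 @(fun (x6 : x0) => @Membership.mem.{ku0, ku0} @x0 (@Multiset.{ku0} @x0) (@Multiset.instMembership.{ku0} @x0) @x1 @x6)) (@Multiset.{ku0} (@Subtype.{(ku0+1)} @x0 @(fun (x6 : x0) => @Membership.mem.{ku0, ku0} @x0 (@Multiset.{ku0} @x0) (@Multiset.instMembership.{ku0} @x0) @x1 @x6))) (@Multiset.instMembership.{ku0}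 (@Subtype.{(ku0+1)} @x0 @(fun (x6 : x0) => @Membership.mem.{ku0, ku0} @x0 (@Multiset.{ku0} @x0) (@Multiset.instMembership.{ku0} @x0) @x1 @x6))) (@Multiset.attach.{ku0} @x0 @x1) @x5) → @x2 (@Subtype.val.{(ku0+1)} @x0 @(fun (x7 : x0) => @Membership.mem.{ku0, ku0} @x0 (@Multiset.{ku0} @x0) (@Multiset.instMembership.{ku0} @x0) @x1 @x7) @x5) (@Multiset.decidableDforallMultiset._proof_1.{ku0} @x0 @x1 @x5))) ((x5 : x0) → ((x6 : @Membership.mem.{ku0, ku0} @x0 (@Multiset.{ku0} @x0) (@Multiset.instMembership.{ku0} @x0) @x1 @x5) → @x2 @x5 @x6)) (@Multiset.decidableDforallMultiset._proof_2.{ku0} @x0 @x1 @x2) @x4)) @(fun (x4 : ((x4 : @Subtype.{(ku0+1)} @x0 @(fun (x4 : x0) => @Membership.mem.{ku0, ku0} @x0 (@Multiset.{ku0} @x0) (@Multiset.instMembership.{ku0} @x0) @x1 @x4)) → ((@Membership.mem.{ku0, ku0} (@Subtype.{(ku0+1)} @x0 @(fun (x5 : x0) => @Membership.mem.{ku0, ku0} @x0 (@Multiset.{ku0} @x0) (@Multiset.instMembership.{ku0}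 @x0) @x1 @x5)) (@Multiset.{ku0} (@Subtype.{(ku0+1)} @x0 @(fun (x5 : x0) => @Membership.mem.{ku0, ku0} @x0 (@Multiset.{ku0} @x0) (@Multiset.instMembership.{ku0} @x0) @x1 @x5))) (@Multiset.instMembership.{ku0} (@Subtype.{(ku0+1)} @x0 @(fun (x5 : x0) => @Membership.mem.{ku0, ku0} @x0 (@Multiset.{ku0} @x0) (@Multiset.instMembership.{ku0} @x0) @x1 @x5))) (@Multiset.attach.{ku0} @x0 @x1) @x4) → @x2 (@Subtype.val.{(ku0+1)} @x0 @(fun (x6 : x0) => @Membership.mem.{ku0, ku0} @x0 (@Multiset.{ku0} @x0) (@Multiset.instMembership.{ku0} @x0) @x1 @x6) @x4) (@Multiset.decidableDforallMultiset._proof_1.{ku0} @x0 @x1 @x4)))) => @Decidable.isTrue ((x5 : x0) → ((x6 : @Membership.mem.{ku0, ku0} @x0 (@Multiset.{ku0} @x0) (@Multiset.instMembership.{ku0} @x0) @x1 @x5) → @x2 @x5 @x6)) (@Iff.mp ((x5 : @Subtype.{(ku0+1)} @x0 @(fun (x5 : x0) => @Membership.mem.{ku0, ku0} @x0 (@Multiset.{ku0} @x0) (@Multiset.instMembership.{ku0}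 @x0) @x1 @x5)) → ((@Membership.mem.{ku0, ku0} (@Subtype.{(ku0+1)} @x0 @(fun (x6 : x0) => @Membership.mem.{ku0, ku0} @x0 (@Multiset.{ku0} @x0) (@Multiset.instMembership.{ku0} @x0) @x1 @x6)) (@Multiset.{ku0} (@Subtype.{(ku0+1)} @x0 @(fun (x6 : x0) => @Membership.mem.{ku0, ku0} @x0 (@Multiset.{ku0} @x0) (@Multiset.instMembership.{ku0} @x0) @x1 @x6))) (@Multiset.instMembership.{ku0} (@Subtype.{(ku0+1)} @x0 @(fun (x6 : x0) => @Membership.mem.{ku0, ku0} @x0 (@Multiset.{ku0} @x0) (@Multiset.instMembership.{ku0} @x0) @x1 @x6))) (@Multiset.attach.{ku0} @x0 @x1) @x5) → @x2 (@Subtype.val.{(ku0+1)} @x0 @(fun (x7 : x0) => @Membership.mem.{ku0, ku0} @x0 (@Multiset.{ku0} @x0) (@Multiset.instMembership.{ku0} @x0) @x1 @x7) @x5) (@Multiset.decidableDforallMultiset._proof_1.{ku0} @x0 @x1 @x5))) ((x5 : x0) → ((x6 : @Membership.mem.{ku0, ku0} @x0 (@Multiset.{ku0} @x0) (@Multiset.instMembership.{ku0} @x0) @x1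 @x5) → @x2 @x5 @x6)) (@Multiset.decidableDforallMultiset._proof_2.{ku0} @x0 @x1 @x2) @x4)) (@Cfsg.Agent.KOe8dd13a.k14.{ku0} (@Subtype.{(ku0+1)} @x0 @(fun (x4 : x0) => @Membership.mem.{ku0, ku0} @x0 (@Multiset.{ku0} @x0) (@Multiset.instMembership.{ku0} @x0) @x1 @x4)) (@Multiset.pmap.{ku0, ku0} @x0 (@Subtype.{(ku0+1)} @x0 @(fun (x4 : x0) => @Membership.mem.{ku0, ku0} @x0 (@Multiset.{ku0} @x0) (@Multiset.instMembership.{ku0} @x0) @x1 @x4)) @(fun (x4 : x0) => @Membership.mem.{ku0, ku0} @x0 (@Multiset.{ku0} @x0) (@Multiset.instMembership.{ku0} @x0) @x1 @x4) (@Subtype.mk.{(ku0+1)} @x0 @(fun (x4 : x0) => @Membership.mem.{ku0, ku0} @x0 (@Multiset.{ku0} @x0) (@Multiset.instMembership.{ku0} @x0) @x1 @x4)) @x1 (@Multiset.attach._proof_1.{ku0} @x0 @x1)) @(fun (x4 : @Subtype.{(ku0+1)} @x0 @(fun (x4 : x0) => @Membership.mem.{ku0, ku0} @x0 (@Multiset.{ku0} @x0) (@Multiset.instMembership.{ku0} @x0) @x1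 @x4)) => @x2 (@Subtype.val.{(ku0+1)} @x0 @(fun (x5 : x0) => @Membership.mem.{ku0, ku0} @x0 (@Multiset.{ku0} @x0) (@Multiset.instMembership.{ku0} @x0) @x1 @x5) @x4) (@Multiset.decidableDforallMultiset._proof_1.{ku0} @x0 @x1 @x4)) @(fun (x4 : @Subtype.{(ku0+1)} @x0 @(fun (x4 : x0) => @Membership.mem.{ku0, ku0} @x0 (@Multiset.{ku0} @x0) (@Multiset.instMembership.{ku0} @x0) @x1 @x4)) => @x3 (@Subtype.val.{(ku0+1)} @x0 @(fun (x5 : x0) => @Membership.mem.{ku0, ku0} @x0 (@Multiset.{ku0} @x0) (@Multiset.instMembership.{ku0} @x0) @x1 @x5) @x4) (@Multiset.decidableDforallMultiset._proof_1.{ku0} @x0 @x1 @x4))))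
private theorem _root_.Cfsg.Agent.KOe8dd13a.e18.{ku0} : @Multiset.decidableDforallMultiset.{ku0} = @_root_.Cfsg.Agent.KOe8dd13a.k18.{ku0} := by delta _root_.Cfsg.Agent.KOe8dd13a.k18; rewrite [← Cfsg.Agent.KOe8dd13a.e14.{ku0}]; rfl'
private noncomputable def _root_.Cfsg.Agent.KOe8dd13a.k19.{ku0} : ((x0 : Sort (ku0+1)) → ((x1 : @Finset.{ku0} @x0) → ((x2 : ((x2 : x0) → ((@Membership.mem.{ku0, ku0} @x0 (@Finset.{ku0} @x0) (@SetLike.instMembership.{ku0, ku0} (@Finset.{ku0} @x0) @x0 (@Finset.instSetLike.{ku0} @x0)) @x1 @x2) → Prop))) → (((x3 : x0) → ((x4 : @Membership.mem.{ku0, ku0} @x0 (@Finset.{ku0} @x0) (@SetLike.instMembership.{ku0, ku0} (@Finset.{ku0} @x0) @x0 (@Finset.instSetLike.{ku0} @x0)) @x1 @x3) → @Decidable (@x2 @x3 @x4))) → @Decidable ((x4 : x0) → ((x5 : @Membership.mem.{ku0, ku0} @x0 (@Finset.{ku0} @x0) (@SetLike.instMembership.{ku0, ku0} (@Finset.{ku0} @x0) @x0 (@Finset.instSetLike.{ku0}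 @x0)) @x1 @x4) → @x2 @x4 @x5)))))) := @(fun (x0 : Sort (ku0+1)) (x1 : @Finset.{ku0} @x0) (x2 : ((x2 : x0) → ((@Membership.mem.{ku0, ku0} @x0 (@Finset.{ku0} @x0) (@SetLike.instMembership.{ku0, ku0} (@Finset.{ku0} @x0) @x0 (@Finset.instSetLike.{ku0} @x0)) @x1 @x2) → Prop))) (x3 : ((x3 : x0) → ((x4 : @Membership.mem.{ku0, ku0} @x0 (@Finset.{ku0} @x0) (@SetLike.instMembership.{ku0, ku0} (@Finset.{ku0} @x0) @x0 (@Finset.instSetLike.{ku0} @x0)) @x1 @x3) → @Decidable (@x2 @x3 @x4)))) => @Cfsg.Agent.KOe8dd13a.k18.{ku0} @x0 (@Finset.val.{ku0} @x0 @x1) @x2 @x3)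
private theorem _root_.Cfsg.Agent.KOe8dd13a.e19.{ku0} : @Finset.decidableDforallFinset.{ku0} = @_root_.Cfsg.Agent.KOe8dd13a.k19.{ku0} := by delta _root_.Cfsg.Agent.KOe8dd13a.k19; rewrite [← Cfsg.Agent.KOe8dd13a.e18.{ku0}]; rfl'
private noncomputable def _root_.Cfsg.Agent.KOe8dd13a.k20.{ku0, ku1} : ((x0 : Sort (ku1+1)) → ((x1 : (x0 → Sort (ku0+1))) → (((x2 : x0) → @DecidableEq.{(ku0+1)} (@x1 @x2)) → ((@Fintype.{ku1} @x0) → @DecidableEq.{(max (ku0+1) (ku1+1))} ((x4 : x0) → @x1 @x4))))) := @(fun (x0 : Sort (ku1+1)) (x1 : (x0 → Sort (ku0+1))) (x2 : ((x2 : x0) → @DecidableEq.{(ku0+1)} (@x1 @x2))) (x3 : @Fintype.{ku1} @x0) (x4 : ((x4 : x0) → @x1 @x4)) (x5 : ((x5 : x0) → @x1 @x5)) => @Decidable.rec.{1} ((x6 : x0) → ((@Membership.mem.{ku1, ku1} @x0 (@Finset.{ku1} @x0) (@SetLike.instMembership.{ku1, ku1} (@Finset.{ku1} @x0) @x0 (@Finset.instSetLike.{ku1} @x0)) (@Finset.univ.{ku1} @x0 @x3) @x6) →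 @Eq.{(ku0+1)} (@x1 @x6) (@x4 @x6) (@x5 @x6))) @(fun (x6 : @Decidable ((x6 : x0) → ((@Membership.mem.{ku1, ku1} @x0 (@Finset.{ku1} @x0) (@SetLike.instMembership.{ku1, ku1} (@Finset.{ku1} @x0) @x0 (@Finset.instSetLike.{ku1} @x0)) (@Finset.univ.{ku1} @x0 @x3) @x6) → @Eq.{(ku0+1)} (@x1 @x6) (@x4 @x6) (@x5 @x6)))) => @Decidable (@Eq.{(max (ku0+1) (ku1+1))} ((x7 : x0) → @x1 @x7) @x4 @x5)) @(fun (x6 : @Not ((x6 : x0) → ((@Membership.mem.{ku1, ku1} @x0 (@Finset.{ku1} @x0) (@SetLike.instMembership.{ku1, ku1} (@Finset.{ku1} @x0) @x0 (@Finset.instSetLike.{ku1} @x0)) (@Finset.univ.{ku1} @x0 @x3) @x6) → @Eq.{(ku0+1)} (@x1 @x6) (@x4 @x6) (@x5 @x6)))) => @Decidable.isFalse (@Eq.{(max (ku0+1) (ku1+1))} ((x7 : x0) → @x1 @x7) @x4 @x5) (@decidable_of_decidable_of_iff._proof_1 ((x7 : x0) → ((@Membership.mem.{ku1, ku1} @x0 (@Finset.{ku1} @x0) (@SetLike.instMembership.{ku1, ku1} (@Finset.{ku1} @x0) @x0 (@Finset.instSetLike.{ku1}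 @x0)) (@Finset.univ.{ku1} @x0 @x3) @x7) → @Eq.{(ku0+1)} (@x1 @x7) (@x4 @x7) (@x5 @x7))) (@Eq.{(max (ku0+1) (ku1+1))} ((x7 : x0) → @x1 @x7) @x4 @x5) (@Fintype.decidablePiFintype._proof_2.{ku1, ku0} @x0 @x1 @x3 @x4 @x5) @x6)) @(fun (x6 : ((x6 : x0) → ((@Membership.mem.{ku1, ku1} @x0 (@Finset.{ku1} @x0) (@SetLike.instMembership.{ku1, ku1} (@Finset.{ku1} @x0) @x0 (@Finset.instSetLike.{ku1} @x0)) (@Finset.univ.{ku1} @x0 @x3) @x6) → @Eq.{(ku0+1)} (@x1 @x6) (@x4 @x6) (@x5 @x6)))) => @Decidable.isTrue (@Eq.{(max (ku0+1) (ku1+1))} ((x7 : x0) → @x1 @x7) @x4 @x5) (@Iff.mp ((x7 : x0) → ((@Membership.mem.{ku1, ku1} @x0 (@Finset.{ku1} @x0) (@SetLike.instMembership.{ku1, ku1} (@Finset.{ku1} @x0) @x0 (@Finset.instSetLike.{ku1} @x0)) (@Finset.univ.{ku1} @x0 @x3) @x7) → @Eq.{(ku0+1)} (@x1 @x7) (@x4 @x7) (@x5 @x7))) (@Eq.{(max (ku0+1) (ku1+1))} ((x7 : x0) → @x1 @x7) @x4 @x5) (@Fintype.decidablePiFintype._proof_2.{ku1,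 ku0} @x0 @x1 @x3 @x4 @x5) @x6)) (@Cfsg.Agent.KOe8dd13a.k19.{ku1} @x0 (@Fintype.elems.{ku1} @x0 @x3) @(fun (x6 : x0) (x7 : @Membership.mem.{ku1, ku1} @x0 (@Finset.{ku1} @x0) (@SetLike.instMembership.{ku1, ku1} (@Finset.{ku1} @x0) @x0 (@Finset.instSetLike.{ku1} @x0)) (@Finset.univ.{ku1} @x0 @x3) @x6) => @Eq.{(ku0+1)} (@x1 @x6) (@x4 @x6) (@x5 @x6)) @(fun (x6 : x0) (x7 : @Membership.mem.{ku1, ku1} @x0 (@Finset.{ku1} @x0) (@SetLike.instMembership.{ku1, ku1} (@Finset.{ku1} @x0) @x0 (@Finset.instSetLike.{ku1} @x0)) (@Finset.univ.{ku1} @x0 @x3) @x6) => @x2 @x6 (@x4 @x6) (@x5 @x6))))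
private theorem _root_.Cfsg.Agent.KOe8dd13a.e20.{ku0, ku1} : @Fintype.decidablePiFintype.{ku0, ku1} = @_root_.Cfsg.Agent.KOe8dd13a.k20.{ku0, ku1} := by delta _root_.Cfsg.Agent.KOe8dd13a.k20; rewrite [← Cfsg.Agent.KOe8dd13a.e19.{ku1}]; rfl'
private noncomputable def _root_.Cfsg.Agent.KOe8dd13a.k21 : ((x0 : @Int) → ((x1 : @Int) → @Decidable (@Eq.{1} @Int @x0 @x1))) := @(fun (x0 : @Int) (x1 : @Int) => @Int.rec.{1} @(fun (x2 : @Int) => @Decidable (@Eq.{1} @Int @x2 @x1)) @(fun (x2 : @Nat) => @Int.rec.{1} @(fun (x3 : @Int) => @Decidable (@Eq.{1} @Int (@Int.ofNat @x2) @x3)) @(fun (x3 : @Nat) => @Decidable.rec.{1} (@Eq.{1} @Nat @x2 @x3) @(fun (x4 : @Decidable (@Eq.{1} @Nat @x2 @x3)) => @Decidable (@Eq.{1} @Int (@Int.ofNat @x2) (@Int.ofNat @x3))) @(fun (x4 : @Not (@Eq.{1} @Nat @x2 @x3)) => @Decidable.isFalse (@Eq.{1} @Int (@Int.ofNat @x2) (@Int.ofNat @x3)) (@Int.decEq._proof_2 @x2 @x3 @x4)) @(fun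 (x4 : @Eq.{1} @Nat @x2 @x3) => @Decidable.isTrue (@Eq.{1} @Int (@Int.ofNat @x2) (@Int.ofNat @x3)) (@Int.decEq._proof_1 @x2 @x3 @x4)) (@Cfsg.Agent.KOe8dd13a.k6 @x2 @x3)) @(fun (x3 : @Nat) => @Decidable.isFalse (@Eq.{1} @Int (@Int.ofNat @x2) (@Int.negSucc @x3)) (@Int.decEq._proof_3 @x2 @x3)) @x1) @(fun (x2 : @Nat) => @Int.rec.{1} @(fun (x3 : @Int) => @Decidable (@Eq.{1} @Int (@Int.negSucc @x2) @x3)) @(fun (x3 : @Nat) => @Decidable.isFalse (@Eq.{1} @Int (@Int.negSucc @x2) (@Int.ofNat @x3)) (@Int.decEq._proof_4 @x2 @x3)) @(fun (x3 : @Nat) => @Decidable.rec.{1} (@Eq.{1} @Nat @x2 @x3) @(fun (x4 : @Decidable (@Eq.{1} @Nat @x2 @x3)) => @Decidable (@Eq.{1} @Int (@Int.negSucc @x2) (@Int.negSucc @x3))) @(fun (x4 : @Not (@Eq.{1} @Nat @x2 @x3)) => @Decidable.isFalse (@Eq.{1} @Int (@Int.negSucc @x2) (@Int.negSucc @x3)) (@Int.decEq._proof_6 @x2 @x3 @x4)) @(fun (x4 : @Eq.{1} @Nat @x2 @x3) => @Decidable.isTrue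 (@Eq.{1} @Int (@Int.negSucc @x2) (@Int.negSucc @x3)) (@Int.decEq._proof_5 @x2 @x3 @x4)) (@Cfsg.Agent.KOe8dd13a.k6 @x2 @x3)) @x1) @x0)
private theorem _root_.Cfsg.Agent.KOe8dd13a.e21 : @Int.decEq = @_root_.Cfsg.Agent.KOe8dd13a.k21 := by delta _root_.Cfsg.Agent.KOe8dd13a.k21; rewrite [← Cfsg.Agent.KOe8dd13a.e6]; rfl'
private noncomputable def _root_.Cfsg.Agent.KOe8dd13a.k22 : @DecidableEq.{1} @Int := @Cfsg.Agent.KOe8dd13a.k21
private theorem _root_.Cfsg.Agent.KOe8dd13a.e22 : @Int.instDecidableEq = @_root_.Cfsg.Agent.KOe8dd13a.k22 := by delta _root_.Cfsg.Agent.KOe8dd13a.k22; rewrite [← Cfsg.Agent.KOe8dd13a.e21]; rfl'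
private noncomputable def _root_.Cfsg.Agent.KOe8dd13a.k23.{ku0, ku1} : ((x0 : Sort (ku0+1)) → ((x1 : Sort (ku1+1)) → ((x0 → (x1 → x1)) → (x1 → ((@List.{ku0} @x0) → x1))))) := @(fun (x0 : Sort (ku0+1)) (x1 : Sort (ku1+1)) (x2 : (x0 → (x1 → x1))) (x3 : x1) (x4 : @List.{ku0} @x0) => @List.rec.{(ku1+1), ku0} @x0 @(fun (x5 : @List.{ku0} @x0) => x1) @x3 @(fun (x5 : x0) (x6 : @List.{ku0} @x0) (x7 : x1) => @x2 @x5 @x7) @x4)
private theorem _root_.Cfsg.Agent.KOe8dd13a.e23.{ku0, ku1} : @List.foldr.{ku0, ku1} = @_root_.Cfsg.Agent.KOe8dd13a.k23.{ku0, ku1} := by delta _root_.Cfsg.Agent.KOe8dd13a.k23; funext a0 a1 a2 a3 a4; refine (_root_.Cfsg.Agent.KOe8dd13a.e3 (fun a4 => @List.foldr.{ku0, ku1} a0 a1 a2 a3 a4) ?_ (fun c0 c1 => ?_) a4 :) <;> (rfl')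
private noncomputable def _root_.Cfsg.Agent.KOe8dd13a.k24 : ((@Int) → ((@Int) → @Int)) := @(fun (x0 : @Int) (x1 : @Int) => @Int.rec.{1} @(fun (x2 : @Int) => @Int) @(fun (x2 : @Nat) => @Int.rec.{1} @(fun (x3 : @Int) => @Int) @(fun (x3 : @Nat) => @Int.ofNat (@Nat.add @x2 @x3)) @(fun (x3 : @Nat) => @Nat.rec.{1} @(fun (x4 : @Nat) => @Int) (@Int.ofNat (@Nat.sub @x2 (@Nat.succ @x3))) @(fun (x4 : @Nat) (x5 : @Int) => @Int.negSucc @x4) (@Nat.sub (@Nat.succ @x3) @x2)) @x1) @(fun (x2 : @Nat) => @Int.rec.{1} @(fun (x3 : @Int) => @Int) @(fun (x3 : @Nat) => @Nat.rec.{1} @(fun (x4 : @Nat) => @Int) (@Int.ofNat (@Nat.sub @x3 (@Nat.succ @x2))) @(fun (x4 : @Nat) (x5 : @Int) => @Int.negSucc @x4) (@Nat.sub (@Nat.succ @x2) @x3)) @(fun (x3 : @Nat) => @Int.negSucc (@Nat.succ (@Nat.add @x2 @x3))) @x1) @x0)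
private theorem _root_.Cfsg.Agent.KOe8dd13a.e24 : @Int.add = @_root_.Cfsg.Agent.KOe8dd13a.k24 := by delta _root_.Cfsg.Agent.KOe8dd13a.k24; rfl'
private noncomputable def _root_.Cfsg.Agent.KOe8dd13a.k25.{ku0, ku1} : ((x0 : Sort (ku0+1)) → ((x1 : Sort (ku1+1)) → ((x0 → x1) → ((@List.{ku0} @x0) → @List.{ku1} @x1)))) := @(fun (x0 : Sort (ku0+1)) (x1 : Sort (ku1+1)) (x2 : (x0 → x1)) (x3 : @List.{ku0} @x0) => @List.rec.{(ku1+1), ku0} @x0 @(fun (x4 : @List.{ku0} @x0) => @List.{ku1} @x1) (@List.nil.{ku1} @x1) @(fun (x4 : x0) (x5 : @List.{ku0} @x0) (x6 : @List.{ku1} @x1) => @List.cons.{ku1} @x1 (@x2 @x4) @x6) @x3)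
private theorem _root_.Cfsg.Agent.KOe8dd13a.e25.{ku0, ku1} : @List.map.{ku0, ku1} = @_root_.Cfsg.Agent.KOe8dd13a.k25.{ku0, ku1} := by delta _root_.Cfsg.Agent.KOe8dd13a.k25; funext a0 a1 a2 a3; refine (_root_.Cfsg.Agent.KOe8dd13a.e3 (fun a3 => @List.map.{ku0, ku1} a0 a1 a2 a3) ?_ (fun c0 c1 => ?_) a3 :) <;> (rfl')
private noncomputable def _root_.Cfsg.Agent.KOe8dd13a.k26 : (by first | exact type_of% @Cfsg.Agent.ChevalleyStructure.RootVecTab.dig | exact Unit : Sort _) := by first | (refine @Subtype.val _ (fun g => @Cfsg.Agent.ChevalleyStructure.RootVecTab.dig = @g) (@Subtype.mk _ _ (@(fun (x0 : @Nat) (x1 : @Nat) => @Nat.mod (@Nat.shiftRight @x0 (@Nat.mul (nat_lit 6) @x1)) (nat_lit 64))) ?_); rfl') | exact @Cfsg.Agent.ChevalleyStructure.RootVecTab.dig | exact ()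
private theorem _root_.Cfsg.Agent.KOe8dd13a.e26 : (by first | exact @Cfsg.Agent.ChevalleyStructure.RootVecTab.dig = @_root_.Cfsg.Agent.KOe8dd13a.k26 | exact True : Prop) := by first | (delta _root_.Cfsg.Agent.KOe8dd13a.k26; exact @Subtype.property _ (fun g => @Cfsg.Agent.ChevalleyStructure.RootVecTab.dig = @g) _) | rfl | trivial
private noncomputable def _root_.Cfsg.Agent.KOe8dd13a.oEq.{ku} (α : Sort ku) (a b : Nat) (f t : α) : α := @Decidable.rec (a = b) (fun _ => α) (fun _ => f) (fun _ => t) (Nat.decEq a b)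
private noncomputable def _root_.Cfsg.Agent.KOe8dd13a.k27.{ku} (α : Sort ku) (a b : Nat) (f t : α) : α := @Bool.rec (fun _ => α) f t (Nat.beq a b)
private theorem _root_.Cfsg.Agent.KOe8dd13a.e27.{ku} : @_root_.Cfsg.Agent.KOe8dd13a.oEq.{ku} = @_root_.Cfsg.Agent.KOe8dd13a.k27.{ku} := funext fun α => funext fun a => funext fun b => funext fun f => funext fun t => by delta _root_.Cfsg.Agent.KOe8dd13a.oEq _root_.Cfsg.Agent.KOe8dd13a.k27; cases h : Nat.beq a b <;> cases Nat.decEq a b <;> rename_i g <;> first | rfl | exact absurd g (Nat.ne_of_beq_eq_false h) | exact absurd (Nat.eq_of_beq_eq_true h) g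
private noncomputable def _root_.Cfsg.Agent.KOe8dd13a.k28 : (by first | exact type_of% @Cfsg.Agent.ChevalleyStructure.RootVecTab.packTab | exact Unit : Sort _) := by first | (refine @Subtype.val _ (fun g => @Cfsg.Agent.ChevalleyStructure.RootVecTab.packTab = @g) (@Subtype.mk _ _ (@(fun (x0 : @Cfsg.Lie.ChevalleyDatum) => @Cfsg.Agent.KOe8dd13a.k27.{1} @Nat (@Cfsg.Lie.ChevalleyDatum.nroots @x0) (nat_lit 12) (@Cfsg.Agent.KOe8dd13a.k27.{1} @Nat (@Cfsg.Lie.ChevalleyDatum.nroots @x0) (nat_lit 8) (@Cfsg.Agent.KOe8dd13a.k27.{1} @Nat (@Cfsg.Lie.ChevalleyDatum.nroots @x0) (nat_lit 24) (@Cfsg.Agent.KOe8dd13a.k27.{1} @Nat (@Cfsg.Lie.ChevalleyDatum.nroots @x0) (nat_lit 48) (@Cfsg.Agent.KOe8dd13a.k27.{1} @Nat (@Cfsg.Lie.ChevalleyDatum.nroots @x0) (nat_lit 72) (@Cfsg.Agent.KOe8dd13a.k27.{1} @Nat (@Cfsg.Lie.ChevalleyDatum.nroots @x0) (nat_lit 126) @Cfsg.Agent.ChevalleyStructure.RootVecTab.packE8 @Cfsg.Agent.ChevalleyStructure.RootVecTab.packE7)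 @Cfsg.Agent.ChevalleyStructure.RootVecTab.packE6) @Cfsg.Agent.ChevalleyStructure.RootVecTab.packF4) @Cfsg.Agent.ChevalleyStructure.RootVecTab.packD4) @Cfsg.Agent.ChevalleyStructure.RootVecTab.packB2) @Cfsg.Agent.ChevalleyStructure.RootVecTab.packG2)) ?_); rewrite [← Cfsg.Agent.KOe8dd13a.e27.{1}]; (try delta Cfsg.Agent.ChevalleyStructure.RootVecTab.packTab); (try generalize @Cfsg.Agent.ChevalleyStructure.RootVecTab.packE8 = g0); (try generalize @Cfsg.Agent.ChevalleyStructure.RootVecTab.packE7 = g1); (try generalize @Cfsg.Agent.ChevalleyStructure.RootVecTab.packE6 = g2); (try generalize @Cfsg.Agent.ChevalleyStructure.RootVecTab.packF4 = g3); (try generalize @Cfsg.Agent.ChevalleyStructure.RootVecTab.packD4 = g4); (try generalize @Cfsg.Agent.ChevalleyStructure.RootVecTab.packB2 = g5); (try generalize @Cfsg.Agent.ChevalleyStructure.RootVecTab.packG2 = g6); rfl') | exact @Cfsg.Agent.ChevalleyStructure.RootVecTab.packTab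 | exact ()
private theorem _root_.Cfsg.Agent.KOe8dd13a.e28 : (by first | exact @Cfsg.Agent.ChevalleyStructure.RootVecTab.packTab = @_root_.Cfsg.Agent.KOe8dd13a.k28 | exact True : Prop) := by first | (delta _root_.Cfsg.Agent.KOe8dd13a.k28; exact @Subtype.property _ (fun g => @Cfsg.Agent.ChevalleyStructure.RootVecTab.packTab = @g) _) | rfl | trivial
private noncomputable def _root_.Cfsg.Agent.KOe8dd13a.k29 : (by first | exact type_of% @Cfsg.Agent.ChevalleyStructure.RootVecTab.code | exact Unit : Sort _) := by first | (refine @Subtype.val _ (fun g => @Cfsg.Agent.ChevalleyStructure.RootVecTab.code = @g) (@Subtype.mk _ _ (@(fun (x0 : @Cfsg.Lie.ChevalleyDatum) (x1 : @Nat) => @Nat.mod (@Nat.shiftRight (@Cfsg.Agent.KOe8dd13a.k28 @x0) (@Nat.mul (@Nat.mul (nat_lit 6) (@Cfsg.Lie.ChevalleyDatum.rank @x0)) @x1)) (@Nat.pow (nat_lit 2) (@Nat.mul (nat_lit 6) (@Cfsg.Lie.ChevalleyDatum.rank @x0))))) ?_);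 rewrite [← Cfsg.Agent.KOe8dd13a.e28]; (try delta Cfsg.Agent.ChevalleyStructure.RootVecTab.code); (try generalize @Cfsg.Agent.ChevalleyStructure.RootVecTab.packTab = g0); rfl') | exact @Cfsg.Agent.ChevalleyStructure.RootVecTab.code | exact ()
private theorem _root_.Cfsg.Agent.KOe8dd13a.e29 : (by first | exact @Cfsg.Agent.ChevalleyStructure.RootVecTab.code = @_root_.Cfsg.Agent.KOe8dd13a.k29 | exact True : Prop) := by first | (delta _root_.Cfsg.Agent.KOe8dd13a.k29; exact @Subtype.property _ (fun g => @Cfsg.Agent.ChevalleyStructure.RootVecTab.code = @g) _) | rfl | trivial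
private noncomputable def _root_.Cfsg.Agent.KOe8dd13a.k30 : ((x0 : Prop) → ((x1 : Prop) → ((@Decidable @x0) → ((@Decidable @x1) → @Decidable (@And @x0 @x1))))) := @(fun (x0 : Prop) (x1 : Prop) (x2 : @Decidable @x0) (x3 : @Decidable @x1) => @Decidable.rec.{1} @x0 @(fun (x4 : @Decidable @x0) => @Decidable (@And @x0 @x1)) @(fun (x4 : @Not @x0) => @Decidable.isFalse (@And @x0 @x1) (@instDecidableAnd._proof_2 @x0 @x1 @x4)) @(fun (x4 : x0) => @Decidable.rec.{1} @x1 @(fun (x5 : @Decidable @x1) => @Decidable (@And @x0 @x1)) @(fun (x5 : @Not @x1) => @Decidable.isFalse (@And @x0 @x1) (@instDecidableAnd._proof_1 @x0 @x1 @x5)) @(fun (x5 : x1) => @Decidable.isTrue (@And @x0 @x1) (@And.intro @x0 @x1 @x4 @x5)) @x3) @x2)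
private theorem _root_.Cfsg.Agent.KOe8dd13a.e30 : @instDecidableAnd = @_root_.Cfsg.Agent.KOe8dd13a.k30 := by delta _root_.Cfsg.Agent.KOe8dd13a.k30; rfl'
private noncomputable def _root_.Cfsg.Agent.KOe8dd13a.k31 : ((x0 : @Nat) → ((x1 : @Nat) → @Decidable (@LE.le.{0} @Nat @instLENat @x0 @x1))) := @(fun (x0 : @Nat) (x1 : @Nat) => @Decidable.rec.{1} (@Eq.{1} @Bool (@Nat.ble @x0 @x1) @Bool.true) @(fun (x2 : @Decidable (@Eq.{1} @Bool (@Nat.ble @x0 @x1) @Bool.true)) => @Decidable (@LE.le.{0} @Nat @instLENat @x0 @x1)) @(fun (x2 : @Not (@Eq.{1} @Bool (@Nat.ble @x0 @x1) @Bool.true)) => @Decidable.isFalse (@LE.le.{0} @Nat @instLENat @x0 @x1) (@Nat.not_le_of_not_ble_eq_true @x0 @x1 @x2)) @(fun (x2 : @Eq.{1} @Bool (@Nat.ble @x0 @x1) @Bool.true) => @Decidable.isTrue (@LE.le.{0} @Nat @instLENat @x0 @x1) (@Nat.le_of_ble_eq_true @x0 @x1 @x2)) (@Cfsg.Agent.KOe8dd13a.k2 (@Nat.ble @x0 @x1) @Bool.true))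
private theorem _root_.Cfsg.Agent.KOe8dd13a.e31 : @Nat.decLe = @_root_.Cfsg.Agent.KOe8dd13a.k31 := by delta _root_.Cfsg.Agent.KOe8dd13a.k31; rewrite [← Cfsg.Agent.KOe8dd13a.e2]; rfl'
private noncomputable def _root_.Cfsg.Agent.KOe8dd13a.k32 : (by first | exact type_of% @Cfsg.Agent.ChevalleyStructure.RootVec.rt | exact Unit : Sort _) := by first | (refine @Subtype.val _ (fun g => @Cfsg.Agent.ChevalleyStructure.RootVec.rt = @g) (@Subtype.mk _ _ (@(fun (x0 : @Cfsg.Lie.ChevalleyDatum) (x1 : @Nat) (x2 : @Nat) => @Decidable.rec.{1} (@And (@LT.lt.{0} @Nat @instLTNat @x1 (@Cfsg.Lie.ChevalleyDatum.nroots @x0)) (@LT.lt.{0} @Nat @instLTNat @x2 (@Cfsg.Lie.ChevalleyDatum.rank @x0))) @(fun (x3 : @Decidable (@And (@LT.lt.{0} @Nat @instLTNat @x1 (@Cfsg.Lie.ChevalleyDatum.nroots @x0)) (@LT.lt.{0} @Nat @instLTNat @x2 (@Cfsg.Lie.ChevalleyDatum.rank @x0)))) => @Int) @(fun (x3 : @Not (@And (@LT.lt.{0} @Nat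 @instLTNat @x1 (@Cfsg.Lie.ChevalleyDatum.nroots @x0)) (@LT.lt.{0} @Nat @instLTNat @x2 (@Cfsg.Lie.ChevalleyDatum.rank @x0)))) => @Int.ofNat (nat_lit 0)) @(fun (x3 : @And (@LT.lt.{0} @Nat @instLTNat @x1 (@Cfsg.Lie.ChevalleyDatum.nroots @x0)) (@LT.lt.{0} @Nat @instLTNat @x2 (@Cfsg.Lie.ChevalleyDatum.rank @x0))) => @Cfsg.Agent.KOe8dd13a.k24 (@Int.ofNat (@Cfsg.Agent.KOe8dd13a.k26 (@Cfsg.Agent.KOe8dd13a.k29 @x0 @x1) (@Nat.sub (@Nat.sub (@Cfsg.Lie.ChevalleyDatum.rank @x0) (nat_lit 1)) @x2))) (@Nat.rec.{1} @(fun (x4 : @Nat) => @Int) (@Int.ofNat (nat_lit 0)) @(fun (x4 : @Nat) (x5 : @Int) => @Int.negSucc @x4) (nat_lit 8))) (@Cfsg.Agent.KOe8dd13a.k30 (@LT.lt.{0} @Nat @instLTNat @x1 (@Cfsg.Lie.ChevalleyDatum.nroots @x0)) (@LT.lt.{0} @Nat @instLTNat @x2 (@Cfsg.Lie.ChevalleyDatum.rank @x0)) (@Cfsg.Agent.KOe8dd13a.k31 (@Nat.succ @x1) (@Cfsg.Lie.ChevalleyDatum.nroots @x0)) (@Cfsg.Agent.KOe8dd13a.k31 (@Nat.succ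 @x2) (@Cfsg.Lie.ChevalleyDatum.rank @x0))))) ?_); rewrite [← Cfsg.Agent.KOe8dd13a.e31, ← Cfsg.Agent.KOe8dd13a.e30, ← Cfsg.Agent.KOe8dd13a.e29, ← Cfsg.Agent.KOe8dd13a.e26, ← Cfsg.Agent.KOe8dd13a.e24]; (try delta Cfsg.Agent.ChevalleyStructure.RootVec.rt); (try generalize @Cfsg.Agent.ChevalleyStructure.RootVecTab.dig = g0); (try generalize @Cfsg.Agent.ChevalleyStructure.RootVecTab.code = g1); rfl') | exact @Cfsg.Agent.ChevalleyStructure.RootVec.rt | exact ()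
private theorem _root_.Cfsg.Agent.KOe8dd13a.e32 : (by first | exact @Cfsg.Agent.ChevalleyStructure.RootVec.rt = @_root_.Cfsg.Agent.KOe8dd13a.k32 | exact True : Prop) := by first | (delta _root_.Cfsg.Agent.KOe8dd13a.k32; exact @Subtype.property _ (fun g => @Cfsg.Agent.ChevalleyStructure.RootVec.rt = @g) _) | rfl | trivial
private noncomputable def _root_.Cfsg.Agent.KOe8dd13a.k33 : (by first | exact type_of% @Cfsg.Agent.Nodes.RGDFold.V | exact Unit : Sort _) := by first | (refine @Subtype.val _ (fun g => @Cfsg.Agent.Nodes.RGDFold.V = @g) (@Subtype.mk _ _ (@(fun (x0 : @Nat) (x1 : @Nat) (x2 : @Cfsg.Lie.ChevalleyDatum) (x3 : ((@Fin @x1) → @List.{0} (@Fin @x0))) (x4 : @Nat) (x5 : @Fin @x1) => @Cfsg.Agent.KOe8dd13a.k23.{0, 0} @Int @Int @(fun (x6 : @Int) (x7 : @Int) => @Cfsg.Agent.KOe8dd13a.k24 @x6 @x7) (@Int.ofNat (nat_lit 0)) (@Cfsg.Agent.KOe8dd13a.k25.{0, 0} (@Fin @x0) @Int @(fun (x6 : @Fin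 @x0) => @Cfsg.Agent.KOe8dd13a.k32 @x2 @x4 (@Fin.val @x0 @x6)) (@x3 @x5)))) ?_); rewrite [← Cfsg.Agent.KOe8dd13a.e32, ← Cfsg.Agent.KOe8dd13a.e25.{0, 0}, ← Cfsg.Agent.KOe8dd13a.e24, ← Cfsg.Agent.KOe8dd13a.e23.{0, 0}]; (try delta Cfsg.Agent.Nodes.RGDFold.V); (try generalize @Cfsg.Agent.ChevalleyStructure.RootVec.rt = g0); rfl') | exact @Cfsg.Agent.Nodes.RGDFold.V | exact ()
private theorem _root_.Cfsg.Agent.KOe8dd13a.e33 : (by first | exact @Cfsg.Agent.Nodes.RGDFold.V = @_root_.Cfsg.Agent.KOe8dd13a.k33 | exact True : Prop) := by first | (delta _root_.Cfsg.Agent.KOe8dd13a.k33; exact @Subtype.property _ (fun g => @Cfsg.Agent.Nodes.RGDFold.V = @g) _) | rfl | trivial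
private noncomputable def _root_.Cfsg.Agent.KOe8dd13a.k40.{ku0} : ((x0 : Sort (ku0+1)) → ((@List.{ku0} @x0) → (x0 → x0))) := @(fun (x0 : Sort (ku0+1)) (x1 : @List.{ku0} @x0) (x2 : x0) => @List.rec.{(ku0+1), ku0} @x0 @(fun (x3 : @List.{ku0} @x0) => x0) @x2 @(fun (x3 : x0) (x4 : @List.{ku0} @x0) (x5 : x0) => x3) @x1)
private theorem _root_.Cfsg.Agent.KOe8dd13a.e40.{ku0} : @List.headD.{ku0} = @_root_.Cfsg.Agent.KOe8dd13a.k40.{ku0} := by delta _root_.Cfsg.Agent.KOe8dd13a.k40; rfl'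
private noncomputable def _root_.Cfsg.Agent.KOe8dd13a.k7 : @DecidableEq.{1} @Nat := @Cfsg.Agent.KOe8dd13a.k6
private theorem _root_.Cfsg.Agent.KOe8dd13a.e7 : @instDecidableEqNat = @_root_.Cfsg.Agent.KOe8dd13a.k7 := by delta _root_.Cfsg.Agent.KOe8dd13a.k7; rewrite [← Cfsg.Agent.KOe8dd13a.e6]; rfl'
private noncomputable def _root_.Cfsg.Agent.KOe8dd13a.k8.{ku0} : ((x0 : Sort (ku0+1)) → ((@List.{ku0} @x0) → ((@List.{ku0} @x0) → @List.{ku0} @x0))) := @(fun (x0 : Sort (ku0+1)) (x1 : @List.{ku0} @x0) (x2 : @List.{ku0} @x0) => @List.rec.{(ku0+1), ku0} @x0 @(fun (x3 : @List.{ku0} @x0) => ((@List.{ku0} @x0) → @List.{ku0} @x0)) @(fun (x3 : @List.{ku0} @x0) => x3) @(fun (x3 : x0) (x4 : @List.{ku0} @x0) (x5 : ((@List.{ku0} @x0) → @List.{ku0} @x0)) (x6 : @List.{ku0} @x0) => @List.cons.{ku0} @x0 @x3 (@x5 @x6)) @x1 @x2)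
private theorem _root_.Cfsg.Agent.KOe8dd13a.e8.{ku0} : @List.append.{ku0} = @_root_.Cfsg.Agent.KOe8dd13a.k8.{ku0} := by delta _root_.Cfsg.Agent.KOe8dd13a.k8; funext a0 a1 a2; refine (congrFun (_root_.Cfsg.Agent.KOe8dd13a.e3 (fun a1 a2 => @List.append.{ku0} a0 a1 a2) ?_ (fun c0 c1 => ?_) a1) a2 :) <;> (rfl')
private noncomputable def _root_.Cfsg.Agent.KOe8dd13a.k42.{ku0} : ((x0 : Sort (ku0+1)) → ((@DecidableEq.{(ku0+1)} @x0) → ((x2 : @List.{ku0} @x0) → ((x3 : @List.{ku0} @x0) → @Decidable (@Eq.{(ku0+1)} (@List.{ku0} @x0) @x2 @x3))))) := @(fun (x0 : Sort (ku0+1)) (x1 : @DecidableEq.{(ku0+1)} @x0) (x2 : @List.{ku0} @x0) (x3 : @List.{ku0} @x0) => @List.rec.{(ku0+1), ku0} @x0 @(fun (x4 : @List.{ku0} @x0) => ((x5 : @List.{ku0} @x0) → @Decidable (@Eq.{(ku0+1)} (@List.{ku0} @x0) @x4 @x5))) @(fun (x4 : @List.{ku0} @x0) => @List.rec.{1, ku0} @x0 @(fun (x5 : @List.{ku0} @x0) => @Decidable (@Eq.{(ku0+1)}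 (@List.{ku0} @x0) (@List.nil.{ku0} @x0) @x5)) (@Decidable.isTrue (@Eq.{(ku0+1)} (@List.{ku0} @x0) (@List.nil.{ku0} @x0) (@List.nil.{ku0} @x0)) (@List.hasDecEq._proof_1.{ku0} @x0)) @(fun (x5 : x0) (x6 : @List.{ku0} @x0) (x7 : @Decidable (@Eq.{(ku0+1)} (@List.{ku0} @x0) (@List.nil.{ku0} @x0) @x6)) => @Decidable.isFalse (@Eq.{(ku0+1)} (@List.{ku0} @x0) (@List.nil.{ku0} @x0) (@List.cons.{ku0} @x0 @x5 @x6)) (@List.hasDecEq._proof_3.{ku0} @x0 @x5 @x6)) @x4) @(fun (x4 : x0) (x5 : @List.{ku0} @x0) (x6 : ((x6 : @List.{ku0} @x0) → @Decidable (@Eq.{(ku0+1)} (@List.{ku0} @x0) @x5 @x6))) (x7 : @List.{ku0} @x0) => @List.rec.{1, ku0} @x0 @(fun (x8 : @List.{ku0} @x0) => @Decidable (@Eq.{(ku0+1)} (@List.{ku0} @x0) (@List.cons.{ku0} @x0 @x4 @x5) @x8)) (@Decidable.isFalse (@Eq.{(ku0+1)} (@List.{ku0} @x0) (@List.cons.{ku0} @x0 @x4 @x5) (@List.nil.{ku0} @x0)) (@List.hasDecEq._proof_2.{ku0} @x0 @x4 @x5)) @(fun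 (x8 : x0) (x9 : @List.{ku0} @x0) (x10 : @Decidable (@Eq.{(ku0+1)} (@List.{ku0} @x0) (@List.cons.{ku0} @x0 @x4 @x5) @x9)) => @Decidable.rec.{1} (@Eq.{(ku0+1)} @x0 @x4 @x8) @(fun (x11 : @Decidable (@Eq.{(ku0+1)} @x0 @x4 @x8)) => @Decidable (@Eq.{(ku0+1)} (@List.{ku0} @x0) (@List.cons.{ku0} @x0 @x4 @x5) (@List.cons.{ku0} @x0 @x8 @x9))) @(fun (x11 : @Not (@Eq.{(ku0+1)} @x0 @x4 @x8)) => @Decidable.isFalse (@Eq.{(ku0+1)} (@List.{ku0} @x0) (@List.cons.{ku0} @x0 @x4 @x5) (@List.cons.{ku0} @x0 @x8 @x9)) (@List.hasDecEq._proof_6.{ku0} @x0 @x4 @x5 @x8 @x9 @x11)) @(fun (x11 : @Eq.{(ku0+1)} @x0 @x4 @x8) => @Decidable.rec.{1} (@Eq.{(ku0+1)} (@List.{ku0} @x0) @x5 @x9) @(fun (x12 : @Decidable (@Eq.{(ku0+1)} (@List.{ku0} @x0) @x5 @x9)) => @Decidable (@Eq.{(ku0+1)} (@List.{ku0} @x0) (@List.cons.{ku0} @x0 @x4 @x5) (@List.cons.{ku0} @x0 @x8 @x9))) @(fun (x12 : @Not (@Eq.{(ku0+1)} (@List.{ku0} @x0) @x5 @x9))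 => @Decidable.isFalse (@Eq.{(ku0+1)} (@List.{ku0} @x0) (@List.cons.{ku0} @x0 @x4 @x5) (@List.cons.{ku0} @x0 @x8 @x9)) (@List.hasDecEq._proof_5.{ku0} @x0 @x4 @x5 @x8 @x9 @x12)) @(fun (x12 : @Eq.{(ku0+1)} (@List.{ku0} @x0) @x5 @x9) => @Decidable.isTrue (@Eq.{(ku0+1)} (@List.{ku0} @x0) (@List.cons.{ku0} @x0 @x4 @x5) (@List.cons.{ku0} @x0 @x8 @x9)) (@List.hasDecEq._proof_4.{ku0} @x0 @x4 @x5 @x8 @x9 @x11 @x12)) (@x6 @x9)) (@x1 @x4 @x8)) @x7) @x2 @x3)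
private theorem _root_.Cfsg.Agent.KOe8dd13a.e42.{ku0} : @List.hasDecEq.{ku0} = @_root_.Cfsg.Agent.KOe8dd13a.k42.{ku0} := by delta _root_.Cfsg.Agent.KOe8dd13a.k42; funext a0 a1 a2 a3; refine (congrFun (_root_.Cfsg.Agent.KOe8dd13a.e3 (fun a2 a3 => @List.hasDecEq.{ku0} a0 a1 a2 a3) ?_ (fun c0 c1 => ?_) a2) a3 :) <;> [(funext b0; (cases b0 with | @nil  => (rfl') | @cons b0_0 b0_1 => (rfl'))); (funext b0; (cases b0 with | @nil  => (rfl') | @cons b0_0 b0_1 => (rfl')))]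
private noncomputable def _root_.Cfsg.Agent.KOe8dd13a.k43.{ku0} : ((x0 : Sort (ku0+1)) → ((@DecidableEq.{(ku0+1)} @x0) → @DecidableEq.{(ku0+1)} (@List.{ku0} @x0))) := @(fun (x0 : Sort (ku0+1)) (x1 : @DecidableEq.{(ku0+1)} @x0) (x2 : @List.{ku0} @x0) (x3 : @List.{ku0} @x0) => @List.rec.{1, ku0} @x0 @(fun (x4 : @List.{ku0} @x0) => @Decidable (@Eq.{(ku0+1)} (@List.{ku0} @x0) @x4 @x3)) (@List.rec.{1, ku0} @x0 @(fun (x4 : @List.{ku0} @x0) => @Decidable (@Eq.{(ku0+1)} (@List.{ku0} @x0) (@List.nil.{ku0} @x0) @x4)) (@Decidable.isTrue (@Eq.{(ku0+1)} (@List.{ku0} @x0) (@List.nil.{ku0} @x0) (@List.nil.{ku0} @x0)) (@List.hasDecEq._proof_1.{ku0} @x0)) @(fun (x4 : x0) (x5 : @List.{ku0} @x0) (x6 : @Decidable (@Eq.{(ku0+1)} (@List.{ku0} @x0) (@List.nil.{ku0} @x0) @x5)) => @Decidable.isFalse (@Eq.{(ku0+1)} (@List.{ku0} @x0) (@List.nil.{ku0} @x0) (@List.cons.{ku0} @x0 @x4 @x5)) (@List.hasDecEq._proof_3.{ku0}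 @x0 @x4 @x5)) @x3) @(fun (x4 : x0) (x5 : @List.{ku0} @x0) (x6 : @Decidable (@Eq.{(ku0+1)} (@List.{ku0} @x0) @x5 @x3)) => @List.rec.{1, ku0} @x0 @(fun (x7 : @List.{ku0} @x0) => @Decidable (@Eq.{(ku0+1)} (@List.{ku0} @x0) (@List.cons.{ku0} @x0 @x4 @x5) @x7)) (@Decidable.isFalse (@Eq.{(ku0+1)} (@List.{ku0} @x0) (@List.cons.{ku0} @x0 @x4 @x5) (@List.nil.{ku0} @x0)) (@List.hasDecEq._proof_2.{ku0} @x0 @x4 @x5)) @(fun (x7 : x0) (x8 : @List.{ku0} @x0) (x9 : @Decidable (@Eq.{(ku0+1)} (@List.{ku0} @x0) (@List.cons.{ku0} @x0 @x4 @x5) @x8)) => @Decidable.rec.{1} (@Eq.{(ku0+1)} @x0 @x4 @x7) @(fun (x10 : @Decidable (@Eq.{(ku0+1)} @x0 @x4 @x7)) => @Decidable (@Eq.{(ku0+1)} (@List.{ku0} @x0) (@List.cons.{ku0} @x0 @x4 @x5) (@List.cons.{ku0} @x0 @x7 @x8))) @(fun (x10 : @Not (@Eq.{(ku0+1)} @x0 @x4 @x7)) => @Decidable.isFalse (@Eq.{(ku0+1)} (@List.{ku0} @x0) (@List.cons.{ku0} @x0 @x4 @x5) (@List.cons.{ku0}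 @x0 @x7 @x8)) (@List.hasDecEq._proof_6.{ku0} @x0 @x4 @x5 @x7 @x8 @x10)) @(fun (x10 : @Eq.{(ku0+1)} @x0 @x4 @x7) => @Decidable.rec.{1} (@Eq.{(ku0+1)} (@List.{ku0} @x0) @x5 @x8) @(fun (x11 : @Decidable (@Eq.{(ku0+1)} (@List.{ku0} @x0) @x5 @x8)) => @Decidable (@Eq.{(ku0+1)} (@List.{ku0} @x0) (@List.cons.{ku0} @x0 @x4 @x5) (@List.cons.{ku0} @x0 @x7 @x8))) @(fun (x11 : @Not (@Eq.{(ku0+1)} (@List.{ku0} @x0) @x5 @x8)) => @Decidable.isFalse (@Eq.{(ku0+1)} (@List.{ku0} @x0) (@List.cons.{ku0} @x0 @x4 @x5) (@List.cons.{ku0} @x0 @x7 @x8)) (@List.hasDecEq._proof_5.{ku0} @x0 @x4 @x5 @x7 @x8 @x11)) @(fun (x11 : @Eq.{(ku0+1)} (@List.{ku0} @x0) @x5 @x8) => @Decidable.isTrue (@Eq.{(ku0+1)} (@List.{ku0} @x0) (@List.cons.{ku0} @x0 @x4 @x5) (@List.cons.{ku0} @x0 @x7 @x8)) (@List.hasDecEq._proof_4.{ku0} @x0 @x4 @x5 @x7 @x8 @x10 @x11)) (@Cfsg.Agent.KOe8dd13a.k42.{ku0} @x0 @x1 @x5 @x8)) (@x1 @x4 @x7)) @x3) @x2)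
private theorem _root_.Cfsg.Agent.KOe8dd13a.e43.{ku0} : @instDecidableEqList.{ku0} = @_root_.Cfsg.Agent.KOe8dd13a.k43.{ku0} := by delta _root_.Cfsg.Agent.KOe8dd13a.k43; rewrite [← Cfsg.Agent.KOe8dd13a.e42.{ku0}]; rfl'
private noncomputable def _root_.Cfsg.Agent.KOe8dd13a.k48.{ku0} : ((x0 : Sort (ku0+1)) → ((@List.{ku0} @x0) → (@Nat → @Option.{ku0} @x0))) := @(fun (x0 : Sort (ku0+1)) (x1 : @List.{ku0} @x0) (x2 : @Nat) => @List.rec.{(ku0+1), ku0} @x0 @(fun (x3 : @List.{ku0} @x0) => (@Nat → @Option.{ku0} @x0)) @(fun (x3 : @Nat) => @Option.none.{ku0} @x0) @(fun (x3 : x0) (x4 : @List.{ku0} @x0) (x5 : (@Nat → @Option.{ku0} @x0)) (x6 : @Nat) => @Nat.rec.{(ku0+1)} @(fun (x7 : @Nat) => @Option.{ku0} @x0) (@Option.some.{ku0} @x0 @x3) @(fun (x7 : @Nat) (x8 : @Option.{ku0} @x0) => @x5 @x7) @x6) @x1 @x2)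
private theorem _root_.Cfsg.Agent.KOe8dd13a.e48.{ku0} : @List.get?Internal.{ku0} = @_root_.Cfsg.Agent.KOe8dd13a.k48.{ku0} := by delta _root_.Cfsg.Agent.KOe8dd13a.k48; funext a0 a1 a2; refine (congrFun (_root_.Cfsg.Agent.KOe8dd13a.e3 (fun a1 a2 => @List.get?Internal.{ku0} a0 a1 a2) ?_ (fun c0 c1 => ?_) a1) a2 :) <;> [(funext b0; (rfl')); (funext b0; (cases b0 with | @zero  => (rfl') | @succ b0_0 => (rfl')))]
private noncomputable def _root_.Cfsg.Agent.KOe8dd13a.k49 : (by first | exact type_of% @Cfsg.Agent.ChevalleyStructure.TwistedE6Sigma.rho | exact Unit : Sort _) := by first | (refine @Subtype.val _ (fun g => @Cfsg.Agent.ChevalleyStructure.TwistedE6Sigma.rho = @g) (@Subtype.mk _ _ (@(fun (x0 : @Nat) => @Option.rec.{1, 0} @Nat @(fun (x1 : @Option.{0} @Nat) => @Nat) (nat_lit 0) @(fun (x1 : @Nat) => x1) (@Cfsg.Agent.KOe8dd13a.k48.{0} @Nat (@Cfsg.Agent.ChevalleyStructure.SignedSymm.Tables.rho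 @Cfsg.Agent.ChevalleyStructure.GraphSymm.tablesE6) @x0))) ?_); rewrite [← Cfsg.Agent.KOe8dd13a.e48.{0}]; (try delta Cfsg.Agent.ChevalleyStructure.TwistedE6Sigma.rho); (try generalize @Cfsg.Agent.ChevalleyStructure.GraphSymm.tablesE6 = g0); rfl') | exact @Cfsg.Agent.ChevalleyStructure.TwistedE6Sigma.rho | exact ()
private theorem _root_.Cfsg.Agent.KOe8dd13a.e49 : (by first | exact @Cfsg.Agent.ChevalleyStructure.TwistedE6Sigma.rho = @_root_.Cfsg.Agent.KOe8dd13a.k49 | exact True : Prop) := by first | (delta _root_.Cfsg.Agent.KOe8dd13a.k49; exact @Subtype.property _ (fun g => @Cfsg.Agent.ChevalleyStructure.TwistedE6Sigma.rho = @g) _) | rfl | trivial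
private noncomputable def _root_.Cfsg.Agent.KOe8dd13a.k50.{ku0} : ((x0 : Sort (ku0+1)) → ((@List.{ku0} @x0) → ((@List.{ku0} @x0) → @List.{ku0} @x0))) := @(fun (x0 : Sort (ku0+1)) (x1 : @List.{ku0} @x0) (x2 : @List.{ku0} @x0) => @List.rec.{(ku0+1), ku0} @x0 @(fun (x3 : @List.{ku0} @x0) => ((@List.{ku0} @x0) → @List.{ku0} @x0)) @(fun (x3 : @List.{ku0} @x0) => x3) @(fun (x3 : x0) (x4 : @List.{ku0} @x0) (x5 : ((@List.{ku0} @x0) → @List.{ku0} @x0)) (x6 : @List.{ku0} @x0) => @x5 (@List.cons.{ku0} @x0 @x3 @x6)) @x1 @x2)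
private theorem _root_.Cfsg.Agent.KOe8dd13a.e50.{ku0} : @List.reverseAux.{ku0} = @_root_.Cfsg.Agent.KOe8dd13a.k50.{ku0} := by delta _root_.Cfsg.Agent.KOe8dd13a.k50; funext a0 a1 a2; refine (congrFun (_root_.Cfsg.Agent.KOe8dd13a.e3 (fun a1 a2 => @List.reverseAux.{ku0} a0 a1 a2) ?_ (fun c0 c1 => ?_) a1) a2 :) <;> (rfl')
private noncomputable def _root_.Cfsg.Agent.KOe8dd13a.k52.{ku0} : ((x0 : Sort (ku0+1)) → ((@List.{ku0} @x0) → ((@List.{ku0} @x0) → (@Nat → ((@List.{ku0} @x0) → @Prod.{ku0, ku0} (@List.{ku0} @x0) (@List.{ku0} @x0)))))) := @(fun (x0 : Sort (ku0+1)) (x1 : @List.{ku0} @x0) (x2 : @List.{ku0} @x0) (x3 : @Nat) (x4 : @List.{ku0} @x0) => @List.rec.{(ku0+1), ku0} @x0 @(fun (x5 : @List.{ku0} @x0) => (@Nat → ((@List.{ku0} @x0) → @Prod.{ku0, ku0} (@List.{ku0} @x0) (@List.{ku0} @x0)))) @(fun (x5 : @Nat) (x6 : @List.{ku0} @x0) => @Prod.mk.{ku0, ku0} (@List.{ku0} @x0) (@List.{ku0} @x0) @x1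 (@List.nil.{ku0} @x0)) @(fun (x5 : x0) (x6 : @List.{ku0} @x0) (x7 : (@Nat → ((@List.{ku0} @x0) → @Prod.{ku0, ku0} (@List.{ku0} @x0) (@List.{ku0} @x0)))) (x8 : @Nat) (x9 : @List.{ku0} @x0) => @Nat.rec.{(ku0+1)} @(fun (x10 : @Nat) => @Prod.{ku0, ku0} (@List.{ku0} @x0) (@List.{ku0} @x0)) (@Prod.mk.{ku0, ku0} (@List.{ku0} @x0) (@List.{ku0} @x0) (@Cfsg.Agent.KOe8dd13a.k50.{ku0} @x0 @x9 (@List.nil.{ku0} @x0)) (@List.cons.{ku0} @x0 @x5 @x6)) @(fun (x10 : @Nat) (x11 : @Prod.{ku0, ku0} (@List.{ku0} @x0) (@List.{ku0} @x0)) => @x7 @x10 (@List.cons.{ku0} @x0 @x5 @x9)) @x8) @x2 @x3 @x4)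
private theorem _root_.Cfsg.Agent.KOe8dd13a.e52.{ku0} : @List.splitAt.go.{ku0} = @_root_.Cfsg.Agent.KOe8dd13a.k52.{ku0} := by delta _root_.Cfsg.Agent.KOe8dd13a.k52; rewrite [← Cfsg.Agent.KOe8dd13a.e50.{ku0}]; funext a0 a1 a2 a3 a4; refine (congrFun (congrFun (_root_.Cfsg.Agent.KOe8dd13a.e3 (fun a2 a3 a4 => @List.splitAt.go.{ku0} a0 a1 a2 a3 a4) ?_ (fun c0 c1 => ?_) a2) a3) a4 :) <;> [(funext b0 b1; (rfl')); (funext b0 b1; (cases b0 with | @zero  => (rfl') | @succ b0_0 => (rfl')))]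
private noncomputable def _root_.Cfsg.Agent.KOe8dd13a.k53.{ku0} : ((x0 : Sort (ku0+1)) → ((@List.{ku0} @x0) → @Nat)) := @(fun (x0 : Sort (ku0+1)) (x1 : @List.{ku0} @x0) => @List.rec.{1, ku0} @x0 @(fun (x2 : @List.{ku0} @x0) => @Nat) (nat_lit 0) @(fun (x2 : x0) (x3 : @List.{ku0} @x0) (x4 : @Nat) => @Nat.add @x4 (nat_lit 1)) @x1)
private theorem _root_.Cfsg.Agent.KOe8dd13a.e53.{ku0} : @List.length.{ku0} = @_root_.Cfsg.Agent.KOe8dd13a.k53.{ku0} := by delta _root_.Cfsg.Agent.KOe8dd13a.k53; funext a0 a1; refine (_root_.Cfsg.Agent.KOe8dd13a.e3 (fun a1 => @List.length.{ku0} a0 a1) ?_ (fun c0 c1 => ?_) a1 :) <;> (rfl')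
private noncomputable def _root_.Cfsg.Agent.KOe8dd13a.k54.{ku0} : ((x0 : Sort (ku0+1)) → ((@List.{ku0} @x0) → (@Nat → @List.{ku0} @x0))) := @(fun (x0 : Sort (ku0+1)) (x1 : @List.{ku0} @x0) (x2 : @Nat) => @Prod.rec.{(ku0+1), ku0, ku0} (@List.{ku0} @x0) (@List.{ku0} @x0) @(fun (x3 : @Prod.{ku0, ku0} (@List.{ku0} @x0) (@List.{ku0} @x0)) => @List.{ku0} @x0) @(fun (x3 : @List.{ku0} @x0) (x4 : @List.{ku0} @x0) => @Cfsg.Agent.KOe8dd13a.k8.{ku0} @x0 @x4 @x3) (@Cfsg.Agent.KOe8dd13a.k52.{ku0} @x0 @x1 @x1 (@Nat.mod @x2 (@Cfsg.Agent.KOe8dd13a.k53.{ku0} @x0 @x1)) (@List.nil.{ku0} @x0)))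
private theorem _root_.Cfsg.Agent.KOe8dd13a.e54.{ku0} : @List.rotate.{ku0} = @_root_.Cfsg.Agent.KOe8dd13a.k54.{ku0} := by delta _root_.Cfsg.Agent.KOe8dd13a.k54; rewrite [← Cfsg.Agent.KOe8dd13a.e53.{ku0}, ← Cfsg.Agent.KOe8dd13a.e52.{ku0}, ← Cfsg.Agent.KOe8dd13a.e8.{ku0}]; rfl'
private noncomputable def _root_.Cfsg.Agent.KOe8dd13a.k55 : (by first | exact type_of% @Cfsg.Agent.ChevalleyStructure.TwistedE6Sigma.eps | exact Unit : Sort _) := by first | (refine @Subtype.val _ (fun g => @Cfsg.Agent.ChevalleyStructure.TwistedE6Sigma.eps = @g) (@Subtype.mk _ _ (@(fun (x0 : @Nat) => @Option.rec.{1, 0} @Int @(fun (x1 : @Option.{0} @Int) => @Int) (@Int.ofNat (nat_lit 0)) @(fun (x1 : @Int) => x1) (@Cfsg.Agent.KOe8dd13a.k48.{0} @Int (@Cfsg.Agent.ChevalleyStructure.SignedSymm.Tables.eps @Cfsg.Agent.ChevalleyStructure.GraphSymm.tablesE6) @x0))) ?_); rewrite [← Cfsg.Agent.KOe8dd13a.e48.{0}]; (try delta Cfsg.Agent.ChevalleyStructure.TwistedE6Sigma.eps);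 (try generalize @Cfsg.Agent.ChevalleyStructure.GraphSymm.tablesE6 = g0); rfl') | exact @Cfsg.Agent.ChevalleyStructure.TwistedE6Sigma.eps | exact ()
private theorem _root_.Cfsg.Agent.KOe8dd13a.e55 : (by first | exact @Cfsg.Agent.ChevalleyStructure.TwistedE6Sigma.eps = @_root_.Cfsg.Agent.KOe8dd13a.k55 | exact True : Prop) := by first | (delta _root_.Cfsg.Agent.KOe8dd13a.k55; exact @Subtype.property _ (fun g => @Cfsg.Agent.ChevalleyStructure.TwistedE6Sigma.eps = @g) _) | rfl | trivial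
private noncomputable def _root_.Cfsg.Agent.KOe8dd13a.k56 : (by first | exact type_of% @Cfsg.Agent.Nodes.RGDTwCoordE6.dl | exact Unit : Sort _) := by first | (refine @Subtype.val _ (fun g => @Cfsg.Agent.Nodes.RGDTwCoordE6.dl = @g) (@Subtype.mk _ _ (@(fun (x0 : @Nat) => @Decidable.rec.{1} (@Membership.mem.{0, 0} @Nat (@List.{0} @Nat) (@List.instMembership.{0} @Nat) (@List.cons.{0} @Nat (@OfNat.ofNat.{0} @Nat (nat_lit 7) (@instOfNatNat (nat_lit 7))) (@List.cons.{0} @Nat (@OfNat.ofNat.{0} @Nat (nat_lit 9) (@instOfNatNat (nat_lit 9))) (@List.cons.{0} @Nat (@OfNat.ofNat.{0} @Nat (nat_lit 12) (@instOfNatNat (nat_lit 12))) (@List.cons.{0} @Nat (@OfNat.ofNat.{0} @Nat (nat_lit 16) (@instOfNatNat (nat_lit 16))) (@List.cons.{0} @Nat (@OfNat.ofNat.{0} @Nat (nat_lit 22) (@instOfNatNat (nat_lit 22))) (@List.cons.{0} @Nat (@OfNat.ofNat.{0} @Nat (nat_lit 28) (@instOfNatNat (nat_lit 28))) (@List.cons.{0}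 @Nat (@OfNat.ofNat.{0} @Nat (nat_lit 33) (@instOfNatNat (nat_lit 33))) (@List.cons.{0} @Nat (@OfNat.ofNat.{0} @Nat (nat_lit 40) (@instOfNatNat (nat_lit 40))) (@List.cons.{0} @Nat (@OfNat.ofNat.{0} @Nat (nat_lit 45) (@instOfNatNat (nat_lit 45))) (@List.cons.{0} @Nat (@OfNat.ofNat.{0} @Nat (nat_lit 52) (@instOfNatNat (nat_lit 52))) (@List.cons.{0} @Nat (@OfNat.ofNat.{0} @Nat (nat_lit 54) (@instOfNatNat (nat_lit 54))) (@List.cons.{0} @Nat (@OfNat.ofNat.{0} @Nat (nat_lit 57) (@instOfNatNat (nat_lit 57))) (@List.cons.{0} @Nat (@OfNat.ofNat.{0} @Nat (nat_lit 61) (@instOfNatNat (nat_lit 61))) (@List.cons.{0} @Nat (@OfNat.ofNat.{0} @Nat (nat_lit 67) (@instOfNatNat (nat_lit 67))) (@List.nil.{0} @Nat))))))))))))))) @x0) @(fun (x1 : @Decidable (@Membership.mem.{0, 0} @Nat (@List.{0} @Nat) (@List.instMembership.{0} @Nat) (@List.cons.{0} @Nat (@OfNat.ofNat.{0} @Nat (nat_lit 7) (@instOfNatNat (nat_lit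 7))) (@List.cons.{0} @Nat (@OfNat.ofNat.{0} @Nat (nat_lit 9) (@instOfNatNat (nat_lit 9))) (@List.cons.{0} @Nat (@OfNat.ofNat.{0} @Nat (nat_lit 12) (@instOfNatNat (nat_lit 12))) (@List.cons.{0} @Nat (@OfNat.ofNat.{0} @Nat (nat_lit 16) (@instOfNatNat (nat_lit 16))) (@List.cons.{0} @Nat (@OfNat.ofNat.{0} @Nat (nat_lit 22) (@instOfNatNat (nat_lit 22))) (@List.cons.{0} @Nat (@OfNat.ofNat.{0} @Nat (nat_lit 28) (@instOfNatNat (nat_lit 28))) (@List.cons.{0} @Nat (@OfNat.ofNat.{0} @Nat (nat_lit 33) (@instOfNatNat (nat_lit 33))) (@List.cons.{0} @Nat (@OfNat.ofNat.{0} @Nat (nat_lit 40) (@instOfNatNat (nat_lit 40))) (@List.cons.{0} @Nat (@OfNat.ofNat.{0} @Nat (nat_lit 45) (@instOfNatNat (nat_lit 45))) (@List.cons.{0} @Nat (@OfNat.ofNat.{0} @Nat (nat_lit 52) (@instOfNatNat (nat_lit 52))) (@List.cons.{0} @Nat (@OfNat.ofNat.{0} @Nat (nat_lit 54) (@instOfNatNat (nat_lit 54))) (@List.cons.{0} @Nat (@OfNat.ofNat.{0}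 @Nat (nat_lit 57) (@instOfNatNat (nat_lit 57))) (@List.cons.{0} @Nat (@OfNat.ofNat.{0} @Nat (nat_lit 61) (@instOfNatNat (nat_lit 61))) (@List.cons.{0} @Nat (@OfNat.ofNat.{0} @Nat (nat_lit 67) (@instOfNatNat (nat_lit 67))) (@List.nil.{0} @Nat))))))))))))))) @x0)) => @Int) @(fun (x1 : @Not (@Membership.mem.{0, 0} @Nat (@List.{0} @Nat) (@List.instMembership.{0} @Nat) (@List.cons.{0} @Nat (@OfNat.ofNat.{0} @Nat (nat_lit 7) (@instOfNatNat (nat_lit 7))) (@List.cons.{0} @Nat (@OfNat.ofNat.{0} @Nat (nat_lit 9) (@instOfNatNat (nat_lit 9))) (@List.cons.{0} @Nat (@OfNat.ofNat.{0} @Nat (nat_lit 12) (@instOfNatNat (nat_lit 12))) (@List.cons.{0} @Nat (@OfNat.ofNat.{0} @Nat (nat_lit 16) (@instOfNatNat (nat_lit 16))) (@List.cons.{0} @Nat (@OfNat.ofNat.{0} @Nat (nat_lit 22) (@instOfNatNat (nat_lit 22))) (@List.cons.{0} @Nat (@OfNat.ofNat.{0} @Nat (nat_lit 28) (@instOfNatNat (nat_lit 28))) (@List.cons.{0}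 @Nat (@OfNat.ofNat.{0} @Nat (nat_lit 33) (@instOfNatNat (nat_lit 33))) (@List.cons.{0} @Nat (@OfNat.ofNat.{0} @Nat (nat_lit 40) (@instOfNatNat (nat_lit 40))) (@List.cons.{0} @Nat (@OfNat.ofNat.{0} @Nat (nat_lit 45) (@instOfNatNat (nat_lit 45))) (@List.cons.{0} @Nat (@OfNat.ofNat.{0} @Nat (nat_lit 52) (@instOfNatNat (nat_lit 52))) (@List.cons.{0} @Nat (@OfNat.ofNat.{0} @Nat (nat_lit 54) (@instOfNatNat (nat_lit 54))) (@List.cons.{0} @Nat (@OfNat.ofNat.{0} @Nat (nat_lit 57) (@instOfNatNat (nat_lit 57))) (@List.cons.{0} @Nat (@OfNat.ofNat.{0} @Nat (nat_lit 61) (@instOfNatNat (nat_lit 61))) (@List.cons.{0} @Nat (@OfNat.ofNat.{0} @Nat (nat_lit 67) (@instOfNatNat (nat_lit 67))) (@List.nil.{0} @Nat))))))))))))))) @x0)) => @Int.ofNat (nat_lit 1)) @(fun (x1 : @Membership.mem.{0, 0} @Nat (@List.{0} @Nat) (@List.instMembership.{0} @Nat) (@List.cons.{0} @Nat (@OfNat.ofNat.{0} @Nat (nat_lit 7) (@instOfNatNat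 (nat_lit 7))) (@List.cons.{0} @Nat (@OfNat.ofNat.{0} @Nat (nat_lit 9) (@instOfNatNat (nat_lit 9))) (@List.cons.{0} @Nat (@OfNat.ofNat.{0} @Nat (nat_lit 12) (@instOfNatNat (nat_lit 12))) (@List.cons.{0} @Nat (@OfNat.ofNat.{0} @Nat (nat_lit 16) (@instOfNatNat (nat_lit 16))) (@List.cons.{0} @Nat (@OfNat.ofNat.{0} @Nat (nat_lit 22) (@instOfNatNat (nat_lit 22))) (@List.cons.{0} @Nat (@OfNat.ofNat.{0} @Nat (nat_lit 28) (@instOfNatNat (nat_lit 28))) (@List.cons.{0} @Nat (@OfNat.ofNat.{0} @Nat (nat_lit 33) (@instOfNatNat (nat_lit 33))) (@List.cons.{0} @Nat (@OfNat.ofNat.{0} @Nat (nat_lit 40) (@instOfNatNat (nat_lit 40))) (@List.cons.{0} @Nat (@OfNat.ofNat.{0} @Nat (nat_lit 45) (@instOfNatNat (nat_lit 45))) (@List.cons.{0} @Nat (@OfNat.ofNat.{0} @Nat (nat_lit 52) (@instOfNatNat (nat_lit 52))) (@List.cons.{0} @Nat (@OfNat.ofNat.{0} @Nat (nat_lit 54) (@instOfNatNat (nat_lit 54))) (@List.cons.{0} @Nat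 (@OfNat.ofNat.{0} @Nat (nat_lit 57) (@instOfNatNat (nat_lit 57))) (@List.cons.{0} @Nat (@OfNat.ofNat.{0} @Nat (nat_lit 61) (@instOfNatNat (nat_lit 61))) (@List.cons.{0} @Nat (@OfNat.ofNat.{0} @Nat (nat_lit 67) (@instOfNatNat (nat_lit 67))) (@List.nil.{0} @Nat))))))))))))))) @x0) => @Nat.rec.{1} @(fun (x2 : @Nat) => @Int) (@Int.ofNat (nat_lit 0)) @(fun (x2 : @Nat) (x3 : @Int) => @Int.negSucc @x2) (nat_lit 1)) (@Decidable.rec.{1} (@Eq.{1} @Bool (@List.elem.{0} @Nat (@instBEqOfDecidableEq.{0} @Nat @instDecidableEqNat) @x0 (@List.cons.{0} @Nat (@OfNat.ofNat.{0} @Nat (nat_lit 7) (@instOfNatNat (nat_lit 7))) (@List.cons.{0} @Nat (@OfNat.ofNat.{0} @Nat (nat_lit 9) (@instOfNatNat (nat_lit 9))) (@List.cons.{0} @Nat (@OfNat.ofNat.{0} @Nat (nat_lit 12) (@instOfNatNat (nat_lit 12))) (@List.cons.{0} @Nat (@OfNat.ofNat.{0} @Nat (nat_lit 16) (@instOfNatNat (nat_lit 16))) (@List.cons.{0} @Nat (@OfNat.ofNat.{0}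 @Nat (nat_lit 22) (@instOfNatNat (nat_lit 22))) (@List.cons.{0} @Nat (@OfNat.ofNat.{0} @Nat (nat_lit 28) (@instOfNatNat (nat_lit 28))) (@List.cons.{0} @Nat (@OfNat.ofNat.{0} @Nat (nat_lit 33) (@instOfNatNat (nat_lit 33))) (@List.cons.{0} @Nat (@OfNat.ofNat.{0} @Nat (nat_lit 40) (@instOfNatNat (nat_lit 40))) (@List.cons.{0} @Nat (@OfNat.ofNat.{0} @Nat (nat_lit 45) (@instOfNatNat (nat_lit 45))) (@List.cons.{0} @Nat (@OfNat.ofNat.{0} @Nat (nat_lit 52) (@instOfNatNat (nat_lit 52))) (@List.cons.{0} @Nat (@OfNat.ofNat.{0} @Nat (nat_lit 54) (@instOfNatNat (nat_lit 54))) (@List.cons.{0} @Nat (@OfNat.ofNat.{0} @Nat (nat_lit 57) (@instOfNatNat (nat_lit 57))) (@List.cons.{0} @Nat (@OfNat.ofNat.{0} @Nat (nat_lit 61) (@instOfNatNat (nat_lit 61))) (@List.cons.{0} @Nat (@OfNat.ofNat.{0} @Nat (nat_lit 67) (@instOfNatNat (nat_lit 67))) (@List.nil.{0} @Nat)))))))))))))))) @Bool.true) @(fun (x1 : @Decidable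 (@Eq.{1} @Bool (@List.elem.{0} @Nat (@instBEqOfDecidableEq.{0} @Nat @instDecidableEqNat) @x0 (@List.cons.{0} @Nat (@OfNat.ofNat.{0} @Nat (nat_lit 7) (@instOfNatNat (nat_lit 7))) (@List.cons.{0} @Nat (@OfNat.ofNat.{0} @Nat (nat_lit 9) (@instOfNatNat (nat_lit 9))) (@List.cons.{0} @Nat (@OfNat.ofNat.{0} @Nat (nat_lit 12) (@instOfNatNat (nat_lit 12))) (@List.cons.{0} @Nat (@OfNat.ofNat.{0} @Nat (nat_lit 16) (@instOfNatNat (nat_lit 16))) (@List.cons.{0} @Nat (@OfNat.ofNat.{0} @Nat (nat_lit 22) (@instOfNatNat (nat_lit 22))) (@List.cons.{0} @Nat (@OfNat.ofNat.{0} @Nat (nat_lit 28) (@instOfNatNat (nat_lit 28))) (@List.cons.{0} @Nat (@OfNat.ofNat.{0} @Nat (nat_lit 33) (@instOfNatNat (nat_lit 33))) (@List.cons.{0} @Nat (@OfNat.ofNat.{0} @Nat (nat_lit 40) (@instOfNatNat (nat_lit 40))) (@List.cons.{0} @Nat (@OfNat.ofNat.{0} @Nat (nat_lit 45) (@instOfNatNat (nat_lit 45))) (@List.cons.{0} @Nat (@OfNat.ofNat.{0}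 @Nat (nat_lit 52) (@instOfNatNat (nat_lit 52))) (@List.cons.{0} @Nat (@OfNat.ofNat.{0} @Nat (nat_lit 54) (@instOfNatNat (nat_lit 54))) (@List.cons.{0} @Nat (@OfNat.ofNat.{0} @Nat (nat_lit 57) (@instOfNatNat (nat_lit 57))) (@List.cons.{0} @Nat (@OfNat.ofNat.{0} @Nat (nat_lit 61) (@instOfNatNat (nat_lit 61))) (@List.cons.{0} @Nat (@OfNat.ofNat.{0} @Nat (nat_lit 67) (@instOfNatNat (nat_lit 67))) (@List.nil.{0} @Nat)))))))))))))))) @Bool.true)) => @Decidable (@Membership.mem.{0, 0} @Nat (@List.{0} @Nat) (@List.instMembership.{0} @Nat) (@List.cons.{0} @Nat (@OfNat.ofNat.{0} @Nat (nat_lit 7) (@instOfNatNat (nat_lit 7))) (@List.cons.{0} @Nat (@OfNat.ofNat.{0} @Nat (nat_lit 9) (@instOfNatNat (nat_lit 9))) (@List.cons.{0} @Nat (@OfNat.ofNat.{0} @Nat (nat_lit 12) (@instOfNatNat (nat_lit 12))) (@List.cons.{0} @Nat (@OfNat.ofNat.{0} @Nat (nat_lit 16) (@instOfNatNat (nat_lit 16))) (@List.cons.{0} @Nat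 (@OfNat.ofNat.{0} @Nat (nat_lit 22) (@instOfNatNat (nat_lit 22))) (@List.cons.{0} @Nat (@OfNat.ofNat.{0} @Nat (nat_lit 28) (@instOfNatNat (nat_lit 28))) (@List.cons.{0} @Nat (@OfNat.ofNat.{0} @Nat (nat_lit 33) (@instOfNatNat (nat_lit 33))) (@List.cons.{0} @Nat (@OfNat.ofNat.{0} @Nat (nat_lit 40) (@instOfNatNat (nat_lit 40))) (@List.cons.{0} @Nat (@OfNat.ofNat.{0} @Nat (nat_lit 45) (@instOfNatNat (nat_lit 45))) (@List.cons.{0} @Nat (@OfNat.ofNat.{0} @Nat (nat_lit 52) (@instOfNatNat (nat_lit 52))) (@List.cons.{0} @Nat (@OfNat.ofNat.{0} @Nat (nat_lit 54) (@instOfNatNat (nat_lit 54))) (@List.cons.{0} @Nat (@OfNat.ofNat.{0} @Nat (nat_lit 57) (@instOfNatNat (nat_lit 57))) (@List.cons.{0} @Nat (@OfNat.ofNat.{0} @Nat (nat_lit 61) (@instOfNatNat (nat_lit 61))) (@List.cons.{0} @Nat (@OfNat.ofNat.{0} @Nat (nat_lit 67) (@instOfNatNat (nat_lit 67))) (@List.nil.{0} @Nat))))))))))))))) @x0)) @(fun (x1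 : @Not (@Eq.{1} @Bool (@List.elem.{0} @Nat (@instBEqOfDecidableEq.{0} @Nat @instDecidableEqNat) @x0 (@List.cons.{0} @Nat (@OfNat.ofNat.{0} @Nat (nat_lit 7) (@instOfNatNat (nat_lit 7))) (@List.cons.{0} @Nat (@OfNat.ofNat.{0} @Nat (nat_lit 9) (@instOfNatNat (nat_lit 9))) (@List.cons.{0} @Nat (@OfNat.ofNat.{0} @Nat (nat_lit 12) (@instOfNatNat (nat_lit 12))) (@List.cons.{0} @Nat (@OfNat.ofNat.{0} @Nat (nat_lit 16) (@instOfNatNat (nat_lit 16))) (@List.cons.{0} @Nat (@OfNat.ofNat.{0} @Nat (nat_lit 22) (@instOfNatNat (nat_lit 22))) (@List.cons.{0} @Nat (@OfNat.ofNat.{0} @Nat (nat_lit 28) (@instOfNatNat (nat_lit 28))) (@List.cons.{0} @Nat (@OfNat.ofNat.{0} @Nat (nat_lit 33) (@instOfNatNat (nat_lit 33))) (@List.cons.{0} @Nat (@OfNat.ofNat.{0} @Nat (nat_lit 40) (@instOfNatNat (nat_lit 40))) (@List.cons.{0} @Nat (@OfNat.ofNat.{0} @Nat (nat_lit 45) (@instOfNatNat (nat_lit 45))) (@List.cons.{0} @Nat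 (@OfNat.ofNat.{0} @Nat (nat_lit 52) (@instOfNatNat (nat_lit 52))) (@List.cons.{0} @Nat (@OfNat.ofNat.{0} @Nat (nat_lit 54) (@instOfNatNat (nat_lit 54))) (@List.cons.{0} @Nat (@OfNat.ofNat.{0} @Nat (nat_lit 57) (@instOfNatNat (nat_lit 57))) (@List.cons.{0} @Nat (@OfNat.ofNat.{0} @Nat (nat_lit 61) (@instOfNatNat (nat_lit 61))) (@List.cons.{0} @Nat (@OfNat.ofNat.{0} @Nat (nat_lit 67) (@instOfNatNat (nat_lit 67))) (@List.nil.{0} @Nat)))))))))))))))) @Bool.true)) => @Decidable.isFalse (@Membership.mem.{0, 0} @Nat (@List.{0} @Nat) (@List.instMembership.{0} @Nat) (@List.cons.{0} @Nat (@OfNat.ofNat.{0} @Nat (nat_lit 7) (@instOfNatNat (nat_lit 7))) (@List.cons.{0} @Nat (@OfNat.ofNat.{0} @Nat (nat_lit 9) (@instOfNatNat (nat_lit 9))) (@List.cons.{0} @Nat (@OfNat.ofNat.{0} @Nat (nat_lit 12) (@instOfNatNat (nat_lit 12))) (@List.cons.{0} @Nat (@OfNat.ofNat.{0} @Nat (nat_lit 16) (@instOfNatNat (nat_lit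 16))) (@List.cons.{0} @Nat (@OfNat.ofNat.{0} @Nat (nat_lit 22) (@instOfNatNat (nat_lit 22))) (@List.cons.{0} @Nat (@OfNat.ofNat.{0} @Nat (nat_lit 28) (@instOfNatNat (nat_lit 28))) (@List.cons.{0} @Nat (@OfNat.ofNat.{0} @Nat (nat_lit 33) (@instOfNatNat (nat_lit 33))) (@List.cons.{0} @Nat (@OfNat.ofNat.{0} @Nat (nat_lit 40) (@instOfNatNat (nat_lit 40))) (@List.cons.{0} @Nat (@OfNat.ofNat.{0} @Nat (nat_lit 45) (@instOfNatNat (nat_lit 45))) (@List.cons.{0} @Nat (@OfNat.ofNat.{0} @Nat (nat_lit 52) (@instOfNatNat (nat_lit 52))) (@List.cons.{0} @Nat (@OfNat.ofNat.{0} @Nat (nat_lit 54) (@instOfNatNat (nat_lit 54))) (@List.cons.{0} @Nat (@OfNat.ofNat.{0} @Nat (nat_lit 57) (@instOfNatNat (nat_lit 57))) (@List.cons.{0} @Nat (@OfNat.ofNat.{0} @Nat (nat_lit 61) (@instOfNatNat (nat_lit 61))) (@List.cons.{0} @Nat (@OfNat.ofNat.{0} @Nat (nat_lit 67) (@instOfNatNat (nat_lit 67))) (@List.nil.{0} @Nat)))))))))))))))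 @x0) (@decidable_of_decidable_of_iff._proof_1 (@Eq.{1} @Bool (@List.elem.{0} @Nat (@instBEqOfDecidableEq.{0} @Nat @instDecidableEqNat) @x0 (@List.cons.{0} @Nat (@OfNat.ofNat.{0} @Nat (nat_lit 7) (@instOfNatNat (nat_lit 7))) (@List.cons.{0} @Nat (@OfNat.ofNat.{0} @Nat (nat_lit 9) (@instOfNatNat (nat_lit 9))) (@List.cons.{0} @Nat (@OfNat.ofNat.{0} @Nat (nat_lit 12) (@instOfNatNat (nat_lit 12))) (@List.cons.{0} @Nat (@OfNat.ofNat.{0} @Nat (nat_lit 16) (@instOfNatNat (nat_lit 16))) (@List.cons.{0} @Nat (@OfNat.ofNat.{0} @Nat (nat_lit 22) (@instOfNatNat (nat_lit 22))) (@List.cons.{0} @Nat (@OfNat.ofNat.{0} @Nat (nat_lit 28) (@instOfNatNat (nat_lit 28))) (@List.cons.{0} @Nat (@OfNat.ofNat.{0} @Nat (nat_lit 33) (@instOfNatNat (nat_lit 33))) (@List.cons.{0} @Nat (@OfNat.ofNat.{0} @Nat (nat_lit 40) (@instOfNatNat (nat_lit 40))) (@List.cons.{0} @Nat (@OfNat.ofNat.{0} @Nat (nat_lit 45) (@instOfNatNat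 (nat_lit 45))) (@List.cons.{0} @Nat (@OfNat.ofNat.{0} @Nat (nat_lit 52) (@instOfNatNat (nat_lit 52))) (@List.cons.{0} @Nat (@OfNat.ofNat.{0} @Nat (nat_lit 54) (@instOfNatNat (nat_lit 54))) (@List.cons.{0} @Nat (@OfNat.ofNat.{0} @Nat (nat_lit 57) (@instOfNatNat (nat_lit 57))) (@List.cons.{0} @Nat (@OfNat.ofNat.{0} @Nat (nat_lit 61) (@instOfNatNat (nat_lit 61))) (@List.cons.{0} @Nat (@OfNat.ofNat.{0} @Nat (nat_lit 67) (@instOfNatNat (nat_lit 67))) (@List.nil.{0} @Nat)))))))))))))))) @Bool.true) (@Membership.mem.{0, 0} @Nat (@List.{0} @Nat) (@List.instMembership.{0} @Nat) (@List.cons.{0} @Nat (@OfNat.ofNat.{0} @Nat (nat_lit 7) (@instOfNatNat (nat_lit 7))) (@List.cons.{0} @Nat (@OfNat.ofNat.{0} @Nat (nat_lit 9) (@instOfNatNat (nat_lit 9))) (@List.cons.{0} @Nat (@OfNat.ofNat.{0} @Nat (nat_lit 12) (@instOfNatNat (nat_lit 12))) (@List.cons.{0} @Nat (@OfNat.ofNat.{0} @Nat (nat_lit 16) (@instOfNatNat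 (nat_lit 16))) (@List.cons.{0} @Nat (@OfNat.ofNat.{0} @Nat (nat_lit 22) (@instOfNatNat (nat_lit 22))) (@List.cons.{0} @Nat (@OfNat.ofNat.{0} @Nat (nat_lit 28) (@instOfNatNat (nat_lit 28))) (@List.cons.{0} @Nat (@OfNat.ofNat.{0} @Nat (nat_lit 33) (@instOfNatNat (nat_lit 33))) (@List.cons.{0} @Nat (@OfNat.ofNat.{0} @Nat (nat_lit 40) (@instOfNatNat (nat_lit 40))) (@List.cons.{0} @Nat (@OfNat.ofNat.{0} @Nat (nat_lit 45) (@instOfNatNat (nat_lit 45))) (@List.cons.{0} @Nat (@OfNat.ofNat.{0} @Nat (nat_lit 52) (@instOfNatNat (nat_lit 52))) (@List.cons.{0} @Nat (@OfNat.ofNat.{0} @Nat (nat_lit 54) (@instOfNatNat (nat_lit 54))) (@List.cons.{0} @Nat (@OfNat.ofNat.{0} @Nat (nat_lit 57) (@instOfNatNat (nat_lit 57))) (@List.cons.{0} @Nat (@OfNat.ofNat.{0} @Nat (nat_lit 61) (@instOfNatNat (nat_lit 61))) (@List.cons.{0} @Nat (@OfNat.ofNat.{0} @Nat (nat_lit 67) (@instOfNatNat (nat_lit 67))) (@List.nil.{0}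 @Nat))))))))))))))) @x0) (@List.instDecidableMemOfLawfulBEq._proof_1.{0} @Nat (@instBEqOfDecidableEq.{0} @Nat @instDecidableEqNat) @Nat.instLawfulBEq @x0 (@List.cons.{0} @Nat (@OfNat.ofNat.{0} @Nat (nat_lit 7) (@instOfNatNat (nat_lit 7))) (@List.cons.{0} @Nat (@OfNat.ofNat.{0} @Nat (nat_lit 9) (@instOfNatNat (nat_lit 9))) (@List.cons.{0} @Nat (@OfNat.ofNat.{0} @Nat (nat_lit 12) (@instOfNatNat (nat_lit 12))) (@List.cons.{0} @Nat (@OfNat.ofNat.{0} @Nat (nat_lit 16) (@instOfNatNat (nat_lit 16))) (@List.cons.{0} @Nat (@OfNat.ofNat.{0} @Nat (nat_lit 22) (@instOfNatNat (nat_lit 22))) (@List.cons.{0} @Nat (@OfNat.ofNat.{0} @Nat (nat_lit 28) (@instOfNatNat (nat_lit 28))) (@List.cons.{0} @Nat (@OfNat.ofNat.{0} @Nat (nat_lit 33) (@instOfNatNat (nat_lit 33))) (@List.cons.{0} @Nat (@OfNat.ofNat.{0} @Nat (nat_lit 40) (@instOfNatNat (nat_lit 40))) (@List.cons.{0} @Nat (@OfNat.ofNat.{0} @Nat (nat_lit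 45) (@instOfNatNat (nat_lit 45))) (@List.cons.{0} @Nat (@OfNat.ofNat.{0} @Nat (nat_lit 52) (@instOfNatNat (nat_lit 52))) (@List.cons.{0} @Nat (@OfNat.ofNat.{0} @Nat (nat_lit 54) (@instOfNatNat (nat_lit 54))) (@List.cons.{0} @Nat (@OfNat.ofNat.{0} @Nat (nat_lit 57) (@instOfNatNat (nat_lit 57))) (@List.cons.{0} @Nat (@OfNat.ofNat.{0} @Nat (nat_lit 61) (@instOfNatNat (nat_lit 61))) (@List.cons.{0} @Nat (@OfNat.ofNat.{0} @Nat (nat_lit 67) (@instOfNatNat (nat_lit 67))) (@List.nil.{0} @Nat)))))))))))))))) @x1)) @(fun (x1 : @Eq.{1} @Bool (@List.elem.{0} @Nat (@instBEqOfDecidableEq.{0} @Nat @instDecidableEqNat) @x0 (@List.cons.{0} @Nat (@OfNat.ofNat.{0} @Nat (nat_lit 7) (@instOfNatNat (nat_lit 7))) (@List.cons.{0} @Nat (@OfNat.ofNat.{0} @Nat (nat_lit 9) (@instOfNatNat (nat_lit 9))) (@List.cons.{0} @Nat (@OfNat.ofNat.{0} @Nat (nat_lit 12) (@instOfNatNat (nat_lit 12))) (@List.cons.{0} @Nat (@OfNat.ofNat.{0}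 @Nat (nat_lit 16) (@instOfNatNat (nat_lit 16))) (@List.cons.{0} @Nat (@OfNat.ofNat.{0} @Nat (nat_lit 22) (@instOfNatNat (nat_lit 22))) (@List.cons.{0} @Nat (@OfNat.ofNat.{0} @Nat (nat_lit 28) (@instOfNatNat (nat_lit 28))) (@List.cons.{0} @Nat (@OfNat.ofNat.{0} @Nat (nat_lit 33) (@instOfNatNat (nat_lit 33))) (@List.cons.{0} @Nat (@OfNat.ofNat.{0} @Nat (nat_lit 40) (@instOfNatNat (nat_lit 40))) (@List.cons.{0} @Nat (@OfNat.ofNat.{0} @Nat (nat_lit 45) (@instOfNatNat (nat_lit 45))) (@List.cons.{0} @Nat (@OfNat.ofNat.{0} @Nat (nat_lit 52) (@instOfNatNat (nat_lit 52))) (@List.cons.{0} @Nat (@OfNat.ofNat.{0} @Nat (nat_lit 54) (@instOfNatNat (nat_lit 54))) (@List.cons.{0} @Nat (@OfNat.ofNat.{0} @Nat (nat_lit 57) (@instOfNatNat (nat_lit 57))) (@List.cons.{0} @Nat (@OfNat.ofNat.{0} @Nat (nat_lit 61) (@instOfNatNat (nat_lit 61))) (@List.cons.{0} @Nat (@OfNat.ofNat.{0} @Nat (nat_lit 67) (@instOfNatNat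 (nat_lit 67))) (@List.nil.{0} @Nat)))))))))))))))) @Bool.true) => @Decidable.isTrue (@Membership.mem.{0, 0} @Nat (@List.{0} @Nat) (@List.instMembership.{0} @Nat) (@List.cons.{0} @Nat (@OfNat.ofNat.{0} @Nat (nat_lit 7) (@instOfNatNat (nat_lit 7))) (@List.cons.{0} @Nat (@OfNat.ofNat.{0} @Nat (nat_lit 9) (@instOfNatNat (nat_lit 9))) (@List.cons.{0} @Nat (@OfNat.ofNat.{0} @Nat (nat_lit 12) (@instOfNatNat (nat_lit 12))) (@List.cons.{0} @Nat (@OfNat.ofNat.{0} @Nat (nat_lit 16) (@instOfNatNat (nat_lit 16))) (@List.cons.{0} @Nat (@OfNat.ofNat.{0} @Nat (nat_lit 22) (@instOfNatNat (nat_lit 22))) (@List.cons.{0} @Nat (@OfNat.ofNat.{0} @Nat (nat_lit 28) (@instOfNatNat (nat_lit 28))) (@List.cons.{0} @Nat (@OfNat.ofNat.{0} @Nat (nat_lit 33) (@instOfNatNat (nat_lit 33))) (@List.cons.{0} @Nat (@OfNat.ofNat.{0} @Nat (nat_lit 40) (@instOfNatNat (nat_lit 40))) (@List.cons.{0} @Nat (@OfNat.ofNat.{0} @Nat (nat_lit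 45) (@instOfNatNat (nat_lit 45))) (@List.cons.{0} @Nat (@OfNat.ofNat.{0} @Nat (nat_lit 52) (@instOfNatNat (nat_lit 52))) (@List.cons.{0} @Nat (@OfNat.ofNat.{0} @Nat (nat_lit 54) (@instOfNatNat (nat_lit 54))) (@List.cons.{0} @Nat (@OfNat.ofNat.{0} @Nat (nat_lit 57) (@instOfNatNat (nat_lit 57))) (@List.cons.{0} @Nat (@OfNat.ofNat.{0} @Nat (nat_lit 61) (@instOfNatNat (nat_lit 61))) (@List.cons.{0} @Nat (@OfNat.ofNat.{0} @Nat (nat_lit 67) (@instOfNatNat (nat_lit 67))) (@List.nil.{0} @Nat))))))))))))))) @x0) (@Iff.mp (@Eq.{1} @Bool (@List.elem.{0} @Nat (@instBEqOfDecidableEq.{0} @Nat @instDecidableEqNat) @x0 (@List.cons.{0} @Nat (@OfNat.ofNat.{0} @Nat (nat_lit 7) (@instOfNatNat (nat_lit 7))) (@List.cons.{0} @Nat (@OfNat.ofNat.{0} @Nat (nat_lit 9) (@instOfNatNat (nat_lit 9))) (@List.cons.{0} @Nat (@OfNat.ofNat.{0} @Nat (nat_lit 12) (@instOfNatNat (nat_lit 12))) (@List.cons.{0} @Nat (@OfNat.ofNat.{0}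 @Nat (nat_lit 16) (@instOfNatNat (nat_lit 16))) (@List.cons.{0} @Nat (@OfNat.ofNat.{0} @Nat (nat_lit 22) (@instOfNatNat (nat_lit 22))) (@List.cons.{0} @Nat (@OfNat.ofNat.{0} @Nat (nat_lit 28) (@instOfNatNat (nat_lit 28))) (@List.cons.{0} @Nat (@OfNat.ofNat.{0} @Nat (nat_lit 33) (@instOfNatNat (nat_lit 33))) (@List.cons.{0} @Nat (@OfNat.ofNat.{0} @Nat (nat_lit 40) (@instOfNatNat (nat_lit 40))) (@List.cons.{0} @Nat (@OfNat.ofNat.{0} @Nat (nat_lit 45) (@instOfNatNat (nat_lit 45))) (@List.cons.{0} @Nat (@OfNat.ofNat.{0} @Nat (nat_lit 52) (@instOfNatNat (nat_lit 52))) (@List.cons.{0} @Nat (@OfNat.ofNat.{0} @Nat (nat_lit 54) (@instOfNatNat (nat_lit 54))) (@List.cons.{0} @Nat (@OfNat.ofNat.{0} @Nat (nat_lit 57) (@instOfNatNat (nat_lit 57))) (@List.cons.{0} @Nat (@OfNat.ofNat.{0} @Nat (nat_lit 61) (@instOfNatNat (nat_lit 61))) (@List.cons.{0} @Nat (@OfNat.ofNat.{0} @Nat (nat_lit 67) (@instOfNatNat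 (nat_lit 67))) (@List.nil.{0} @Nat)))))))))))))))) @Bool.true) (@Membership.mem.{0, 0} @Nat (@List.{0} @Nat) (@List.instMembership.{0} @Nat) (@List.cons.{0} @Nat (@OfNat.ofNat.{0} @Nat (nat_lit 7) (@instOfNatNat (nat_lit 7))) (@List.cons.{0} @Nat (@OfNat.ofNat.{0} @Nat (nat_lit 9) (@instOfNatNat (nat_lit 9))) (@List.cons.{0} @Nat (@OfNat.ofNat.{0} @Nat (nat_lit 12) (@instOfNatNat (nat_lit 12))) (@List.cons.{0} @Nat (@OfNat.ofNat.{0} @Nat (nat_lit 16) (@instOfNatNat (nat_lit 16))) (@List.cons.{0} @Nat (@OfNat.ofNat.{0} @Nat (nat_lit 22) (@instOfNatNat (nat_lit 22))) (@List.cons.{0} @Nat (@OfNat.ofNat.{0} @Nat (nat_lit 28) (@instOfNatNat (nat_lit 28))) (@List.cons.{0} @Nat (@OfNat.ofNat.{0} @Nat (nat_lit 33) (@instOfNatNat (nat_lit 33))) (@List.cons.{0} @Nat (@OfNat.ofNat.{0} @Nat (nat_lit 40) (@instOfNatNat (nat_lit 40))) (@List.cons.{0} @Nat (@OfNat.ofNat.{0} @Nat (nat_lit 45) (@instOfNatNat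 (nat_lit 45))) (@List.cons.{0} @Nat (@OfNat.ofNat.{0} @Nat (nat_lit 52) (@instOfNatNat (nat_lit 52))) (@List.cons.{0} @Nat (@OfNat.ofNat.{0} @Nat (nat_lit 54) (@instOfNatNat (nat_lit 54))) (@List.cons.{0} @Nat (@OfNat.ofNat.{0} @Nat (nat_lit 57) (@instOfNatNat (nat_lit 57))) (@List.cons.{0} @Nat (@OfNat.ofNat.{0} @Nat (nat_lit 61) (@instOfNatNat (nat_lit 61))) (@List.cons.{0} @Nat (@OfNat.ofNat.{0} @Nat (nat_lit 67) (@instOfNatNat (nat_lit 67))) (@List.nil.{0} @Nat))))))))))))))) @x0) (@List.instDecidableMemOfLawfulBEq._proof_1.{0} @Nat (@instBEqOfDecidableEq.{0} @Nat @instDecidableEqNat) @Nat.instLawfulBEq @x0 (@List.cons.{0} @Nat (@OfNat.ofNat.{0} @Nat (nat_lit 7) (@instOfNatNat (nat_lit 7))) (@List.cons.{0} @Nat (@OfNat.ofNat.{0} @Nat (nat_lit 9) (@instOfNatNat (nat_lit 9))) (@List.cons.{0} @Nat (@OfNat.ofNat.{0} @Nat (nat_lit 12) (@instOfNatNat (nat_lit 12))) (@List.cons.{0} @Nat (@OfNat.ofNat.{0}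 @Nat (nat_lit 16) (@instOfNatNat (nat_lit 16))) (@List.cons.{0} @Nat (@OfNat.ofNat.{0} @Nat (nat_lit 22) (@instOfNatNat (nat_lit 22))) (@List.cons.{0} @Nat (@OfNat.ofNat.{0} @Nat (nat_lit 28) (@instOfNatNat (nat_lit 28))) (@List.cons.{0} @Nat (@OfNat.ofNat.{0} @Nat (nat_lit 33) (@instOfNatNat (nat_lit 33))) (@List.cons.{0} @Nat (@OfNat.ofNat.{0} @Nat (nat_lit 40) (@instOfNatNat (nat_lit 40))) (@List.cons.{0} @Nat (@OfNat.ofNat.{0} @Nat (nat_lit 45) (@instOfNatNat (nat_lit 45))) (@List.cons.{0} @Nat (@OfNat.ofNat.{0} @Nat (nat_lit 52) (@instOfNatNat (nat_lit 52))) (@List.cons.{0} @Nat (@OfNat.ofNat.{0} @Nat (nat_lit 54) (@instOfNatNat (nat_lit 54))) (@List.cons.{0} @Nat (@OfNat.ofNat.{0} @Nat (nat_lit 57) (@instOfNatNat (nat_lit 57))) (@List.cons.{0} @Nat (@OfNat.ofNat.{0} @Nat (nat_lit 61) (@instOfNatNat (nat_lit 61))) (@List.cons.{0} @Nat (@OfNat.ofNat.{0} @Nat (nat_lit 67) (@instOfNatNat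 (nat_lit 67))) (@List.nil.{0} @Nat)))))))))))))))) @x1)) (@Cfsg.Agent.KOe8dd13a.k2 (@List.elem.{0} @Nat (@BEq.mk.{0} @Nat @(fun (x1 : @Nat) (x2 : @Nat) => @Cfsg.Agent.KOe8dd13a.oEq.{1} @Bool @x1 @x2 @Bool.false @Bool.true)) @x0 (@List.cons.{0} @Nat (nat_lit 7) (@List.cons.{0} @Nat (nat_lit 9) (@List.cons.{0} @Nat (nat_lit 12) (@List.cons.{0} @Nat (nat_lit 16) (@List.cons.{0} @Nat (nat_lit 22) (@List.cons.{0} @Nat (nat_lit 28) (@List.cons.{0} @Nat (nat_lit 33) (@List.cons.{0} @Nat (nat_lit 40) (@List.cons.{0} @Nat (nat_lit 45) (@List.cons.{0} @Nat (nat_lit 52) (@List.cons.{0} @Nat (nat_lit 54) (@List.cons.{0} @Nat (nat_lit 57) (@List.cons.{0} @Nat (nat_lit 61) (@List.cons.{0} @Nat (nat_lit 67) (@List.nil.{0} @Nat)))))))))))))))) @Bool.true)))) ?_); rewrite [← Cfsg.Agent.KOe8dd13a.e2]; rfl') | exact @Cfsg.Agent.Nodes.RGDTwCoordE6.dl | exact ()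
private theorem _root_.Cfsg.Agent.KOe8dd13a.e56 : (by first | exact @Cfsg.Agent.Nodes.RGDTwCoordE6.dl = @_root_.Cfsg.Agent.KOe8dd13a.k56 | exact True : Prop) := by first | (delta _root_.Cfsg.Agent.KOe8dd13a.k56; exact @Subtype.property _ (fun g => @Cfsg.Agent.Nodes.RGDTwCoordE6.dl = @g) _) | rfl | trivial

private noncomputable def _root_.Cfsg.Agent.LsF.fd7de34_0 : {f // @Cfsg.Agent.Nodes.RGDTwE6.J = f} := ⟨_, by first | (delta Cfsg.Agent.Nodes.RGDTwE6.J; rewrite [Cfsg.Agent.LsF.vecCons_eq]; exact rfl) | exact rfl⟩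
private noncomputable def _root_.Cfsg.Agent.LsF.fd7de34_1 : {f // @Cfsg.Agent.ChevalleyStructure.RootVecTab.dig = f} := ⟨_, by first | (delta Cfsg.Agent.ChevalleyStructure.RootVecTab.dig; rewrite [Cfsg.Agent.LsF.nmul_pat]; exact rfl) | exact rfl⟩
private noncomputable def _root_.Cfsg.Agent.LsF.fd7de34_2 : {f // @Cfsg.Agent.ChevalleyStructure.RootVecTab.packTab = f} := ⟨_, by first | (delta Cfsg.Agent.ChevalleyStructure.RootVecTab.packTab; rewrite [Cfsg.Agent.LsF.instDecEq_eq, Cfsg.Agent.LsF.ite_eq]; exact rfl) | exact rfl⟩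
private noncomputable def _root_.Cfsg.Agent.LsF.fd7de34_3 : {f // @Cfsg.Agent.ChevalleyStructure.RootVecTab.code = f} := ⟨_, by first | (delta Cfsg.Agent.ChevalleyStructure.RootVecTab.code; rewrite [Cfsg.Agent.LsF.fd7de34_2.2, Cfsg.Agent.LsF.nmul_pat, Cfsg.Agent.LsF.npow_pat]; exact rfl) | exact rfl⟩
private noncomputable def _root_.Cfsg.Agent.LsF.fd7de34_4 : {f // @Cfsg.Agent.ChevalleyStructure.RootVec.rt = f} := ⟨_, by first | (delta Cfsg.Agent.ChevalleyStructure.RootVec.rt; rewrite [Cfsg.Agent.LsF.fd7de34_1.2, Cfsg.Agent.LsF.fd7de34_3.2, Cfsg.Agent.LsF.nsub_pat, Cfsg.Agent.LsF.isub_pat, Cfsg.Agent.LsF.icast_pat, Cfsg.Agent.LsF.decLt_eq, Cfsg.Agent.LsF.dAnd_eq, Cfsg.Agent.LsF.ite_eq]; exact rfl) | exact rfl⟩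
private noncomputable def _root_.Cfsg.Agent.LsF.fd7de34_5 : {f // @Cfsg.Agent.Nodes.RGDFold.V = f} := ⟨_, by first | (delta Cfsg.Agent.Nodes.RGDFold.V; rewrite [Cfsg.Agent.LsF.fd7de34_4.2, Cfsg.Agent.LsF.map_eq, Cfsg.Agent.LsF.sum_eq, Cfsg.Agent.LsF.instIAdd_eq]; exact rfl) | exact rfl⟩
private noncomputable def _root_.Cfsg.Agent.LsF.fd7de34_6 : {f // @Cfsg.Agent.Nodes.RGDTwCoord.cl = f} := ⟨_, by first | (delta Cfsg.Agent.Nodes.RGDTwCoord.cl; rewrite [Cfsg.Agent.LsF.fd7de34_5.2, Cfsg.Agent.LsF.finFintype_eq, Cfsg.Agent.LsF.dPi_eq, Cfsg.Agent.LsF.find?_eq, Cfsg.Agent.LsF.headD_eq, Cfsg.Agent.LsF.ogetD_eq, Cfsg.Agent.LsF.instIDecEq_eq, Cfsg.Agent.LsF.decide_eq]; exact rfl) | exact rfl⟩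
private noncomputable def _root_.Cfsg.Agent.LsF.fd7de34_7 : {f // @Cfsg.Lie.ChevalleyDatum.simple = f} := ⟨_, by first | (delta Cfsg.Lie.ChevalleyDatum.simple; rewrite [Cfsg.Agent.LsF.agetD_eq]; exact rfl) | exact rfl⟩
private noncomputable def _root_.Cfsg.Agent.LsF.fd7de34_8 : {f // @Cfsg.Agent.ChevFast.dz = f} := ⟨_, by first | (delta Cfsg.Agent.ChevFast.dz; rewrite [Cfsg.Agent.LsF.cond_eq]; exact rfl) | exact rfl⟩
private noncomputable def _root_.Cfsg.Agent.LsF.fd7de34_9 : {f // @Cfsg.Agent.ChevFast.gz = f} := ⟨_, by first | (delta Cfsg.Agent.ChevFast.gz; rewrite [Cfsg.Agent.LsF.fd7de34_8.2]; exact rfl) | exact rfl⟩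
private noncomputable def _root_.Cfsg.Agent.LsF.fd7de34_10 : {f // @Nat.pred = f} := ⟨_, by first | (delta Nat.pred; (try delta Nat.pow.match_1); (try delta Nat.casesOn); exact rfl) | exact rfl⟩
private noncomputable def _root_.Cfsg.Agent.LsF.fd7de34_11 : {f // @Cfsg.Agent.ChevFast.ix = f} := ⟨_, by first | (delta Cfsg.Agent.ChevFast.ix; rewrite [Cfsg.Agent.LsF.fd7de34_10.2]; exact rfl) | exact rfl⟩
private noncomputable def _root_.Cfsg.Agent.LsF.fd7de34_12 : {f // @Cfsg.Agent.ChevFast.sg = f} := ⟨_, by first | (delta Cfsg.Agent.ChevFast.sg; rewrite [Cfsg.Agent.LsF.cond_eq]; exact rfl) | exact rfl⟩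
private noncomputable def _root_.Cfsg.Agent.LsF.fd7de34_13 : {f // @Cfsg.Agent.ChevFast.dc = f} := ⟨_, by first | (delta Cfsg.Agent.ChevFast.dc; rewrite [Cfsg.Agent.LsF.fd7de34_11.2, Cfsg.Agent.LsF.fd7de34_12.2, Cfsg.Agent.LsF.cond_eq]; exact rfl) | exact rfl⟩
private noncomputable def _root_.Cfsg.Agent.LsF.fd7de34_14 : {f // @Cfsg.Agent.ChevFast.ceT = f} := ⟨_, by first | (delta Cfsg.Agent.ChevFast.ceT; rewrite [Cfsg.Agent.LsF.fd7de34_13.2]; exact rfl) | exact rfl⟩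
private noncomputable def _root_.Cfsg.Agent.LsF.fd7de34_15 : {f // @Cfsg.Agent.Nodes.RGDFold.refl = f} := ⟨_, by first | (delta Cfsg.Agent.Nodes.RGDFold.refl Function.update Pi.single Cfsg.Agent.Tits.Roots.sr Cfsg.Agent.ChevalleyStructure.CoxeterGeom.pairing; rewrite [Cfsg.Agent.LsF.imul_pat, Cfsg.Agent.LsF.finFintype_eq, Cfsg.Agent.LsF.fsum_eq, Cfsg.Agent.LsF.iACM_eq, Cfsg.Agent.LsF.instISub_eq, Cfsg.Agent.LsF.dFinEq_eq, Cfsg.Agent.LsF.dite_eq]; exact rfl) | exact rfl⟩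
private noncomputable def _root_.Cfsg.Agent.LsF.fd7de34_16 : {f // @Cfsg.Agent.Nodes.RGDTwE6.A = f} := ⟨_, by first | (delta Cfsg.Agent.Nodes.RGDTwE6.A; rewrite [Cfsg.Agent.LsF.ineg_pat, Cfsg.Agent.LsF.vecCons_eq]; exact rfl) | exact rfl⟩
theorem clData : ClData chevE6 J A TwistedE6U.L TwistedE6Sigma.rho TwistedE6Sigma.eps dl O dgE6 where
  dgOK := dgOK_E6
  cover := by decide +kernel
  lt := by decide +kernel
  ne := by decide +kernel
  cls := by (refine of_decide_eq_true ?_; rewrite [Cfsg.Agent.KOe8dd13a.e0, Cfsg.Agent.KOe8dd13a.e10.{0}, Cfsg.Agent.KOe8dd13a.e1, Cfsg.Agent.KOe8dd13a.e11, Cfsg.Agent.KOe8dd13a.e20.{0, 0}, Cfsg.Agent.KOe8dd13a.e22, Cfsg.Agent.KOe8dd13a.e33, Cfsg.Agent.KOe8dd13a.e40.{0}, Cfsg.Agent.KOe8dd13a.e5.{0}]; ((try (delta Cfsg.Agent.KOe8dd13a.k5; rewrite [Cfsg.Agent.LsF.fd7de34_0.2, Cfsg.Agent.LsF.finFintype_eq])); decide +kernel))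
  cl_eq := by (refine of_decide_eq_true ?_; (try (rewrite [Cfsg.Agent.LsF.fd7de34_6.2, Cfsg.Agent.LsF.fd7de34_0.2, Cfsg.Agent.LsF.fd7de34_5.2, Cfsg.Agent.LsF.instDecEq_eq, Cfsg.Agent.LsF.headD_eq, Cfsg.Agent.LsF.dBAll_eq, Cfsg.Agent.LsF.dListEq_eq, Cfsg.Agent.LsF.decide_eq])); decide +kernel)
  nodup := by decide +kernel
  rot := by (first | (refine of_decide_eq_true ?_; rewrite [Cfsg.Agent.KOe8dd13a.e0, Cfsg.Agent.KOe8dd13a.e10.{0}, Cfsg.Agent.KOe8dd13a.e43.{0}, Cfsg.Agent.KOe8dd13a.e7, Cfsg.Agent.KOe8dd13a.e25.{0, 0}, Cfsg.Agent.KOe8dd13a.e49, Cfsg.Agent.KOe8dd13a.e54.{0}]; decide +kernel) | decide +kernel)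
  comm := by decide +kernel
  dsq := by decide +kernel
  deps := by (first | (refine of_decide_eq_true ?_; rewrite [Cfsg.Agent.KOe8dd13a.e0, Cfsg.Agent.KOe8dd13a.e1, Cfsg.Agent.KOe8dd13a.e22, Cfsg.Agent.KOe8dd13a.e55, Cfsg.Agent.KOe8dd13a.e56, Cfsg.Agent.KOe8dd13a.e49]; decide +kernel) | decide +kernel)
  perm := by (delta Cfsg.Agent.Nodes.RGDFold.wp Cfsg.Lie.ChevalleyDatum.chainRoot Cfsg.Lie.ChevalleyDatum.reflectRoot; rewrite [Cfsg.Agent.ChevFast.E6.cartan, Cfsg.Agent.ChevFast.E6.chainEntry, Cfsg.Agent.ChevFast.E6.neg]; (refine of_decide_eq_true ?_; (try (delta Option.map; rewrite [Cfsg.Agent.LsF.fd7de34_7.2, Cfsg.Agent.LsF.fd7de34_9.2, Cfsg.Agent.LsF.fd7de34_14.2, Cfsg.Agent.LsF.fd7de34_0.2, Cfsg.Agent.LsF.fd7de34_6.2, Cfsg.Agent.LsF.fd7de34_15.2, Cfsg.Agent.LsF.fd7de34_16.2, Cfsg.Agent.LsF.fd7de34_5.2, Cfsg.Agent.LsF.nsub_pat, Cfsg.Agent.LsF.ineg_pat, Cfsg.Agent.LsF.instDecEq_eq, Cfsg.Agent.LsF.map_eq,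 Cfsg.Agent.LsF.foldr_eq, Cfsg.Agent.LsF.instGetElem?_eq, Cfsg.Agent.LsF.headD_eq, Cfsg.Agent.LsF.ogetD_eq, Cfsg.Agent.LsF.toNat_eq, Cfsg.Agent.LsF.idecLt_eq, Cfsg.Agent.LsF.dBAll_eq, Cfsg.Agent.LsF.dForallFin_eq, Cfsg.Agent.LsF.dPerm_eq, Cfsg.Agent.LsF.ite_eq, Cfsg.Agent.LsF.decide_eq])); decide +kernel))
  baseL := by decide +kernel
  baseF := by decide +kernel

/-- The relative roots. -/
def vtab : List (ℤ × ℤ × ℤ × ℤ) := [(-2, -3, -4, -2), (-1, -3, -4, -2), (-1, -2, -4, -2), (-1, -2, -3, -2),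
  (-1, -2, -3, -1), (-1, -2, -2, -2), (-1, -2, -2, -1), (-1, -1, -2, -2), (-1, -2, -2, 0), (-1, -1, -2, -1),
  (0, -1, -2, -2), (-1, -1, -2, 0), (-1, -1, -1, -1), (0, -1, -2, -1), (-1, -1, -1, 0), (0, -1, -2, 0),
  (0, -1, -1, -1), (-1, -1, 0, 0), (0, -1, -1, 0), (0, 0, -1, -1), (-1, 0, 0, 0), (0, -1, 0, 0), (0, 0, -1, 0),
  (0, 0, 0, -1), (0, 0, 0, 1), (0, 0, 1, 0), (0, 1, 0, 0), (1, 0, 0, 0), (0, 0, 1, 1), (0, 1, 1, 0), (1, 1, 0, 0),
  (0, 1, 1, 1), (0, 1, 2, 0), (1, 1, 1, 0), (0, 1, 2, 1), (1, 1, 1, 1), (1, 1, 2, 0), (0, 1, 2, 2), (1, 1, 2, 1),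
  (1, 2, 2, 0), (1, 1, 2, 2), (1, 2, 2, 1), (1, 2, 2, 2), (1, 2, 3, 1), (1, 2, 3, 2), (1, 2, 4, 2), (1, 3, 4, 2),
  (2, 3, 4, 2)]

/-- The quadratic form, `4` for the long roots and `2` for the short roots. -/
def Q4 (v : ℤ × ℤ × ℤ × ℤ) : ℤ :=
  4 * v.1 * v.1 + 4 * v.2.1 * v.2.1 + 2 * v.2.2.1 * v.2.2.1 + 2 * v.2.2.2 * v.2.2.2 - 4 * v.1 * v.2.1 -
    4 * v.2.1 * v.2.2.1 - 2 * v.2.2.1 * v.2.2.2

/-- The quadratic form, `4` for the long roots and `2` for the short roots. -/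
def Qv (z : Fin 4 → ℤ) : ℤ := Q4 (z 0, z 1, z 2, z 3)

private theorem _root_.Cfsg.Agent.KOe8dd13a.e34.{ku} {M : Nat → Sort ku} (φ : ∀ n, M n) {z : M Nat.zero} {s : ∀ n, M n → M (Nat.succ n)} (h0 : φ Nat.zero = z) (hs : ∀ n, φ (Nat.succ n) = s n (φ n)) (n : Nat) : φ n = @Nat.rec M z s n := Nat.rec h0 (fun n ih => (hs n).trans (congrArg (s n) ih)) n
private noncomputable def _root_.Cfsg.Agent.KOe8dd13a.k35.{ku0} : ((x0 : @Nat) → ((x1 : ((@Fin (@HAdd.hAdd.{0, 0, 0} @Nat @Nat @Nat (@instHAdd.{0} @Nat @instAddNat) @x0 (@OfNat.ofNat.{0} @Nat (nat_lit 1) (@instOfNatNat (nat_lit 1))))) → Sort ku0)) → ((@x1 (@OfNat.ofNat.{0} (@Fin (@HAdd.hAdd.{0, 0, 0} @Nat @Nat @Nat (@instHAdd.{0} @Nat @instAddNat) @x0 (@OfNat.ofNat.{0} @Nat (nat_lit 1) (@instOfNatNat (nat_lit 1))))) (nat_lit 0) (@Fin.instOfNat (@HAdd.hAdd.{0, 0, 0} @Nat @Nat @Nat (@instHAdd.{0} @Nat @instAddNat) @x0 (@OfNat.ofNat.{0} @Nat (nat_lit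 1) (@instOfNatNat (nat_lit 1)))) (@instNeZeroNatHAdd_1 @x0 (@OfNat.ofNat.{0} @Nat (nat_lit 1) (@instOfNatNat (nat_lit 1))) (@Nat.instNeZeroSucc (@OfNat.ofNat.{0} @Nat (nat_lit 0) (@instOfNatNat (nat_lit 0))))) (nat_lit 0)))) → (((x3 : @Fin @x0) → ((@x1 (@Fin.castSucc @x0 @x3)) → @x1 (@Fin.succ @x0 @x3))) → ((x4 : @Nat) → ((x5 : @LT.lt.{0} @Nat @instLTNat @x4 (@HAdd.hAdd.{0, 0, 0} @Nat @Nat @Nat (@instHAdd.{0} @Nat @instAddNat) @x0 (@OfNat.ofNat.{0} @Nat (nat_lit 1) (@instOfNatNat (nat_lit 1))))) → @x1 (@Fin.mk (@HAdd.hAdd.{0, 0, 0} @Nat @Nat @Nat (@instHAdd.{0} @Nat @instAddNat) @x0 (@OfNat.ofNat.{0} @Nat (nat_lit 1) (@instOfNatNat (nat_lit 1)))) @x4 @x5))))))) := @(fun (x0 : @Nat) (x1 : ((@Fin (@HAdd.hAdd.{0, 0, 0} @Nat @Nat @Nat (@instHAdd.{0} @Nat @instAddNat) @x0 (@OfNat.ofNat.{0} @Nat (nat_lit 1) (@instOfNatNat (nat_lit 1))))) → Sort ku0)) (x2 : @x1 (@OfNat.ofNat.{0} (@Fin (@HAdd.hAdd.{0,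 0, 0} @Nat @Nat @Nat (@instHAdd.{0} @Nat @instAddNat) @x0 (@OfNat.ofNat.{0} @Nat (nat_lit 1) (@instOfNatNat (nat_lit 1))))) (nat_lit 0) (@Fin.instOfNat (@HAdd.hAdd.{0, 0, 0} @Nat @Nat @Nat (@instHAdd.{0} @Nat @instAddNat) @x0 (@OfNat.ofNat.{0} @Nat (nat_lit 1) (@instOfNatNat (nat_lit 1)))) (@Fin.succRec._proof_1 @x0) (nat_lit 0)))) (x3 : ((x3 : @Fin @x0) → ((@x1 (@Fin.castSucc @x0 @x3)) → @x1 (@Fin.succ @x0 @x3)))) (x4 : @Nat) (x5 : @LT.lt.{0} @Nat @instLTNat @x4 (@HAdd.hAdd.{0, 0, 0} @Nat @Nat @Nat (@instHAdd.{0} @Nat @instAddNat) @x0 (@OfNat.ofNat.{0} @Nat (nat_lit 1) (@instOfNatNat (nat_lit 1))))) => @Nat.rec.{ku0} @(fun (x6 : @Nat) => ((x7 : @LT.lt.{0} @Nat @instLTNat @x6 (@HAdd.hAdd.{0, 0, 0} @Nat @Nat @Nat (@instHAdd.{0} @Nat @instAddNat) @x0 (@OfNat.ofNat.{0} @Nat (nat_lit 1) (@instOfNatNat (nat_lit 1))))) → @x1 (@Fin.mk (@HAdd.hAdd.{0, 0, 0} @Nat @Nat @Nat (@instHAdd.{0} @Nat @instAddNat)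 @x0 (@OfNat.ofNat.{0} @Nat (nat_lit 1) (@instOfNatNat (nat_lit 1)))) @x6 @x7))) @(fun (x6 : @LT.lt.{0} @Nat @instLTNat @Nat.zero (@HAdd.hAdd.{0, 0, 0} @Nat @Nat @Nat (@instHAdd.{0} @Nat @instAddNat) @x0 (@OfNat.ofNat.{0} @Nat (nat_lit 1) (@instOfNatNat (nat_lit 1))))) => @Eq.rec.{ku0, (ku0+1)} (Sort ku0) (@x1 (@OfNat.ofNat.{0} (@Fin (@HAdd.hAdd.{0, 0, 0} @Nat @Nat @Nat (@instHAdd.{0} @Nat @instAddNat) @x0 (@OfNat.ofNat.{0} @Nat (nat_lit 1) (@instOfNatNat (nat_lit 1))))) (nat_lit 0) (@Fin.instOfNat (@HAdd.hAdd.{0, 0, 0} @Nat @Nat @Nat (@instHAdd.{0} @Nat @instAddNat) @x0 (@OfNat.ofNat.{0} @Nat (nat_lit 1) (@instOfNatNat (nat_lit 1)))) (@Fin.succRec._proof_1 @x0) (nat_lit 0)))) @(fun (x7 : Sort ku0) (x8 : @Eq.{(ku0+1)} (Sort ku0) (@x1 (@OfNat.ofNat.{0} (@Fin (@HAdd.hAdd.{0, 0, 0} @Nat @Nat @Nat (@instHAdd.{0} @Nat @instAddNat) @x0 (@OfNat.ofNat.{0} @Nat (nat_lit 1) (@instOfNatNat (nat_lit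 1))))) (nat_lit 0) (@Fin.instOfNat (@HAdd.hAdd.{0, 0, 0} @Nat @Nat @Nat (@instHAdd.{0} @Nat @instAddNat) @x0 (@OfNat.ofNat.{0} @Nat (nat_lit 1) (@instOfNatNat (nat_lit 1)))) (@Fin.succRec._proof_1 @x0) (nat_lit 0)))) @x7) => x7) @x2 (@x1 (@Fin.mk (@HAdd.hAdd.{0, 0, 0} @Nat @Nat @Nat (@instHAdd.{0} @Nat @instAddNat) @x0 (@OfNat.ofNat.{0} @Nat (nat_lit 1) (@instOfNatNat (nat_lit 1)))) (@OfNat.ofNat.{0} @Nat (nat_lit 0) (@instOfNatNat (nat_lit 0))) @x6)) (@Eq.symm.{(ku0+1)} (Sort ku0) (@x1 (@Fin.mk (@HAdd.hAdd.{0, 0, 0} @Nat @Nat @Nat (@instHAdd.{0} @Nat @instAddNat) @x0 (@OfNat.ofNat.{0} @Nat (nat_lit 1) (@instOfNatNat (nat_lit 1)))) (@OfNat.ofNat.{0} @Nat (nat_lit 0) (@instOfNatNat (nat_lit 0))) @x6)) (@x1 (@OfNat.ofNat.{0} (@Fin (@HAdd.hAdd.{0, 0, 0} @Nat @Nat @Nat (@instHAdd.{0} @Nat @instAddNat) @x0 (@OfNat.ofNat.{0} @Nat (nat_lit 1) (@instOfNatNat (nat_lit 1))))) (nat_lit 0) (@Fin.instOfNat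 (@HAdd.hAdd.{0, 0, 0} @Nat @Nat @Nat (@instHAdd.{0} @Nat @instAddNat) @x0 (@OfNat.ofNat.{0} @Nat (nat_lit 1) (@instOfNatNat (nat_lit 1)))) (@Fin.succRec._proof_1 @x0) (nat_lit 0)))) (@Fin.induction.go._proof_1.{ku0} @x0 @x1 @x6))) @(fun (x6 : @Nat) (x7 : ((x7 : @LT.lt.{0} @Nat @instLTNat @x6 (@HAdd.hAdd.{0, 0, 0} @Nat @Nat @Nat (@instHAdd.{0} @Nat @instAddNat) @x0 (@OfNat.ofNat.{0} @Nat (nat_lit 1) (@instOfNatNat (nat_lit 1))))) → @x1 (@Fin.mk (@HAdd.hAdd.{0, 0, 0} @Nat @Nat @Nat (@instHAdd.{0} @Nat @instAddNat) @x0 (@OfNat.ofNat.{0} @Nat (nat_lit 1) (@instOfNatNat (nat_lit 1)))) @x6 @x7))) (x8 : @LT.lt.{0} @Nat @instLTNat (@Nat.succ @x6) (@HAdd.hAdd.{0, 0, 0} @Nat @Nat @Nat (@instHAdd.{0} @Nat @instAddNat) @x0 (@OfNat.ofNat.{0} @Nat (nat_lit 1) (@instOfNatNat (nat_lit 1))))) => @x3 (@Fin.mk @x0 @x6 (@Nat.lt_of_succ_lt_succ @x6 @x0 @x8)) (@x7 (@Fin.induction.go._proof_2 @x0 @x6 @x8))) @x4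 @x5)
private theorem _root_.Cfsg.Agent.KOe8dd13a.e35.{ku0} : @Fin.induction.go.{ku0} = @_root_.Cfsg.Agent.KOe8dd13a.k35.{ku0} := by delta _root_.Cfsg.Agent.KOe8dd13a.k35; funext a0 a1 a2 a3 a4 a5; refine (congrFun (_root_.Cfsg.Agent.KOe8dd13a.e34 (fun a4 a5 => @Fin.induction.go.{ku0} a0 a1 a2 a3 a4 a5) ?_ (fun c0 => ?_) a4) a5 :) <;> (rfl')
private noncomputable def _root_.Cfsg.Agent.KOe8dd13a.k36.{ku0} : ((x0 : @Nat) → ((x1 : ((@Fin (@HAdd.hAdd.{0, 0, 0} @Nat @Nat @Nat (@instHAdd.{0} @Nat @instAddNat) @x0 (@OfNat.ofNat.{0} @Nat (nat_lit 1) (@instOfNatNat (nat_lit 1))))) → Sort ku0)) → ((@x1 (@OfNat.ofNat.{0} (@Fin (@HAdd.hAdd.{0, 0, 0} @Nat @Nat @Nat (@instHAdd.{0} @Nat @instAddNat) @x0 (@OfNat.ofNat.{0} @Nat (nat_lit 1) (@instOfNatNat (nat_lit 1))))) (nat_lit 0) (@Fin.instOfNat (@HAdd.hAdd.{0, 0, 0} @Nat @Nat @Nat (@instHAdd.{0} @Nat @instAddNat) @x0 (@OfNat.ofNat.{0} @Nat (nat_lit 1)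 (@instOfNatNat (nat_lit 1)))) (@instNeZeroNatHAdd_1 @x0 (@OfNat.ofNat.{0} @Nat (nat_lit 1) (@instOfNatNat (nat_lit 1))) (@Nat.instNeZeroSucc (@OfNat.ofNat.{0} @Nat (nat_lit 0) (@instOfNatNat (nat_lit 0))))) (nat_lit 0)))) → (((x3 : @Fin @x0) → ((@x1 (@Fin.castSucc @x0 @x3)) → @x1 (@Fin.succ @x0 @x3))) → ((x4 : @Fin (@HAdd.hAdd.{0, 0, 0} @Nat @Nat @Nat (@instHAdd.{0} @Nat @instAddNat) @x0 (@OfNat.ofNat.{0} @Nat (nat_lit 1) (@instOfNatNat (nat_lit 1))))) → @x1 @x4))))) := @(fun (x0 : @Nat) (x1 : ((@Fin (@HAdd.hAdd.{0, 0, 0} @Nat @Nat @Nat (@instHAdd.{0} @Nat @instAddNat) @x0 (@OfNat.ofNat.{0} @Nat (nat_lit 1) (@instOfNatNat (nat_lit 1))))) → Sort ku0)) (x2 : @x1 (@OfNat.ofNat.{0} (@Fin (@HAdd.hAdd.{0, 0, 0} @Nat @Nat @Nat (@instHAdd.{0} @Nat @instAddNat) @x0 (@OfNat.ofNat.{0} @Nat (nat_lit 1) (@instOfNatNat (nat_lit 1))))) (nat_lit 0) (@Fin.instOfNat (@HAdd.hAdd.{0, 0, 0} @Nat @Nat @Nat (@instHAdd.{0}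 @Nat @instAddNat) @x0 (@OfNat.ofNat.{0} @Nat (nat_lit 1) (@instOfNatNat (nat_lit 1)))) (@Fin.succRec._proof_1 @x0) (nat_lit 0)))) (x3 : ((x3 : @Fin @x0) → ((@x1 (@Fin.castSucc @x0 @x3)) → @x1 (@Fin.succ @x0 @x3)))) (x4 : @Fin (@HAdd.hAdd.{0, 0, 0} @Nat @Nat @Nat (@instHAdd.{0} @Nat @instAddNat) @x0 (@OfNat.ofNat.{0} @Nat (nat_lit 1) (@instOfNatNat (nat_lit 1))))) => @Fin.rec.{ku0} (@Nat.add @x0 (nat_lit 1)) @(fun (x5 : @Fin (@HAdd.hAdd.{0, 0, 0} @Nat @Nat @Nat (@instHAdd.{0} @Nat @instAddNat) @x0 (@OfNat.ofNat.{0} @Nat (nat_lit 1) (@instOfNatNat (nat_lit 1))))) => @x1 @x5) @(fun (x5 : @Nat) (x6 : @LT.lt.{0} @Nat @instLTNat @x5 (@HAdd.hAdd.{0, 0, 0} @Nat @Nat @Nat (@instHAdd.{0} @Nat @instAddNat) @x0 (@OfNat.ofNat.{0} @Nat (nat_lit 1) (@instOfNatNat (nat_lit 1))))) => @Cfsg.Agent.KOe8dd13a.k35.{ku0} @x0 @x1 @x2 @x3 @x5 @x6) @x4)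
private theorem _root_.Cfsg.Agent.KOe8dd13a.e36.{ku0} : @Fin.induction.{ku0} = @_root_.Cfsg.Agent.KOe8dd13a.k36.{ku0} := by delta _root_.Cfsg.Agent.KOe8dd13a.k36; rewrite [← Cfsg.Agent.KOe8dd13a.e35.{ku0}]; rfl'
private noncomputable def _root_.Cfsg.Agent.KOe8dd13a.k37.{ku0} : ((x0 : @Nat) → ((x1 : ((@Fin (@HAdd.hAdd.{0, 0, 0} @Nat @Nat @Nat (@instHAdd.{0} @Nat @instAddNat) @x0 (@OfNat.ofNat.{0} @Nat (nat_lit 1) (@instOfNatNat (nat_lit 1))))) → Sort ku0)) → ((@x1 (@OfNat.ofNat.{0} (@Fin (@HAdd.hAdd.{0, 0, 0} @Nat @Nat @Nat (@instHAdd.{0} @Nat @instAddNat) @x0 (@OfNat.ofNat.{0} @Nat (nat_lit 1) (@instOfNatNat (nat_lit 1))))) (nat_lit 0) (@Fin.instOfNat (@HAdd.hAdd.{0, 0, 0} @Nat @Nat @Nat (@instHAdd.{0} @Nat @instAddNat) @x0 (@OfNat.ofNat.{0} @Nat (nat_lit 1) (@instOfNatNat (nat_lit 1)))) (@instNeZeroNatHAdd_1 @x0 (@OfNat.ofNat.{0} @Nat (nat_lit 1) (@instOfNatNat (nat_lit 1))) (@Nat.instNeZeroSucc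 (@OfNat.ofNat.{0} @Nat (nat_lit 0) (@instOfNatNat (nat_lit 0))))) (nat_lit 0)))) → (((x3 : @Fin @x0) → @x1 (@Fin.succ @x0 @x3)) → ((x4 : @Fin (@HAdd.hAdd.{0, 0, 0} @Nat @Nat @Nat (@instHAdd.{0} @Nat @instAddNat) @x0 (@OfNat.ofNat.{0} @Nat (nat_lit 1) (@instOfNatNat (nat_lit 1))))) → @x1 @x4))))) := @(fun (x0 : @Nat) (x1 : ((@Fin (@HAdd.hAdd.{0, 0, 0} @Nat @Nat @Nat (@instHAdd.{0} @Nat @instAddNat) @x0 (@OfNat.ofNat.{0} @Nat (nat_lit 1) (@instOfNatNat (nat_lit 1))))) → Sort ku0)) (x2 : @x1 (@OfNat.ofNat.{0} (@Fin (@HAdd.hAdd.{0, 0, 0} @Nat @Nat @Nat (@instHAdd.{0} @Nat @instAddNat) @x0 (@OfNat.ofNat.{0} @Nat (nat_lit 1) (@instOfNatNat (nat_lit 1))))) (nat_lit 0) (@Fin.instOfNat (@HAdd.hAdd.{0, 0, 0} @Nat @Nat @Nat (@instHAdd.{0} @Nat @instAddNat) @x0 (@OfNat.ofNat.{0} @Nat (nat_lit 1) (@instOfNatNat (nat_lit 1)))) (@Fin.succRec._proof_1 @x0) (nat_lit 0)))) (x3 : ((x3 : @Fin @x0) → @x1 (@Fin.succ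 @x0 @x3))) (x4 : @Fin (@HAdd.hAdd.{0, 0, 0} @Nat @Nat @Nat (@instHAdd.{0} @Nat @instAddNat) @x0 (@OfNat.ofNat.{0} @Nat (nat_lit 1) (@instOfNatNat (nat_lit 1))))) => @Cfsg.Agent.KOe8dd13a.k36.{ku0} @x0 @(fun (x5 : @Fin (@HAdd.hAdd.{0, 0, 0} @Nat @Nat @Nat (@instHAdd.{0} @Nat @instAddNat) @x0 (@OfNat.ofNat.{0} @Nat (nat_lit 1) (@instOfNatNat (nat_lit 1))))) => @x1 @x5) @x2 @(fun (x5 : @Fin @x0) (x6 : @x1 (@Fin.castSucc @x0 @x5)) => @x3 @x5) @x4)
private theorem _root_.Cfsg.Agent.KOe8dd13a.e37.{ku0} : @Fin.cases.{ku0} = @_root_.Cfsg.Agent.KOe8dd13a.k37.{ku0} := by delta _root_.Cfsg.Agent.KOe8dd13a.k37; rewrite [← Cfsg.Agent.KOe8dd13a.e36.{ku0}]; rfl'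
private noncomputable def _root_.Cfsg.Agent.KOe8dd13a.k38.{ku0} : ((x0 : @Nat) → ((x1 : ((@Fin (@HAdd.hAdd.{0, 0, 0} @Nat @Nat @Nat (@instHAdd.{0} @Nat @instAddNat) @x0 (@OfNat.ofNat.{0} @Nat (nat_lit 1) (@instOfNatNat (nat_lit 1))))) → Sort ku0)) → ((@x1 (@OfNat.ofNat.{0} (@Fin (@HAdd.hAdd.{0, 0, 0} @Nat @Nat @Nat (@instHAdd.{0} @Nat @instAddNat) @x0 (@OfNat.ofNat.{0} @Nat (nat_lit 1) (@instOfNatNat (nat_lit 1))))) (nat_lit 0) (@Fin.instOfNat (@HAdd.hAdd.{0, 0, 0} @Nat @Nat @Nat (@instHAdd.{0} @Nat @instAddNat) @x0 (@OfNat.ofNat.{0} @Nat (nat_lit 1) (@instOfNatNat (nat_lit 1)))) (@instNeZeroNatHAdd_1 @x0 (@OfNat.ofNat.{0} @Nat (nat_lit 1) (@instOfNatNat (nat_lit 1))) (@Nat.instNeZeroSucc (@OfNat.ofNat.{0} @Nat (nat_lit 0) (@instOfNatNat (nat_lit 0))))) (nat_lit 0)))) → (((x3 : @Fin @x0) → @x1 (@Fin.succ @x0 @x3)) → ((x4 : @Fin (@HAdd.hAdd.{0, 0, 0} @Nat @Nat @Nat (@instHAdd.{0} @Nat @instAddNat)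 @x0 (@OfNat.ofNat.{0} @Nat (nat_lit 1) (@instOfNatNat (nat_lit 1))))) → @x1 @x4))))) := @(fun (x0 : @Nat) (x1 : ((@Fin (@HAdd.hAdd.{0, 0, 0} @Nat @Nat @Nat (@instHAdd.{0} @Nat @instAddNat) @x0 (@OfNat.ofNat.{0} @Nat (nat_lit 1) (@instOfNatNat (nat_lit 1))))) → Sort ku0)) (x2 : @x1 (@OfNat.ofNat.{0} (@Fin (@HAdd.hAdd.{0, 0, 0} @Nat @Nat @Nat (@instHAdd.{0} @Nat @instAddNat) @x0 (@OfNat.ofNat.{0} @Nat (nat_lit 1) (@instOfNatNat (nat_lit 1))))) (nat_lit 0) (@Fin.instOfNat (@HAdd.hAdd.{0, 0, 0} @Nat @Nat @Nat (@instHAdd.{0} @Nat @instAddNat) @x0 (@OfNat.ofNat.{0} @Nat (nat_lit 1) (@instOfNatNat (nat_lit 1)))) (@Fin.cons._proof_1 @x0) (nat_lit 0)))) (x3 : ((x3 : @Fin @x0) → @x1 (@Fin.succ @x0 @x3))) (x4 : @Fin (@HAdd.hAdd.{0, 0, 0} @Nat @Nat @Nat (@instHAdd.{0} @Nat @instAddNat) @x0 (@OfNat.ofNat.{0} @Nat (nat_lit 1) (@instOfNatNat (nat_lit 1))))) => @Cfsg.Agent.KOe8dd13a.k37.{ku0} @x0 @(fun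 (x5 : @Fin (@HAdd.hAdd.{0, 0, 0} @Nat @Nat @Nat (@instHAdd.{0} @Nat @instAddNat) @x0 (@OfNat.ofNat.{0} @Nat (nat_lit 1) (@instOfNatNat (nat_lit 1))))) => @x1 @x5) @x2 @x3 @x4)
private theorem _root_.Cfsg.Agent.KOe8dd13a.e38.{ku0} : @Fin.cons.{ku0} = @_root_.Cfsg.Agent.KOe8dd13a.k38.{ku0} := by delta _root_.Cfsg.Agent.KOe8dd13a.k38; rewrite [← Cfsg.Agent.KOe8dd13a.e37.{ku0}]; rfl'
private noncomputable def _root_.Cfsg.Agent.KOe8dd13a.k39.{ku0} : ((x0 : Sort ku0) → ((@Fin (@OfNat.ofNat.{0} @Nat (nat_lit 0) (@instOfNatNat (nat_lit 0)))) → x0)) := @(fun (x0 : Sort ku0) (x1 : @Fin (@OfNat.ofNat.{0} @Nat (nat_lit 0) (@instOfNatNat (nat_lit 0)))) => @Fin.rec.{ku0} (nat_lit 0) @(fun (x2 : @Fin (@OfNat.ofNat.{0} @Nat (nat_lit 0) (@instOfNatNat (nat_lit 0)))) => x0) @(fun (x2 : @Nat) (x3 : @LT.lt.{0} @Nat @instLTNat @x2 (@OfNat.ofNat.{0} @Nat (nat_lit 0) (@instOfNatNat (nat_lit 0)))) => @False.rec.{ku0}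 @(fun (x4 : @False) => x0) (@Nat.not_lt_zero @x2 @x3)) @x1)
private theorem _root_.Cfsg.Agent.KOe8dd13a.e39.{ku0} : @Fin.elim0.{ku0} = @_root_.Cfsg.Agent.KOe8dd13a.k39.{ku0} := by delta _root_.Cfsg.Agent.KOe8dd13a.k39; rfl'
private noncomputable def _root_.Cfsg.Agent.KOe8dd13a.k57 : ((x0 : @Nat) → ((x1 : ((@Fin @x0) → Prop)) → ((@DecidablePred.{1} (@Fin @x0) @x1) → @Decidable ((x3 : @Fin @x0) → @x1 @x3)))) := @(fun (x0 : @Nat) (x1 : ((@Fin @x0) → Prop)) (x2 : @DecidablePred.{1} (@Fin @x0) @x1) => @Decidable.rec.{1} ((x3 : @Nat) → ((x4 : @LT.lt.{0} @Nat @instLTNat @x3 @x0) → @x1 (@Fin.mk @x0 @x3 @x4))) @(fun (x3 : @Decidable ((x3 : @Nat) → ((x4 : @LT.lt.{0} @Nat @instLTNat @x3 @x0) → @x1 (@Fin.mk @x0 @x3 @x4)))) => @Decidable ((x4 : @Fin @x0) → @x1 @x4)) @(fun (x3 : @Not ((x3 : @Nat) → ((x4 : @LT.lt.{0} @Nat @instLTNat @x3 @x0) → @x1 (@Fin.mk @x0 @x3 @x4)))) => @Decidable.isFalse ((x4 :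 @Fin @x0) → @x1 @x4) (@decidable_of_decidable_of_iff._proof_1 ((x4 : @Nat) → ((x5 : @LT.lt.{0} @Nat @instLTNat @x4 @x0) → @x1 (@Fin.mk @x0 @x4 @x5))) ((x4 : @Fin @x0) → @x1 @x4) (@Nat.decidableForallFin._proof_1 @x0 @x1) @x3)) @(fun (x3 : ((x3 : @Nat) → ((x4 : @LT.lt.{0} @Nat @instLTNat @x3 @x0) → @x1 (@Fin.mk @x0 @x3 @x4)))) => @Decidable.isTrue ((x4 : @Fin @x0) → @x1 @x4) (@Iff.mp ((x4 : @Nat) → ((x5 : @LT.lt.{0} @Nat @instLTNat @x4 @x0) → @x1 (@Fin.mk @x0 @x4 @x5))) ((x4 : @Fin @x0) → @x1 @x4) (@Nat.decidableForallFin._proof_1 @x0 @x1) @x3)) (@Cfsg.Agent.KOe8dd13a.k1 @x0 @(fun (x3 : @Nat) (x4 : @LT.lt.{0} @Nat @instLTNat @x3 @x0) => @x1 (@Fin.mk @x0 @x3 @x4)) @(fun (x3 : @Nat) (x4 : @LT.lt.{0} @Nat @instLTNat @x3 @x0) => @x2 (@Fin.mk @x0 @x3 @x4))))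
private theorem _root_.Cfsg.Agent.KOe8dd13a.e57 : @Nat.decidableForallFin = @_root_.Cfsg.Agent.KOe8dd13a.k57 := by delta _root_.Cfsg.Agent.KOe8dd13a.k57; rewrite [← Cfsg.Agent.KOe8dd13a.e1]; rfl'
private noncomputable def _root_.Cfsg.Agent.KOe8dd13a.k86.{ku0} : ((x0 : Sort (ku0+1)) → ((@List.{ku0} @x0) → (@Nat → (x0 → x0)))) := @(fun (x0 : Sort (ku0+1)) (x1 : @List.{ku0} @x0) (x2 : @Nat) (x3 : x0) => @Option.rec.{(ku0+1), ku0} @x0 @(fun (x4 : @Option.{ku0} @x0) => x0) @x3 @(fun (x4 : x0) => x4) (@Cfsg.Agent.KOe8dd13a.k48.{ku0} @x0 @x1 @x2))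
private theorem _root_.Cfsg.Agent.KOe8dd13a.e86.{ku0} : @List.getD.{ku0} = @_root_.Cfsg.Agent.KOe8dd13a.k86.{ku0} := by delta _root_.Cfsg.Agent.KOe8dd13a.k86; rewrite [← Cfsg.Agent.KOe8dd13a.e48.{ku0}]; rfl'
private noncomputable def _root_.Cfsg.Agent.KOe8dd13a.k87.{ku0} : ((x0 : Sort (ku0+1)) → ((x1 : @Nat) → (x0 → (((@Fin @x1) → x0) → ((@Fin (@Nat.succ @x1)) → x0))))) := @(fun (x0 : Sort (ku0+1)) (x1 : @Nat) (x2 : x0) (x3 : ((@Fin @x1) → x0)) => @Cfsg.Agent.KOe8dd13a.k38.{(ku0+1)} @x1 @(fun (x4 : @Fin (@Nat.succ @x1)) => x0) @x2 @x3)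
private theorem _root_.Cfsg.Agent.KOe8dd13a.e87.{ku0} : @Matrix.vecCons.{ku0} = @_root_.Cfsg.Agent.KOe8dd13a.k87.{ku0} := by delta _root_.Cfsg.Agent.KOe8dd13a.k87; rewrite [← Cfsg.Agent.KOe8dd13a.e38.{(ku0+1)}]; rfl'
private noncomputable def _root_.Cfsg.Agent.KOe8dd13a.k88.{ku0} : ((x0 : Sort (ku0+1)) → ((@Fin (@OfNat.ofNat.{0} @Nat (nat_lit 0) (@instOfNatNat (nat_lit 0)))) → x0)) := @(fun (x0 : Sort (ku0+1)) => @Cfsg.Agent.KOe8dd13a.k39.{(ku0+1)} @x0)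
private theorem _root_.Cfsg.Agent.KOe8dd13a.e88.{ku0} : @Matrix.vecEmpty.{ku0} = @_root_.Cfsg.Agent.KOe8dd13a.k88.{ku0} := by delta _root_.Cfsg.Agent.KOe8dd13a.k88; rewrite [← Cfsg.Agent.KOe8dd13a.e39.{(ku0+1)}]; rfl'

theorem vtab_eq : ∀ i < 48, ∀ j : Fin 4, V chevE6 J ((O.getD i []).headD 0) j =
    ![(vtab.getD i (0, 0, 0, 0)).1, (vtab.getD i (0, 0, 0, 0)).2.1, (vtab.getD i (0, 0, 0, 0)).2.2.1,
      (vtab.getD i (0, 0, 0, 0)).2.2.2] j := by (first | (refine of_decide_eq_true ?_; rewrite [Cfsg.Agent.KOe8dd13a.e0, Cfsg.Agent.KOe8dd13a.e1, Cfsg.Agent.KOe8dd13a.e57, Cfsg.Agent.KOe8dd13a.e22, Cfsg.Agent.KOe8dd13a.e33, Cfsg.Agent.KOe8dd13a.e40.{0}, Cfsg.Agent.KOe8dd13a.e86.{0}, Cfsg.Agent.KOe8dd13a.e87.{0}, Cfsg.Agent.KOe8dd13a.e88.{0}]; decide +kernel) | decide +kernel)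

private noncomputable def _root_.Cfsg.Agent.KOe8dd13a.k76 : ((@Int) → ((@Int) → @Int)) := @(fun (x0 : @Int) (x1 : @Int) => @Int.rec.{1} @(fun (x2 : @Int) => @Int) @(fun (x2 : @Nat) => @Int.rec.{1} @(fun (x3 : @Int) => @Int) @(fun (x3 : @Nat) => @Int.ofNat (@Nat.mul @x2 @x3)) @(fun (x3 : @Nat) => @Nat.rec.{1} @(fun (x4 : @Nat) => @Int) (@Int.ofNat (nat_lit 0)) @(fun (x4 : @Nat) (x5 : @Int) => @Int.negSucc @x4) (@Nat.mul @x2 (@Nat.succ @x3))) @x1) @(fun (x2 : @Nat) => @Int.rec.{1} @(fun (x3 : @Int) => @Int) @(fun (x3 : @Nat) => @Nat.rec.{1} @(fun (x4 : @Nat) => @Int) (@Int.ofNat (nat_lit 0)) @(fun (x4 : @Nat) (x5 : @Int) => @Int.negSucc @x4) (@Nat.mul (@Nat.succ @x2) @x3)) @(fun (x3 : @Nat) => @Int.ofNat (@Nat.mul (@Nat.succ @x2) (@Nat.succ @x3))) @x1) @x0)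
private theorem _root_.Cfsg.Agent.KOe8dd13a.e76 : @Int.mul = @_root_.Cfsg.Agent.KOe8dd13a.k76 := by delta _root_.Cfsg.Agent.KOe8dd13a.k76; rfl'
private noncomputable def _root_.Cfsg.Agent.KOe8dd13a.k89 : ((x0 : Prop) → ((x1 : Prop) → ((@Decidable @x0) → ((@Decidable @x1) → @Decidable (@Or @x0 @x1))))) := @(fun (x0 : Prop) (x1 : Prop) (x2 : @Decidable @x0) (x3 : @Decidable @x1) => @Decidable.rec.{1} @x0 @(fun (x4 : @Decidable @x0) => @Decidable (@Or @x0 @x1)) @(fun (x4 : @Not @x0) => @Decidable.rec.{1} @x1 @(fun (x5 : @Decidable @x1) => @Decidable (@Or @x0 @x1)) @(fun (x5 : @Not @x1) => @Decidable.isFalse (@Or @x0 @x1) (@instDecidableOr._proof_1 @x0 @x1 @x4 @x5)) @(fun (x5 : x1) => @Decidable.isTrue (@Or @x0 @x1) (@Or.inr @x0 @x1 @x5)) @x3) @(fun (x4 : x0) => @Decidable.isTrue (@Or @x0 @x1) (@Or.inl @x0 @x1 @x4)) @x2)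
private theorem _root_.Cfsg.Agent.KOe8dd13a.e89 : @instDecidableOr = @_root_.Cfsg.Agent.KOe8dd13a.k89 := by delta _root_.Cfsg.Agent.KOe8dd13a.k89; rfl'
private noncomputable def _root_.Cfsg.Agent.KOe8dd13a.k90 : (by first | exact type_of% @Cfsg.Agent.Nodes.RGDTwCoordE6.Q4 | exact Unit : Sort _) := by first | (refine @Subtype.val _ (fun g => @Cfsg.Agent.Nodes.RGDTwCoordE6.Q4 = @g) (@Subtype.mk _ _ (@(fun (x0 : @Prod.{0, 0} @Int (@Prod.{0, 0} @Int (@Prod.{0, 0} @Int @Int))) => @Cfsg.Agent.KOe8dd13a.k24 (@Cfsg.Agent.KOe8dd13a.k24 (@Cfsg.Agent.KOe8dd13a.k24 (@Cfsg.Agent.KOe8dd13a.k24 (@Cfsg.Agent.KOe8dd13a.k24 (@Cfsg.Agent.KOe8dd13a.k24 (@Cfsg.Agent.KOe8dd13a.k76 (@Cfsg.Agent.KOe8dd13a.k76 (@Int.ofNat (nat_lit 4)) (@Prod.fst.{0, 0} @Int (@Prod.{0, 0} @Int (@Prod.{0, 0} @Int @Int)) @x0)) (@Prod.fst.{0, 0} @Int (@Prod.{0, 0} @Int (@Prod.{0, 0} @Int @Int)) @x0)) (@Cfsg.Agent.KOe8dd13a.k76 (@Cfsg.Agent.KOe8dd13a.k76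 (@Int.ofNat (nat_lit 4)) (@Prod.fst.{0, 0} @Int (@Prod.{0, 0} @Int @Int) (@Prod.snd.{0, 0} @Int (@Prod.{0, 0} @Int (@Prod.{0, 0} @Int @Int)) @x0))) (@Prod.fst.{0, 0} @Int (@Prod.{0, 0} @Int @Int) (@Prod.snd.{0, 0} @Int (@Prod.{0, 0} @Int (@Prod.{0, 0} @Int @Int)) @x0)))) (@Cfsg.Agent.KOe8dd13a.k76 (@Cfsg.Agent.KOe8dd13a.k76 (@Int.ofNat (nat_lit 2)) (@Prod.fst.{0, 0} @Int @Int (@Prod.snd.{0, 0} @Int (@Prod.{0, 0} @Int @Int) (@Prod.snd.{0, 0} @Int (@Prod.{0, 0} @Int (@Prod.{0, 0} @Int @Int)) @x0)))) (@Prod.fst.{0, 0} @Int @Int (@Prod.snd.{0, 0} @Int (@Prod.{0, 0} @Int @Int) (@Prod.snd.{0, 0} @Int (@Prod.{0, 0} @Int (@Prod.{0, 0} @Int @Int)) @x0))))) (@Cfsg.Agent.KOe8dd13a.k76 (@Cfsg.Agent.KOe8dd13a.k76 (@Int.ofNat (nat_lit 2)) (@Prod.snd.{0, 0} @Int @Int (@Prod.snd.{0, 0} @Int (@Prod.{0, 0} @Int @Int) (@Prod.snd.{0, 0} @Int (@Prod.{0, 0} @Int (@Prod.{0, 0} @Int @Int)) @x0)))) (@Prod.snd.{0,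 0} @Int @Int (@Prod.snd.{0, 0} @Int (@Prod.{0, 0} @Int @Int) (@Prod.snd.{0, 0} @Int (@Prod.{0, 0} @Int (@Prod.{0, 0} @Int @Int)) @x0))))) (@Int.rec.{1} @(fun (x1 : @Int) => @Int) @(fun (x1 : @Nat) => @Nat.rec.{1} @(fun (x2 : @Nat) => @Int) (@Int.ofNat (nat_lit 0)) @(fun (x2 : @Nat) (x3 : @Int) => @Int.negSucc @x2) @x1) @(fun (x1 : @Nat) => @Int.ofNat (@Nat.succ @x1)) (@Cfsg.Agent.KOe8dd13a.k76 (@Cfsg.Agent.KOe8dd13a.k76 (@Int.ofNat (nat_lit 4)) (@Prod.fst.{0, 0} @Int (@Prod.{0, 0} @Int (@Prod.{0, 0} @Int @Int)) @x0)) (@Prod.fst.{0, 0} @Int (@Prod.{0, 0} @Int @Int) (@Prod.snd.{0, 0} @Int (@Prod.{0, 0} @Int (@Prod.{0, 0} @Int @Int)) @x0))))) (@Int.rec.{1} @(fun (x1 : @Int) => @Int) @(fun (x1 : @Nat) => @Nat.rec.{1} @(fun (x2 : @Nat) => @Int) (@Int.ofNat (nat_lit 0)) @(fun (x2 : @Nat) (x3 : @Int) => @Int.negSucc @x2) @x1) @(fun (x1 : @Nat) => @Int.ofNat (@Nat.succ @x1)) (@Cfsg.Agent.KOe8dd13a.k76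 (@Cfsg.Agent.KOe8dd13a.k76 (@Int.ofNat (nat_lit 4)) (@Prod.fst.{0, 0} @Int (@Prod.{0, 0} @Int @Int) (@Prod.snd.{0, 0} @Int (@Prod.{0, 0} @Int (@Prod.{0, 0} @Int @Int)) @x0))) (@Prod.fst.{0, 0} @Int @Int (@Prod.snd.{0, 0} @Int (@Prod.{0, 0} @Int @Int) (@Prod.snd.{0, 0} @Int (@Prod.{0, 0} @Int (@Prod.{0, 0} @Int @Int)) @x0)))))) (@Int.rec.{1} @(fun (x1 : @Int) => @Int) @(fun (x1 : @Nat) => @Nat.rec.{1} @(fun (x2 : @Nat) => @Int) (@Int.ofNat (nat_lit 0)) @(fun (x2 : @Nat) (x3 : @Int) => @Int.negSucc @x2) @x1) @(fun (x1 : @Nat) => @Int.ofNat (@Nat.succ @x1)) (@Cfsg.Agent.KOe8dd13a.k76 (@Cfsg.Agent.KOe8dd13a.k76 (@Int.ofNat (nat_lit 2)) (@Prod.fst.{0, 0} @Int @Int (@Prod.snd.{0, 0} @Int (@Prod.{0, 0} @Int @Int) (@Prod.snd.{0, 0} @Int (@Prod.{0, 0} @Int (@Prod.{0, 0} @Int @Int)) @x0)))) (@Prod.snd.{0, 0} @Int @Int (@Prod.snd.{0, 0} @Int (@Prod.{0, 0} @Int @Int) (@Prod.snd.{0, 0} @Int (@Prod.{0,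 0} @Int (@Prod.{0, 0} @Int @Int)) @x0))))))) ?_); rewrite [← Cfsg.Agent.KOe8dd13a.e76, ← Cfsg.Agent.KOe8dd13a.e24]; rfl') | exact @Cfsg.Agent.Nodes.RGDTwCoordE6.Q4 | exact ()
private theorem _root_.Cfsg.Agent.KOe8dd13a.e90 : (by first | exact @Cfsg.Agent.Nodes.RGDTwCoordE6.Q4 = @_root_.Cfsg.Agent.KOe8dd13a.k90 | exact True : Prop) := by first | (delta _root_.Cfsg.Agent.KOe8dd13a.k90; exact @Subtype.property _ (fun g => @Cfsg.Agent.Nodes.RGDTwCoordE6.Q4 = @g) _) | rfl | trivial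

theorem Q_tab : ∀ i < 48, ((O.getD i []).length = 1 ∧ Q4 (vtab.getD i (0, 0, 0, 0)) = 4) ∨
    ((O.getD i []).length = 2 ∧ Q4 (vtab.getD i (0, 0, 0, 0)) = 2) := by (first | (refine of_decide_eq_true ?_; rewrite [Cfsg.Agent.KOe8dd13a.e0, Cfsg.Agent.KOe8dd13a.e1, Cfsg.Agent.KOe8dd13a.e89, Cfsg.Agent.KOe8dd13a.e30, Cfsg.Agent.KOe8dd13a.e7, Cfsg.Agent.KOe8dd13a.e53.{0}, Cfsg.Agent.KOe8dd13a.e86.{0}, Cfsg.Agent.KOe8dd13a.e22, Cfsg.Agent.KOe8dd13a.e90]; decide +kernel) | decide +kernel)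

theorem O_length : O.length = 48 := by decide +kernel

/-- sum of vectors -/
def ad (v w : ℤ × ℤ × ℤ × ℤ) : ℤ × ℤ × ℤ × ℤ := (v.1 + w.1, v.2.1 + w.2.1, v.2.2.1 + w.2.2.1, v.2.2.2 + w.2.2.2)

/-- The kind of a pair of classes: `0` opposite, `1` commuting, `2` long, `3` trace, `4` short, `5` long-short,
`6` short-long. -/
def kd (o o' : List ℕ) : ℕ :=
  if dgE6 (o.headD 0) (o'.headD 0) = 1 ∨ dgE6 (o.headD 0) (o'.getLastD 0) = 1 then 0
  else if o.length = 1 then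
    if dgE6 (o.headD 0) (o'.headD 0) = 0 then 1 else if o'.length = 1 then 2 else 5
  else if o'.length = 1 then
    if dgE6 (o.headD 0) (o'.headD 0) = 0 then 1 else 6
  else if dgE6 (o.headD 0) (o'.headD 0) = 0 then
    if dgE6 (o.headD 0) (o'.getLastD 0) = 0 then 1 else 3
  else 4

/-- The check for one pair of classes. -/
def chk (o o' : List ℕ) (v v' : ℤ × ℤ × ℤ × ℤ) : Bool :=
  let d := dgE6 (o.headD 0) (o'.headD 0)
  let d' := dgE6 (o.headD 0) (o'.getLastD 0)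
  match kd o o' with
  | 0 => true
  | 1 => (o.all fun r => o'.all fun s => comB 72 dgE6 r s) && decide (Q4 (ad v v') ≠ 2) && decide (Q4 (ad v v') ≠ 4)
  | 2 => decide ([dk d] ∈ O) && okP 72 dgE6 [dk d] o o' &&
      decide (tm dgE6 dl o o' (dk d) = [(NN dgE6 dl (o.headD 0) (o'.headD 0), 0, 0)])
  | 3 => decide ([dk d'] ∈ O) && okP 72 dgE6 [dk d'] o o' &&
      decide (tm dgE6 dl o o' (dk d') = [(NN dgE6 dl (o.headD 0) (o'.getLastD 0), 0, 1),
        (NN dgE6 dl (o.headD 0) (o'.getLastD 0), 1, 0)])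
  | 4 => decide ([TwistedE6Sigma.rho (dk d), dk d] ∈ O) && okP 72 dgE6 [TwistedE6Sigma.rho (dk d), dk d] o o' &&
      decide (tm dgE6 dl o o' (TwistedE6Sigma.rho (dk d)) = [(NN dgE6 dl (o.getLastD 0) (o'.getLastD 0), 1, 1)])
  | 5 =>
      let u₀ := dk d
      let u₁ := dk d'
      let v := dk (dgE6 (o'.headD 0) u₁)
      decide ([u₀, u₁] ∈ O) && decide ([v] ∈ O) &&
        okQ 72 dgE6 dl (o.headD 0) (o'.headD 0) (o'.getLastD 0) u₀ u₁ v
  | _ => true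

private theorem dgE6_shift : dgE6 = fun r s => Nat.land (Nat.shiftRight tabE6 (Nat.mul 8 (Nat.add (Nat.mul 72 r) s))) 255 := by
  funext r s
  show tabE6 / 256 ^ (72 * r + s) % 256 = (tabE6 >>> (8 * (72 * r + s))) &&& (2 ^ 8 - 1)
  rw [Nat.and_two_pow_sub_one_eq_mod, Nat.shiftRight_eq_div_pow, pow_mul]
  rfl

private noncomputable def _root_.Cfsg.Agent.KOe8dd13a.k9.{ku0} : ((x0 : Sort (ku0+1)) → ((@List.{ku0} (@List.{ku0} @x0)) → @List.{ku0} @x0)) := @(fun (x0 : Sort (ku0+1)) (x1 : @List.{ku0} (@List.{ku0} @x0)) => @List.rec.{(ku0+1), ku0} (@List.{ku0} @x0) @(fun (x2 : @List.{ku0} (@List.{ku0} @x0)) => @List.{ku0} @x0) (@List.nil.{ku0} @x0) @(fun (x2 : @List.{ku0} @x0) (x3 : @List.{ku0} (@List.{ku0} @x0)) (x4 : @List.{ku0} @x0) => @Cfsg.Agent.KOe8dd13a.k8.{ku0} @x0 @x2 @x4) @x1)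
private theorem _root_.Cfsg.Agent.KOe8dd13a.e9.{ku0} : @List.flatten.{ku0} = @_root_.Cfsg.Agent.KOe8dd13a.k9.{ku0} := by delta _root_.Cfsg.Agent.KOe8dd13a.k9; rewrite [← Cfsg.Agent.KOe8dd13a.e8.{ku0}]; funext a0 a1; refine (_root_.Cfsg.Agent.KOe8dd13a.e3 (fun a1 => @List.flatten.{ku0} a0 a1) ?_ (fun c0 c1 => ?_) a1 :) <;> (rfl')
private noncomputable def _root_.Cfsg.Agent.KOe8dd13a.k66.{ku0} : ((x0 : Sort ku0) → ((x1 : Prop) → ((@Decidable @x1) → (x0 → (x0 → x0))))) := @(fun (x0 : Sort ku0) (x1 : Prop) (x2 : @Decidable @x1) (x3 : x0) (x4 : x0) => @Decidable.rec.{ku0} @x1 @(fun (x5 : @Decidable @x1) => x0) @(fun (x5 : @Not @x1) => x4) @(fun (x5 : x1) => x3) @x2)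
private theorem _root_.Cfsg.Agent.KOe8dd13a.e66.{ku0} : @ite.{ku0} = @_root_.Cfsg.Agent.KOe8dd13a.k66.{ku0} := by delta _root_.Cfsg.Agent.KOe8dd13a.k66; rfl'
private noncomputable def _root_.Cfsg.Agent.KOe8dd13a.k85.{ku0} : ((x0 : Sort (ku0+1)) → ((x0 → @Bool) → ((@List.{ku0} @x0) → @List.{ku0} @x0))) := @(fun (x0 : Sort (ku0+1)) (x1 : (x0 → @Bool)) (x2 : @List.{ku0} @x0) => @List.rec.{(ku0+1), ku0} @x0 @(fun (x3 : @List.{ku0} @x0) => @List.{ku0} @x0) (@List.nil.{ku0} @x0) @(fun (x3 : x0) (x4 : @List.{ku0} @x0) (x5 : @List.{ku0} @x0) => @Bool.rec.{(ku0+1)} @(fun (x6 : @Bool) => @List.{ku0} @x0) @x5 (@List.cons.{ku0} @x0 @x3 @x5) (@x1 @x3)) @x2)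
private theorem _root_.Cfsg.Agent.KOe8dd13a.e85.{ku0} : @List.filter.{ku0} = @_root_.Cfsg.Agent.KOe8dd13a.k85.{ku0} := by delta _root_.Cfsg.Agent.KOe8dd13a.k85; funext a0 a1 a2; refine (_root_.Cfsg.Agent.KOe8dd13a.e3 (fun a2 => @List.filter.{ku0} a0 a1 a2) ?_ (fun c0 c1 => ?_) a2 :) <;> (rfl')
private noncomputable def _root_.Cfsg.Agent.KOe8dd13a.k91.{ku0} : ((x0 : Sort (ku0+1)) → ((@List.{ku0} @x0) → ((x0 → @Bool) → @Bool))) := @(fun (x0 : Sort (ku0+1)) (x1 : @List.{ku0} @x0) (x2 : (x0 → @Bool)) => @List.rec.{(ku0+1), ku0} @x0 @(fun (x3 : @List.{ku0} @x0) => ((x0 → @Bool) → @Bool)) @(fun (x3 : (x0 → @Bool)) => @Bool.true) @(fun (x3 : x0) (x4 : @List.{ku0} @x0) (x5 : ((x0 → @Bool) → @Bool)) (x6 : (x0 → @Bool)) => @Bool.rec.{1} @(fun (x7 : @Bool) => @Bool) @Bool.false (@x5 @x6) (@x6 @x3)) @x1 @x2)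
private theorem _root_.Cfsg.Agent.KOe8dd13a.e91.{ku0} : @List.all.{ku0} = @_root_.Cfsg.Agent.KOe8dd13a.k91.{ku0} := by delta _root_.Cfsg.Agent.KOe8dd13a.k91; funext a0 a1 a2; refine (congrFun (_root_.Cfsg.Agent.KOe8dd13a.e3 (fun a1 a2 => @List.all.{ku0} a0 a1 a2) ?_ (fun c0 c1 => ?_) a1) a2 :) <;> (rfl')
private noncomputable def _root_.Cfsg.Agent.KOe8dd13a.k93.{ku0, ku1, ku2} : ((x0 : Sort (ku0+1)) → ((x1 : Sort (ku1+1)) → ((x2 : Sort (ku2+1)) → ((x0 → (x1 → x2)) → ((@List.{ku0} @x0) → ((@List.{ku1} @x1) → @List.{ku2} @x2)))))) := @(fun (x0 : Sort (ku0+1)) (x1 : Sort (ku1+1)) (x2 : Sort (ku2+1)) (x3 : (x0 → (x1 → x2))) (x4 : @List.{ku0} @x0) (x5 : @List.{ku1} @x1) => @List.rec.{(max (ku1+1) (ku2+1)), ku0} @x0 @(fun (x6 : @List.{ku0} @x0) => ((@List.{ku1} @x1) → @List.{ku2} @x2)) @(fun (x6 : @List.{ku1} @x1) => @List.nil.{ku2} @x2) @(fun (x6 : x0) (x7 : @List.{ku0} @x0) (x8 : ((@List.{ku1}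 @x1) → @List.{ku2} @x2)) (x9 : @List.{ku1} @x1) => @List.rec.{(ku2+1), ku1} @x1 @(fun (x10 : @List.{ku1} @x1) => @List.{ku2} @x2) (@List.nil.{ku2} @x2) @(fun (x10 : x1) (x11 : @List.{ku1} @x1) (x12 : @List.{ku2} @x2) => @List.cons.{ku2} @x2 (@x3 @x6 @x10) (@x8 @x11)) @x9) @x4 @x5)
private theorem _root_.Cfsg.Agent.KOe8dd13a.e93.{ku0, ku1, ku2} : @List.zipWith.{ku0, ku1, ku2} = @_root_.Cfsg.Agent.KOe8dd13a.k93.{ku0, ku1, ku2} := by delta _root_.Cfsg.Agent.KOe8dd13a.k93; funext a0 a1 a2 a3 a4 a5; refine (congrFun (_root_.Cfsg.Agent.KOe8dd13a.e3 (fun a4 a5 => @List.zipWith.{ku0, ku1, ku2} a0 a1 a2 a3 a4 a5) ?_ (fun c0 c1 => ?_) a4) a5 :) <;> [(funext b0; (rfl')); (funext b0; (cases b0 with | @nil  => (rfl') | @cons b0_0 b0_1 => (rfl')))]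
private noncomputable def _root_.Cfsg.Agent.KOe8dd13a.k94.{ku0, ku1} : ((x0 : Sort (ku0+1)) → ((x1 : Sort (ku1+1)) → ((@List.{ku0} @x0) → ((@List.{ku1} @x1) → @List.{(max ku1 ku0)} (@Prod.{ku0, ku1} @x0 @x1))))) := @(fun (x0 : Sort (ku0+1)) (x1 : Sort (ku1+1)) => @Cfsg.Agent.KOe8dd13a.k93.{ku0, ku1, (max ku0 ku1)} @x0 @x1 (@Prod.{ku0, ku1} @x0 @x1) (@Prod.mk.{ku0, ku1} @x0 @x1))
private theorem _root_.Cfsg.Agent.KOe8dd13a.e94.{ku0, ku1} : @List.zip.{ku0, ku1} = @_root_.Cfsg.Agent.KOe8dd13a.k94.{ku0, ku1} := by delta _root_.Cfsg.Agent.KOe8dd13a.k94; rewrite [← Cfsg.Agent.KOe8dd13a.e93.{ku0, ku1, (max ku0 ku1)}]; rfl'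
private noncomputable def _root_.Cfsg.Agent.KOe8dd13a.k95.{ku0} : ((x0 : Sort (ku0+1)) → ((@List.{ku0} @x0) → (x0 → x0))) := @(fun (x0 : Sort (ku0+1)) (x1 : @List.{ku0} @x0) (x2 : x0) => @List.rec.{(ku0+1), ku0} @x0 @(fun (x3 : @List.{ku0} @x0) => x0) @x2 @(fun (x3 : x0) (x4 : @List.{ku0} @x0) (x5 : x0) => @List.getLast.{ku0} @x0 (@List.cons.{ku0} @x0 @x3 @x4) (@List.getLast._proof_2.{ku0} @x0 @x3 @x4)) @x1)
private theorem _root_.Cfsg.Agent.KOe8dd13a.e95.{ku0} : @List.getLastD.{ku0} = @_root_.Cfsg.Agent.KOe8dd13a.k95.{ku0} := by delta _root_.Cfsg.Agent.KOe8dd13a.k95; rfl'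
private noncomputable def _root_.Cfsg.Agent.KOe8dd13a.k96 : (@Bool → (@Bool → @Bool)) := @(fun (x0 : @Bool) (x1 : @Bool) => @Bool.rec.{1} @(fun (x2 : @Bool) => @Bool) @Bool.false @x1 @x0)
private theorem _root_.Cfsg.Agent.KOe8dd13a.e96 : @Bool.and = @_root_.Cfsg.Agent.KOe8dd13a.k96 := by delta _root_.Cfsg.Agent.KOe8dd13a.k96; rfl'
private noncomputable def _root_.Cfsg.Agent.KOe8dd13a.oLe.{ku} (α : Sort ku) (a b : Nat) (f t : α) : α := @Decidable.rec (@LE.le Nat instLENat a b) (fun _ => α) (fun _ => f) (fun _ => t) (Nat.decLe a b)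
private noncomputable def _root_.Cfsg.Agent.KOe8dd13a.k97.{ku} (α : Sort ku) (a b : Nat) (f t : α) : α := @Bool.rec (fun _ => α) f t (Nat.ble a b)
private theorem _root_.Cfsg.Agent.KOe8dd13a.e97.{ku} : @_root_.Cfsg.Agent.KOe8dd13a.oLe.{ku} = @_root_.Cfsg.Agent.KOe8dd13a.k97.{ku} := funext fun α => funext fun a => funext fun b => funext fun f => funext fun t => by delta _root_.Cfsg.Agent.KOe8dd13a.oLe _root_.Cfsg.Agent.KOe8dd13a.k97; cases h : Nat.ble a b <;> cases Nat.decLe a b <;> rename_i g <;> first | rfl | exact absurd (h.symm.trans (Nat.ble_eq_true_of_le g)) Bool.false_ne_true | exact absurd (Nat.le_of_ble_eq_true h) g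
private noncomputable def _root_.Cfsg.Agent.KOe8dd13a.k98 : (by first | exact type_of% @Cfsg.Agent.Nodes.RGDTwCoord.comB | exact Unit : Sort _) := by first | (refine @Subtype.val _ (fun g => @Cfsg.Agent.Nodes.RGDTwCoord.comB = @g) (@Subtype.mk _ _ (@(fun (x0 : @Nat) (x1 : (@Nat → (@Nat → @Nat))) (x2 : @Nat) (x3 : @Nat) => @Bool.rec.{1} @(fun (x4 : @Bool) => @Bool) @Bool.false (@Cfsg.Agent.KOe8dd13a.k27.{1} @Bool (@x1 @x2 @x3) (nat_lit 0) @Bool.false @Bool.true) (@Bool.rec.{1} @(fun (x4 : @Bool) => @Bool) @Bool.false (@Cfsg.Agent.KOe8dd13a.k97.{1} @Bool (@Nat.succ @x3) @x0 @Bool.false @Bool.true) (@Cfsg.Agent.KOe8dd13a.k97.{1} @Bool (@Nat.succ @x2) @x0 @Bool.false @Bool.true)))) ?_); rewrite [← Cfsg.Agent.KOe8dd13a.e97.{1}, ← Cfsg.Agent.KOe8dd13a.e27.{1}]; rfl') | exact @Cfsg.Agent.Nodes.RGDTwCoord.comB | exact ()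
private theorem _root_.Cfsg.Agent.KOe8dd13a.e98 : (by first | exact @Cfsg.Agent.Nodes.RGDTwCoord.comB = @_root_.Cfsg.Agent.KOe8dd13a.k98 | exact True : Prop) := by first | (delta _root_.Cfsg.Agent.KOe8dd13a.k98; exact @Subtype.property _ (fun g => @Cfsg.Agent.Nodes.RGDTwCoord.comB = @g) _) | rfl | trivial
private noncomputable def _root_.Cfsg.Agent.KOe8dd13a.k99 : ((x0 : Prop) → ((@Decidable @x0) → @Decidable (@Not @x0))) := @(fun (x0 : Prop) (x1 : @Decidable @x0) => @Decidable.rec.{1} @x0 @(fun (x2 : @Decidable @x0) => @Decidable (@Not @x0)) @(fun (x2 : @Not @x0) => @Decidable.isTrue (@Not @x0) @x2) @(fun (x2 : x0) => @Decidable.isFalse (@Not @x0) (@absurd.{0} @x0 @False @x2)) @x1)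
private theorem _root_.Cfsg.Agent.KOe8dd13a.e99 : @instDecidableNot = @_root_.Cfsg.Agent.KOe8dd13a.k99 := by delta _root_.Cfsg.Agent.KOe8dd13a.k99; rfl'
private noncomputable def _root_.Cfsg.Agent.KOe8dd13a.k100 : (by first | exact type_of% @Cfsg.Agent.Nodes.RGDTwCoordE6.ad | exact Unit : Sort _) := by first | (refine @Subtype.val _ (fun g => @Cfsg.Agent.Nodes.RGDTwCoordE6.ad = @g) (@Subtype.mk _ _ (@(fun (x0 : @Prod.{0, 0} @Int (@Prod.{0, 0} @Int (@Prod.{0, 0} @Int @Int))) (x1 : @Prod.{0, 0} @Int (@Prod.{0, 0} @Int (@Prod.{0, 0} @Int @Int))) => @Prod.mk.{0, 0} @Int (@Prod.{0, 0} @Int (@Prod.{0, 0} @Int @Int)) (@Cfsg.Agent.KOe8dd13a.k24 (@Prod.fst.{0, 0} @Int (@Prod.{0, 0} @Int (@Prod.{0, 0} @Int @Int)) @x0) (@Prod.fst.{0, 0} @Int (@Prod.{0, 0} @Int (@Prod.{0, 0} @Int @Int)) @x1)) (@Prod.mk.{0, 0} @Int (@Prod.{0, 0} @Int @Int) (@Cfsg.Agent.KOe8dd13a.k24 (@Prod.fst.{0, 0} @Int (@Prod.{0,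 0} @Int @Int) (@Prod.snd.{0, 0} @Int (@Prod.{0, 0} @Int (@Prod.{0, 0} @Int @Int)) @x0)) (@Prod.fst.{0, 0} @Int (@Prod.{0, 0} @Int @Int) (@Prod.snd.{0, 0} @Int (@Prod.{0, 0} @Int (@Prod.{0, 0} @Int @Int)) @x1))) (@Prod.mk.{0, 0} @Int @Int (@Cfsg.Agent.KOe8dd13a.k24 (@Prod.fst.{0, 0} @Int @Int (@Prod.snd.{0, 0} @Int (@Prod.{0, 0} @Int @Int) (@Prod.snd.{0, 0} @Int (@Prod.{0, 0} @Int (@Prod.{0, 0} @Int @Int)) @x0))) (@Prod.fst.{0, 0} @Int @Int (@Prod.snd.{0, 0} @Int (@Prod.{0, 0} @Int @Int) (@Prod.snd.{0, 0} @Int (@Prod.{0, 0} @Int (@Prod.{0, 0} @Int @Int)) @x1)))) (@Cfsg.Agent.KOe8dd13a.k24 (@Prod.snd.{0, 0} @Int @Int (@Prod.snd.{0, 0} @Int (@Prod.{0, 0} @Int @Int) (@Prod.snd.{0, 0} @Int (@Prod.{0, 0} @Int (@Prod.{0, 0} @Int @Int)) @x0))) (@Prod.snd.{0, 0} @Int @Int (@Prod.snd.{0, 0} @Int (@Prod.{0, 0} @Int @Int) (@Prod.snd.{0, 0} @Int (@Prod.{0, 0} @Int (@Prod.{0, 0} @Int @Int)) @x1))))))))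 ?_); rewrite [← Cfsg.Agent.KOe8dd13a.e24]; rfl') | exact @Cfsg.Agent.Nodes.RGDTwCoordE6.ad | exact ()
private theorem _root_.Cfsg.Agent.KOe8dd13a.e100 : (by first | exact @Cfsg.Agent.Nodes.RGDTwCoordE6.ad = @_root_.Cfsg.Agent.KOe8dd13a.k100 | exact True : Prop) := by first | (delta _root_.Cfsg.Agent.KOe8dd13a.k100; exact @Subtype.property _ (fun g => @Cfsg.Agent.Nodes.RGDTwCoordE6.ad = @g) _) | rfl | trivial
private noncomputable def _root_.Cfsg.Agent.KOe8dd13a.k101 : (by first | exact type_of% @Cfsg.Agent.Nodes.RGDTwCoord.dk | exact Unit : Sort _) := by first | (refine @Subtype.val _ (fun g => @Cfsg.Agent.Nodes.RGDTwCoord.dk = @g) (@Subtype.mk _ _ (@(fun (x0 : @Nat) => @Nat.div (@Nat.sub @x0 (nat_lit 2)) (nat_lit 2))) ?_); rfl') | exact @Cfsg.Agent.Nodes.RGDTwCoord.dk | exact ()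
private theorem _root_.Cfsg.Agent.KOe8dd13a.e101 : (by first | exact @Cfsg.Agent.Nodes.RGDTwCoord.dk = @_root_.Cfsg.Agent.KOe8dd13a.k101 | exact True : Prop) := by first | (delta _root_.Cfsg.Agent.KOe8dd13a.k101; exact @Subtype.property _ (fun g => @Cfsg.Agent.Nodes.RGDTwCoord.dk = @g) _) | rfl | trivial
private noncomputable def _root_.Cfsg.Agent.KOe8dd13a.k104 : (by first | exact type_of% @Cfsg.Agent.Nodes.RGDTwCoord.okP | exact Unit : Sort _) := by first | (refine @Subtype.val _ (fun g => @Cfsg.Agent.Nodes.RGDTwCoord.okP = @g) (@Subtype.mk _ _ (@(fun (x0 : @Nat) (x1 : (@Nat → (@Nat → @Nat))) (x2 : @List.{0} @Nat) (x3 : @List.{0} @Nat) (x4 : @List.{0} @Nat) => @Bool.rec.{1} @(fun (x5 : @Bool) => @Bool) @Bool.false (@Cfsg.Agent.KOe8dd13a.k91.{0} @Nat @x2 @(fun (x5 : @Nat) => @Cfsg.Agent.KOe8dd13a.k91.{0} @Nat @x4 @(fun (x6 : @Nat) => @Cfsg.Agent.KOe8dd13a.k98 @x0 @x1 @x5 @x6))) (@Bool.rec.{1}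 @(fun (x5 : @Bool) => @Bool) @Bool.false (@Cfsg.Agent.KOe8dd13a.k91.{0} @Nat @x2 @(fun (x5 : @Nat) => @Cfsg.Agent.KOe8dd13a.k91.{0} @Nat @x3 @(fun (x6 : @Nat) => @Cfsg.Agent.KOe8dd13a.k98 @x0 @x1 @x5 @x6))) (@Cfsg.Agent.KOe8dd13a.k91.{0} @Nat @x3 @(fun (x5 : @Nat) => @Cfsg.Agent.KOe8dd13a.k91.{0} @Nat @x4 @(fun (x6 : @Nat) => @Cfsg.Agent.Nodes.RGDTwCoord.okB @x0 @x1 @x2 @x5 @x6)))))) ?_); rewrite [← Cfsg.Agent.KOe8dd13a.e98, ← Cfsg.Agent.KOe8dd13a.e91.{0}]; (try delta Cfsg.Agent.Nodes.RGDTwCoord.okP); (try generalize @Cfsg.Agent.Nodes.RGDTwCoord.comB = g0); (try generalize @Cfsg.Agent.Nodes.RGDTwCoord.okB = g1); rfl') | exact @Cfsg.Agent.Nodes.RGDTwCoord.okP | exact ()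
private theorem _root_.Cfsg.Agent.KOe8dd13a.e104 : (by first | exact @Cfsg.Agent.Nodes.RGDTwCoord.okP = @_root_.Cfsg.Agent.KOe8dd13a.k104 | exact True : Prop) := by first | (delta _root_.Cfsg.Agent.KOe8dd13a.k104; exact @Subtype.property _ (fun g => @Cfsg.Agent.Nodes.RGDTwCoord.okP = @g) _) | rfl | trivial
private noncomputable def _root_.Cfsg.Agent.KOe8dd13a.k105.{ku0, ku1} : ((x0 : Sort (ku0+1)) → ((x1 : Sort (ku1+1)) → ((@DecidableEq.{(ku0+1)} @x0) → ((@DecidableEq.{(ku1+1)} @x1) → @DecidableEq.{(max (ku1+1) (ku0+1))} (@Prod.{ku0, ku1} @x0 @x1))))) := @(fun (x0 : Sort (ku0+1)) (x1 : Sort (ku1+1)) (x2 : @DecidableEq.{(ku0+1)} @x0) (x3 : @DecidableEq.{(ku1+1)} @x1) (x4 : @Prod.{ku0, ku1} @x0 @x1) (x5 : @Prod.{ku0, ku1} @x0 @x1) => @Prod.rec.{1, ku0, ku1} @x0 @x1 @(fun (x6 : @Prod.{ku0, ku1} @x0 @x1) => @Decidable (@Eq.{(max (ku1+1) (ku0+1))} (@Prod.{ku0, ku1} @x0 @x1) @x6 @x5)) @(fun (x6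 : x0) (x7 : x1) => @Prod.rec.{1, ku0, ku1} @x0 @x1 @(fun (x8 : @Prod.{ku0, ku1} @x0 @x1) => @Decidable (@Eq.{(max (ku1+1) (ku0+1))} (@Prod.{ku0, ku1} @x0 @x1) (@Prod.mk.{ku0, ku1} @x0 @x1 @x6 @x7) @x8)) @(fun (x8 : x0) (x9 : x1) => @Decidable.rec.{1} (@Eq.{(ku0+1)} @x0 @x6 @x8) @(fun (x10 : @Decidable (@Eq.{(ku0+1)} @x0 @x6 @x8)) => @Decidable (@Eq.{(max (ku1+1) (ku0+1))} (@Prod.{ku0, ku1} @x0 @x1) (@Prod.mk.{ku0, ku1} @x0 @x1 @x6 @x7) (@Prod.mk.{ku0, ku1} @x0 @x1 @x8 @x9))) @(fun (x10 : @Not (@Eq.{(ku0+1)} @x0 @x6 @x8)) => @Decidable.isFalse (@Eq.{(max (ku1+1) (ku0+1))} (@Prod.{ku0, ku1} @x0 @x1) (@Prod.mk.{ku0, ku1} @x0 @x1 @x6 @x7) (@Prod.mk.{ku0, ku1} @x0 @x1 @x8 @x9)) (@instDecidableEqProd._proof_3.{ku1, ku0} @x0 @x1 @x6 @x7 @x8 @x9 @x10)) @(fun (x10 : @Eq.{(ku0+1)} @x0 @x6 @x8) => @Decidable.rec.{1} (@Eq.{(ku1+1)} @x1 @x7 @x9) @(fun (x11 : @Decidable (@Eq.{(ku1+1)} @x1 @x7 @x9)) =>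 @Decidable (@Eq.{(max (ku1+1) (ku0+1))} (@Prod.{ku0, ku1} @x0 @x1) (@Prod.mk.{ku0, ku1} @x0 @x1 @x6 @x7) (@Prod.mk.{ku0, ku1} @x0 @x1 @x8 @x9))) @(fun (x11 : @Not (@Eq.{(ku1+1)} @x1 @x7 @x9)) => @Decidable.isFalse (@Eq.{(max (ku1+1) (ku0+1))} (@Prod.{ku0, ku1} @x0 @x1) (@Prod.mk.{ku0, ku1} @x0 @x1 @x6 @x7) (@Prod.mk.{ku0, ku1} @x0 @x1 @x8 @x9)) (@instDecidableEqProd._proof_2.{ku1, ku0} @x0 @x1 @x6 @x7 @x8 @x9 @x11)) @(fun (x11 : @Eq.{(ku1+1)} @x1 @x7 @x9) => @Decidable.isTrue (@Eq.{(max (ku1+1) (ku0+1))} (@Prod.{ku0, ku1} @x0 @x1) (@Prod.mk.{ku0, ku1} @x0 @x1 @x6 @x7) (@Prod.mk.{ku0, ku1} @x0 @x1 @x8 @x9)) (@instDecidableEqProd._proof_1.{ku1, ku0} @x0 @x1 @x6 @x7 @x8 @x9 @x10 @x11)) (@x3 @x7 @x9)) (@x2 @x6 @x8)) @x5) @x4)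
private theorem _root_.Cfsg.Agent.KOe8dd13a.e105.{ku0, ku1} : @instDecidableEqProd.{ku0, ku1} = @_root_.Cfsg.Agent.KOe8dd13a.k105.{ku0, ku1} := by delta _root_.Cfsg.Agent.KOe8dd13a.k105; rfl'
private noncomputable def _root_.Cfsg.Agent.KOe8dd13a.k106 : (by first | exact type_of% @Cfsg.Agent.Nodes.RGDTwCoord.dc | exact Unit : Sort _) := by first | (refine @Subtype.val _ (fun g => @Cfsg.Agent.Nodes.RGDTwCoord.dc = @g) (@Subtype.mk _ _ (@(fun (x0 : @Nat) => @Cfsg.Agent.KOe8dd13a.k27.{1} @Int (@Nat.mod @x0 (nat_lit 2)) (nat_lit 0) (@Nat.rec.{1} @(fun (x1 : @Nat) => @Int) (@Int.ofNat (nat_lit 0)) @(fun (x1 : @Nat) (x2 : @Int) => @Int.negSucc @x1) (nat_lit 1)) (@Int.ofNat (nat_lit 1)))) ?_); rewrite [← Cfsg.Agent.KOe8dd13a.e27.{1}]; rfl') | exact @Cfsg.Agent.Nodes.RGDTwCoord.dc | exact ()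
private theorem _root_.Cfsg.Agent.KOe8dd13a.e106 : (by first | exact @Cfsg.Agent.Nodes.RGDTwCoord.dc = @_root_.Cfsg.Agent.KOe8dd13a.k106 | exact True : Prop) := by first | (delta _root_.Cfsg.Agent.KOe8dd13a.k106; exact @Subtype.property _ (fun g => @Cfsg.Agent.Nodes.RGDTwCoord.dc = @g) _) | rfl | trivial
private noncomputable def _root_.Cfsg.Agent.KOe8dd13a.k107 : (by first | exact type_of% @Cfsg.Agent.Nodes.RGDTwCoord.NN | exact Unit : Sort _) := by first | (refine @Subtype.val _ (fun g => @Cfsg.Agent.Nodes.RGDTwCoord.NN = @g) (@Subtype.mk _ _ (@(fun (x0 : (@Nat → (@Nat → @Nat))) (x1 : (@Nat → @Int)) (x2 : @Nat) (x3 : @Nat) => @Cfsg.Agent.KOe8dd13a.k76 (@Cfsg.Agent.KOe8dd13a.k76 (@Cfsg.Agent.KOe8dd13a.k76 (@x1 (@Cfsg.Agent.KOe8dd13a.k101 (@x0 @x2 @x3))) (@Cfsg.Agent.KOe8dd13a.k106 (@x0 @x2 @x3))) (@x1 @x2)) (@x1 @x3))) ?_); rewrite [← Cfsg.Agent.KOe8dd13a.e106, ← Cfsg.Agent.KOe8dd13a.e101,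 ← Cfsg.Agent.KOe8dd13a.e76]; (try delta Cfsg.Agent.Nodes.RGDTwCoord.NN); (try generalize @Cfsg.Agent.Nodes.RGDTwCoord.dk = g0); (try generalize @Cfsg.Agent.Nodes.RGDTwCoord.dc = g1); rfl') | exact @Cfsg.Agent.Nodes.RGDTwCoord.NN | exact ()
private theorem _root_.Cfsg.Agent.KOe8dd13a.e107 : (by first | exact @Cfsg.Agent.Nodes.RGDTwCoord.NN = @_root_.Cfsg.Agent.KOe8dd13a.k107 | exact True : Prop) := by first | (delta _root_.Cfsg.Agent.KOe8dd13a.k107; exact @Subtype.property _ (fun g => @Cfsg.Agent.Nodes.RGDTwCoord.NN = @g) _) | rfl | trivial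
private noncomputable def _root_.Cfsg.Agent.KOe8dd13a.k108.{ku0} : ((x0 : Sort (ku0+1)) → ((x0 → @Bool) → ((@List.{ku0} @x0) → (@Nat → @Nat)))) := @(fun (x0 : Sort (ku0+1)) (x1 : (x0 → @Bool)) (x2 : @List.{ku0} @x0) (x3 : @Nat) => @List.rec.{1, ku0} @x0 @(fun (x4 : @List.{ku0} @x0) => (@Nat → @Nat)) @(fun (x4 : @Nat) => x4) @(fun (x4 : x0) (x5 : @List.{ku0} @x0) (x6 : (@Nat → @Nat)) (x7 : @Nat) => @Bool.rec.{1} @(fun (x8 : @Bool) => @Nat) (@x6 (@Nat.add @x7 (nat_lit 1))) @x7 (@x1 @x4)) @x2 @x3)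
private theorem _root_.Cfsg.Agent.KOe8dd13a.e108.{ku0} : @List.findIdx.go.{ku0} = @_root_.Cfsg.Agent.KOe8dd13a.k108.{ku0} := by delta _root_.Cfsg.Agent.KOe8dd13a.k108; funext a0 a1 a2 a3; refine (congrFun (_root_.Cfsg.Agent.KOe8dd13a.e3 (fun a2 a3 => @List.findIdx.go.{ku0} a0 a1 a2 a3) ?_ (fun c0 c1 => ?_) a2) a3 :) <;> (rfl')
private noncomputable def _root_.Cfsg.Agent.KOe8dd13a.k109 : (by first | exact type_of% @Cfsg.Agent.Nodes.RGDTwCoord.tm | exact Unit : Sort _) := by first | (refine @Subtype.val _ (fun g => @Cfsg.Agent.Nodes.RGDTwCoord.tm = @g) (@Subtype.mk _ _ (@(fun (x0 : (@Nat → (@Nat → @Nat))) (x1 : (@Nat → @Int)) (x2 : @List.{0} @Nat) (x3 : @List.{0} @Nat) (x4 : @Nat) => @Cfsg.Agent.KOe8dd13a.k9.{0} (@Prod.{0, 0} @Int (@Prod.{0, 0} @Nat @Nat)) (@Cfsg.Agent.KOe8dd13a.k25.{0, 0} @Nat (@List.{0} (@Prod.{0, 0} @Int (@Prod.{0, 0} @Nat @Nat))) @(fun (x5 : @Nat) => @Cfsg.Agent.KOe8dd13a.k25.{0,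 0} @Nat (@Prod.{0, 0} @Int (@Prod.{0, 0} @Nat @Nat)) @(fun (x6 : @Nat) => @Prod.mk.{0, 0} @Int (@Prod.{0, 0} @Nat @Nat) (@Cfsg.Agent.KOe8dd13a.k107 @x0 @x1 @x5 @x6) (@Prod.mk.{0, 0} @Nat @Nat (@Cfsg.Agent.KOe8dd13a.k108.{0} @Nat @(fun (x7 : @Nat) => @Cfsg.Agent.KOe8dd13a.k27.{1} @Bool @x7 @x5 @Bool.false @Bool.true) @x2 (nat_lit 0)) (@Cfsg.Agent.KOe8dd13a.k108.{0} @Nat @(fun (x7 : @Nat) => @Cfsg.Agent.KOe8dd13a.k27.{1} @Bool @x7 @x6 @Bool.false @Bool.true) @x3 (nat_lit 0)))) (@Cfsg.Agent.KOe8dd13a.k85.{0} @Nat @(fun (x6 : @Nat) => @Decidable.rec.{1} (@And (@LE.le.{0} @Nat @instLENat (@OfNat.ofNat.{0} @Nat (nat_lit 2) (@instOfNatNat (nat_lit 2))) (@x0 @x5 @x6)) (@Eq.{1} @Nat (@Cfsg.Agent.KOe8dd13a.k101 (@x0 @x5 @x6)) @x4)) @(fun (x7 : @Decidable (@And (@LE.le.{0} @Nat @instLENat (@OfNat.ofNat.{0} @Nat (nat_lit 2) (@instOfNatNat (nat_lit 2))) (@x0 @x5 @x6)) (@Eq.{1} @Nat (@Cfsg.Agent.KOe8dd13a.k101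 (@x0 @x5 @x6)) @x4))) => @Bool) @(fun (x7 : @Not (@And (@LE.le.{0} @Nat @instLENat (@OfNat.ofNat.{0} @Nat (nat_lit 2) (@instOfNatNat (nat_lit 2))) (@x0 @x5 @x6)) (@Eq.{1} @Nat (@Cfsg.Agent.KOe8dd13a.k101 (@x0 @x5 @x6)) @x4))) => @Bool.false) @(fun (x7 : @And (@LE.le.{0} @Nat @instLENat (@OfNat.ofNat.{0} @Nat (nat_lit 2) (@instOfNatNat (nat_lit 2))) (@x0 @x5 @x6)) (@Eq.{1} @Nat (@Cfsg.Agent.KOe8dd13a.k101 (@x0 @x5 @x6)) @x4)) => @Bool.true) (@Cfsg.Agent.KOe8dd13a.k30 (@LE.le.{0} @Nat @instLENat (@OfNat.ofNat.{0} @Nat (nat_lit 2) (@instOfNatNat (nat_lit 2))) (@x0 @x5 @x6)) (@Eq.{1} @Nat (@Cfsg.Agent.KOe8dd13a.k101 (@x0 @x5 @x6)) @x4) (@Cfsg.Agent.KOe8dd13a.k31 (nat_lit 2) (@x0 @x5 @x6)) (@Cfsg.Agent.KOe8dd13a.k6 (@Cfsg.Agent.KOe8dd13a.k101 (@x0 @x5 @x6)) @x4))) @x3)) @x2))) ?_); rewrite [← Cfsg.Agent.KOe8dd13a.e101, ← Cfsg.Agent.KOe8dd13a.e6, ← Cfsg.Agent.KOe8dd13a.e31, ← Cfsg.Agent.KOe8dd13a.e30,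 ← Cfsg.Agent.KOe8dd13a.e85.{0}, ← Cfsg.Agent.KOe8dd13a.e27.{1}, ← Cfsg.Agent.KOe8dd13a.e108.{0}, ← Cfsg.Agent.KOe8dd13a.e107, ← Cfsg.Agent.KOe8dd13a.e25.{0, 0}, ← Cfsg.Agent.KOe8dd13a.e9.{0}]; (try delta Cfsg.Agent.Nodes.RGDTwCoord.tm); (try generalize @Cfsg.Agent.Nodes.RGDTwCoord.NN = g0); (try generalize @Cfsg.Agent.Nodes.RGDTwCoord.dk = g1); rfl') | exact @Cfsg.Agent.Nodes.RGDTwCoord.tm | exact ()
private theorem _root_.Cfsg.Agent.KOe8dd13a.e109 : (by first | exact @Cfsg.Agent.Nodes.RGDTwCoord.tm = @_root_.Cfsg.Agent.KOe8dd13a.k109 | exact True : Prop) := by first | (delta _root_.Cfsg.Agent.KOe8dd13a.k109; exact @Subtype.property _ (fun g => @Cfsg.Agent.Nodes.RGDTwCoord.tm = @g) _) | rfl | trivial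
private noncomputable def _root_.Cfsg.Agent.KOe8dd13a.k110 : (by first | exact type_of% @Cfsg.Agent.Nodes.RGDTwCoord.sumB | exact Unit : Sort _) := by first | (refine @Subtype.val _ (fun g => @Cfsg.Agent.Nodes.RGDTwCoord.sumB = @g) (@Subtype.mk _ _ (@(fun (x0 : @Nat) (x1 : (@Nat → (@Nat → @Nat))) (x2 : @Nat) (x3 : @Nat) (x4 : @Nat) => @Bool.rec.{1} @(fun (x5 : @Bool) => @Bool) @Bool.false (@Cfsg.Agent.KOe8dd13a.k97.{1} @Bool (@Nat.succ @x4) @x0 @Bool.false @Bool.true) (@Bool.rec.{1} @(fun (x5 : @Bool) => @Bool) @Bool.false (@Cfsg.Agent.KOe8dd13a.k27.{1} @Bool (@Cfsg.Agent.KOe8dd13a.k101 (@x1 @x2 @x3)) @x4 @Bool.false @Bool.true) (@Bool.rec.{1} @(fun (x5 : @Bool) => @Bool) @Bool.false (@Cfsg.Agent.KOe8dd13a.k97.{1} @Bool (nat_lit 2) (@x1 @x2 @x3) @Bool.false @Bool.true) (@Cfsg.Agent.Nodes.RGDTwCoord.okB @x0 @x1 (@List.cons.{0} @Nat @x4 (@List.nil.{0} @Nat)) @x2 @x3))))) ?_); rewrite [← Cfsg.Agent.KOe8dd13a.e101,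 ← Cfsg.Agent.KOe8dd13a.e27.{1}, ← Cfsg.Agent.KOe8dd13a.e97.{1}]; (try delta Cfsg.Agent.Nodes.RGDTwCoord.sumB); (try generalize @Cfsg.Agent.Nodes.RGDTwCoord.dk = g0); (try generalize @Cfsg.Agent.Nodes.RGDTwCoord.okB = g1); rfl') | exact @Cfsg.Agent.Nodes.RGDTwCoord.sumB | exact ()
private theorem _root_.Cfsg.Agent.KOe8dd13a.e110 : (by first | exact @Cfsg.Agent.Nodes.RGDTwCoord.sumB = @_root_.Cfsg.Agent.KOe8dd13a.k110 | exact True : Prop) := by first | (delta _root_.Cfsg.Agent.KOe8dd13a.k110; exact @Subtype.property _ (fun g => @Cfsg.Agent.Nodes.RGDTwCoord.sumB = @g) _) | rfl | trivial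
private noncomputable def _root_.Cfsg.Agent.KOe8dd13a.k111 : (by first | exact type_of% @Cfsg.Agent.Nodes.RGDTwCoord.okQ | exact Unit : Sort _) := by first | (refine @Subtype.val _ (fun g => @Cfsg.Agent.Nodes.RGDTwCoord.okQ = @g) (@Subtype.mk _ _ (@(fun (x0 : @Nat) (x1 : (@Nat → (@Nat → @Nat))) (x2 : (@Nat → @Int)) (x3 : @Nat) (x4 : @Nat) (x5 : @Nat) (x6 : @Nat) (x7 : @Nat) (x8 : @Nat) => @Bool.rec.{1} @(fun (x9 : @Bool) => @Bool) @Bool.false (@Decidable.rec.{1} (@Eq.{1} @Int (@Cfsg.Agent.KOe8dd13a.k107 @x1 @x2 @x3 @x4) (@Cfsg.Agent.KOe8dd13a.k107 @x1 @x2 @x3 @x5)) @(fun (x9 : @Decidable (@Eq.{1} @Int (@Cfsg.Agent.KOe8dd13a.k107 @x1 @x2 @x3 @x4) (@Cfsg.Agent.KOe8dd13a.k107 @x1 @x2 @x3 @x5))) => @Bool) @(fun (x9 : @Not (@Eq.{1} @Int (@Cfsg.Agent.KOe8dd13a.k107 @x1 @x2 @x3 @x4) (@Cfsg.Agent.KOe8dd13a.k107 @x1 @x2 @x3 @x5))) => @Bool.false) @(fun (x9 : @Eq.{1} @Int (@Cfsg.Agent.KOe8dd13a.k107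 @x1 @x2 @x3 @x4) (@Cfsg.Agent.KOe8dd13a.k107 @x1 @x2 @x3 @x5)) => @Bool.true) (@Cfsg.Agent.KOe8dd13a.k21 (@Cfsg.Agent.KOe8dd13a.k107 @x1 @x2 @x3 @x4) (@Cfsg.Agent.KOe8dd13a.k107 @x1 @x2 @x3 @x5))) (@Bool.rec.{1} @(fun (x9 : @Bool) => @Bool) @Bool.false (@Cfsg.Agent.KOe8dd13a.k98 @x0 @x1 @x8 @x7) (@Bool.rec.{1} @(fun (x9 : @Bool) => @Bool) @Bool.false (@Cfsg.Agent.KOe8dd13a.k110 @x0 @x1 @x4 @x7 @x8) (@Bool.rec.{1} @(fun (x9 : @Bool) => @Bool) @Bool.false (@Cfsg.Agent.KOe8dd13a.k110 @x0 @x1 @x3 @x5 @x7) (@Cfsg.Agent.KOe8dd13a.k110 @x0 @x1 @x3 @x4 @x6)))))) ?_); rewrite [← Cfsg.Agent.KOe8dd13a.e110, ← Cfsg.Agent.KOe8dd13a.e98, ← Cfsg.Agent.KOe8dd13a.e107, ← Cfsg.Agent.KOe8dd13a.e21]; (try delta Cfsg.Agent.Nodes.RGDTwCoord.okQ); (try generalize @Cfsg.Agent.Nodes.RGDTwCoord.NN = g0); (try generalize @Cfsg.Agent.Nodes.RGDTwCoord.comB = g1); (try generalize @Cfsg.Agent.Nodes.RGDTwCoord.sumB =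 g2); rfl') | exact @Cfsg.Agent.Nodes.RGDTwCoord.okQ | exact ()
private theorem _root_.Cfsg.Agent.KOe8dd13a.e111 : (by first | exact @Cfsg.Agent.Nodes.RGDTwCoord.okQ = @_root_.Cfsg.Agent.KOe8dd13a.k111 | exact True : Prop) := by first | (delta _root_.Cfsg.Agent.KOe8dd13a.k111; exact @Subtype.property _ (fun g => @Cfsg.Agent.Nodes.RGDTwCoord.okQ = @g) _) | rfl | trivial

private theorem chk_all2 : ((O.zip vtab).all fun a => (O.zip vtab).all fun b => chk a.1 b.1 a.2 b.2) = true := by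
  delta chk kd
  rewrite [dgE6_shift]
  (first | (rewrite [Cfsg.Agent.KOe8dd13a.e91.{0}, Cfsg.Agent.KOe8dd13a.e94.{0, 0}, Cfsg.Agent.KOe8dd13a.e40.{0}, Cfsg.Agent.KOe8dd13a.e95.{0}, Cfsg.Agent.KOe8dd13a.e66.{1}, Cfsg.Agent.KOe8dd13a.e89, Cfsg.Agent.KOe8dd13a.e53.{0}, Cfsg.Agent.KOe8dd13a.e96, Cfsg.Agent.KOe8dd13a.e98, Cfsg.Agent.KOe8dd13a.e0, Cfsg.Agent.KOe8dd13a.e99, Cfsg.Agent.KOe8dd13a.e22, Cfsg.Agent.KOe8dd13a.e90, Cfsg.Agent.KOe8dd13a.e100, Cfsg.Agent.KOe8dd13a.e5.{0}, Cfsg.Agent.KOe8dd13a.e101, Cfsg.Agent.KOe8dd13a.e104, Cfsg.Agent.KOe8dd13a.e43.{0}, Cfsg.Agent.KOe8dd13a.e105.{0, 0}, Cfsg.Agent.KOe8dd13a.e109, Cfsg.Agent.KOe8dd13a.e56, Cfsg.Agent.KOe8dd13a.e107, Cfsg.Agent.KOe8dd13a.e49, Cfsg.Agent.KOe8dd13a.e111]; decide +kernel) | decide +kernel)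

theorem chk_all : ∀ i < 48, ∀ j < 48,
    chk (O.getD i []) (O.getD j []) (vtab.getD i (0, 0, 0, 0)) (vtab.getD j (0, 0, 0, 0)) = true := by
  have h : ∀ i < 48, (O.getD i [], vtab.getD i (0, 0, 0, 0)) ∈ O.zip vtab := fun i hi => by
    have h1 : i < O.length := hi
    have h2 : i < vtab.length := hi
    rw [List.getD_eq_getElem _ _ h1, List.getD_eq_getElem _ _ h2, ← List.getElem_zip (h := by rw [List.length_zip]; omega)]
    exact List.getElem_mem _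
  exact fun i hi j hj => List.all_eq_true.1 (List.all_eq_true.1 chk_all2 _ (h i hi)) _ (h j hj)

end Cfsg.Agent.Nodes.RGDTwCoordE6
end

-- part: Nodes/RGDTwComE6
section
/-!
The commutator formulas of `²E₆(q)`, for the root elements `x φ q z a` (`RGDTwCoordE6`).

`φ a = a` for `z` long (`Lg z`), `a : K` arbitrary for `z` short (`St z`).
-/

set_option autoImplicit false
set_option linter.unusedSectionVars false
set_option maxHeartbeats 400000
set_option Elab.async false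

namespace Cfsg.Agent.Nodes.RGDTwComE6

open CoxeterSystem Cfsg.Agent.ChevalleyStructure.CoxeterGeom Cfsg.Agent.Tits.Roots Cfsg.Agent.Tits.Core
  Cfsg.Agent.Nodes.BNOf Cfsg.Agent.Nodes.RGDTwGen Cfsg.Agent.Nodes.RGDChev Cfsg.Agent.Nodes.RGDFold
  Cfsg.Agent.Nodes.RGDFoldSL Cfsg.Agent.Nodes.RGDTwE6 Cfsg.Agent.Nodes.RGDTwTab Cfsg.Agent.Nodes.RGDTwCoordE6
  Cfsg.Agent.Nodes.RGDTwCoord
open Cfsg.Lie Cfsg.Agent.ChevalleyStructure
  Cfsg.Agent.ChevalleyStructure.TwistedU Cfsg.Agent.ChevalleyStructure.TwistedFix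
open Cfsg.Agent.ChevalleyStructure.TwE6Basic (sg)
open scoped commutatorElement

universe u

/-- The class of a vector. -/
local notation "cl" => RGDTwCoord.cl chevE6 J O

/-! ### Roots -/

section Roots

variable {W : Type*} [Group W] {cs : CoxeterSystem CoxeterMatrix.F₄ W} {z w : Fin 4 → ℤ}

theorem nroots_eq : chevE6.nroots = 72 := by decide +kernel


theorem root (hz : IsRoot cs isCartan z) : cl z ∈ O ∧ V chevE6 J ((cl z).headD 0) = z ∧
    ∀ s < chevE6.nroots, (V chevE6 J s = z ↔ s ∈ cl z) :=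
  clData.root foldData hp.checked (fun i _ hr => wp_lt hp (J i) hr) hz

theorem vec_eq {i : ℕ} (hi : i < 48) : V chevE6 J ((O.getD i []).headD 0) =
    ![(vtab.getD i (0, 0, 0, 0)).1, (vtab.getD i (0, 0, 0, 0)).2.1, (vtab.getD i (0, 0, 0, 0)).2.2.1,
      (vtab.getD i (0, 0, 0, 0)).2.2.2] := funext (vtab_eq i hi)

/-- A root with its table entry. -/
theorem exists_index (hz : IsRoot cs isCartan z) : ∃ i < 48, cl z = O.getD i [] ∧
    z = ![(vtab.getD i (0, 0, 0, 0)).1, (vtab.getD i (0, 0, 0, 0)).2.1, (vtab.getD i (0, 0, 0, 0)).2.2.1,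
      (vtab.getD i (0, 0, 0, 0)).2.2.2] := by
  obtain ⟨ho, hV, -⟩ := root hz
  obtain ⟨i, hi, e⟩ := List.mem_iff_getElem.1 ho
  have h1 : cl z = O.getD i [] := by
    rw [List.getD_eq_getElem _ _ hi]; exact e.symm
  rw [O_length] at hi
  refine ⟨i, hi, h1, ?_⟩
  rw [← vec_eq hi, ← h1]
  exact hV.symm

/-- `z` is a long root: its root group has order `q`. -/
def Lg (z : Fin 4 → ℤ) : Prop := Qv z = 4

/-- `z` is a short root: its root group has order `q²`. -/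
def St (z : Fin 4 → ℤ) : Prop := Qv z = 2

instance : DecidablePred Lg := fun _ => inferInstanceAs (Decidable (_ = _))
instance : DecidablePred St := fun _ => inferInstanceAs (Decidable (_ = _))

theorem length_cases (hz : IsRoot cs isCartan z) :
    ((cl z).length = 1 ∧ Lg z) ∨ ((cl z).length = 2 ∧ St z) := by
  obtain ⟨i, hi, e, e'⟩ := exists_index hz
  rcases Q_tab i hi with ⟨h1, h2⟩ | ⟨h1, h2⟩
  · left
    refine ⟨by rw [e, h1], ?_⟩
    unfold Lg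
    rw [← h2, e']
    rfl
  · right
    refine ⟨by rw [e, h1], ?_⟩
    unfold St
    rw [← h2, e']
    rfl

theorem Lg.length (hz : IsRoot cs isCartan z) (h : Lg z) : (cl z).length = 1 := by
  rcases length_cases hz with ⟨h1, h2⟩ | ⟨h1, h2⟩
  · exact h1
  · unfold Lg at h; unfold St at h2; omega

theorem St.length (hz : IsRoot cs isCartan z) (h : St z) : (cl z).length = 2 := by
  rcases length_cases hz with ⟨h1, h2⟩ | ⟨h1, h2⟩
  · unfold Lg at h2; unfold St at h; omega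
  · exact h1

theorem long_or_short (hz : IsRoot cs isCartan z) : Lg z ∨ St z := by
  rcases length_cases hz with ⟨-, h⟩ | ⟨-, h⟩
  · exact Or.inl h
  · exact Or.inr h

theorem not_both (h : Lg z) (h' : St z) : False := by
  unfold Lg at h; unfold St at h'; omega

theorem V_of_mem (hz : IsRoot cs isCartan z) {s : ℕ} (hs : s ∈ cl z) : s < chevE6.nroots ∧ V chevE6 J s = z := by
  obtain ⟨ho, -, h⟩ := root hz
  have h1 := clData.lt _ ho s hs
  exact ⟨h1, (h s h1).2 hs⟩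

theorem head_mem (hz : IsRoot cs isCartan z) : (cl z).headD 0 ∈ cl z := by
  obtain ⟨r, o', e⟩ := List.exists_cons_of_ne_nil (clData.ne _ (root hz).1)
  rw [e]; exact List.mem_cons_self

theorem last_mem (hz : IsRoot cs isCartan z) : (cl z).getLastD 0 ∈ cl z := by
  have h := clData.ne _ (root hz).1
  rw [List.getLastD_eq_getLast?, List.getLast?_eq_getLast_of_ne_nil h, Option.getD_some]
  exact List.getLast_mem h

/-- The class of a root of `E₆`. -/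
theorem cl_V {o : List ℕ} (ho : o ∈ O) {k : ℕ} (hk : k ∈ o) : cl (V chevE6 J k) = o := by
  have h1 := (clData.cls o ho k (clData.lt o ho k hk)).2 hk
  rw [h1]
  exact clData.cl_eq o ho

/-- The check for two roots. -/
theorem exists_chk (hz : IsRoot cs isCartan z) (hw : IsRoot cs isCartan w) : ∃ v v' : ℤ × ℤ × ℤ × ℤ,
    chk (cl z) (cl w) v v' = true ∧ Q4 (ad v v') = Qv (z + w) := by
  obtain ⟨i, hi, e, e'⟩ := exists_index hz
  obtain ⟨j, hj, f, f'⟩ := exists_index hw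
  refine ⟨vtab.getD i (0, 0, 0, 0), vtab.getD j (0, 0, 0, 0), ?_, ?_⟩
  · rw [e, f]
    exact chk_all i hi j hj
  · rw [e', f']
    rfl

theorem eq_neg_of_kd (hz : IsRoot cs isCartan z) (hw : IsRoot cs isCartan w) (h : kd (cl z) (cl w) = 0) :
    w = -z := by
  have h1 : dgE6 ((cl z).headD 0) ((cl w).headD 0) = 1 ∨ dgE6 ((cl z).headD 0) ((cl w).getLastD 0) = 1 := by
    by_contra hne
    unfold kd at h
    rw [if_neg hne] at h
    split_ifs at h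
  have hz' := V_of_mem hz (head_mem hz)
  rcases h1 with h1 | h1
  · have hw' := V_of_mem hw (head_mem hw)
    have h2 := V_opp clData.dgOK hp J hz'.1 hw'.1 h1
    rw [hz'.2, hw'.2] at h2
    exact h2
  · have hw' := V_of_mem hw (last_mem hw)
    have h2 := V_opp clData.dgOK hp J hz'.1 hw'.1 h1
    rw [hz'.2, hw'.2] at h2
    exact h2

/-- Two roots whose sum is a root. -/
theorem kd_ne (hz : IsRoot cs isCartan z) (hw : IsRoot cs isCartan w) (hzw : IsRoot cs isCartan (z + w)) :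
    kd (cl z) (cl w) ≠ 0 ∧ kd (cl z) (cl w) ≠ 1 := by
  constructor
  · intro h
    have h1 := eq_neg_of_kd hz hw h
    rw [h1, add_neg_cancel] at hzw
    exact hzw.ne_zero rfl
  · intro h
    obtain ⟨v, v', h1, h2⟩ := exists_chk hz hw
    unfold chk at h1
    rw [h] at h1
    simp only [Bool.and_eq_true, decide_eq_true_eq] at h1
    rcases long_or_short hzw with h3 | h3
    · exact h1.2 (h2.trans h3)
    · exact h1.1.2 (h2.trans h3)

theorem isRoot_V {k : ℕ} (hk : k < chevE6.nroots) : IsRoot cs isCartan (V chevE6 J k) :=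
  (foldData.isRoot_iff hp.checked (fun i _ hr => wp_lt hp (J i) hr) _).2 ⟨k, hk, rfl⟩

/-- A pair of roots of `E₆` with sum. -/
theorem sum_facts (hz : IsRoot cs isCartan z) (hw : IsRoot cs isCartan w) {r s : ℕ} (hr : r ∈ cl z) (hs : s ∈ cl w)
    (h : 2 ≤ dgE6 r s) : dk (dgE6 r s) < chevE6.nroots ∧ V chevE6 J (dk (dgE6 r s)) = z + w ∧
      IsRoot cs isCartan (z + w) := by
  obtain ⟨h1, h2⟩ := V_of_mem hz hr
  obtain ⟨h3, h4⟩ := V_of_mem hw hs
  obtain ⟨h5, h6⟩ := V_sum clData.dgOK hp J h1 h3 h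
  rw [h2, h4] at h6
  exact ⟨h5, h6, by rw [← h6]; exact isRoot_V h5⟩

/-- Two nonopposite roots whose sum is not a root. -/
theorem kd_eq_one (hz : IsRoot cs isCartan z) (hw : IsRoot cs isCartan w) (hzw : ¬ IsRoot cs isCartan (z + w))
    (hne : w ≠ -z) : kd (cl z) (cl w) = 1 := by
  have h0 : kd (cl z) (cl w) ≠ 0 := fun h => hne (eq_neg_of_kd hz hw h)
  have h1 : ¬ 2 ≤ dgE6 ((cl z).headD 0) ((cl w).headD 0) := fun h =>
    hzw (sum_facts hz hw (head_mem hz) (head_mem hw) h).2.2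
  have h2 : ¬ 2 ≤ dgE6 ((cl z).headD 0) ((cl w).getLastD 0) := fun h =>
    hzw (sum_facts hz hw (head_mem hz) (last_mem hw) h).2.2
  unfold kd at h0 ⊢
  split_ifs at h0 ⊢ <;> omega

/-- `z` long, `w` long. -/
theorem kd_long (hz : IsRoot cs isCartan z) (hw : IsRoot cs isCartan w) (hzw : IsRoot cs isCartan (z + w))
    (lz : Lg z) (lw : Lg w) : kd (cl z) (cl w) = 2 := by
  obtain ⟨h0, h1⟩ := kd_ne hz hw hzw
  have h2 := lz.length hz
  have h3 := lw.length hw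
  unfold kd at h0 h1 ⊢
  split_ifs at h0 h1 ⊢ <;> omega

/-- `z` long, `w` short. -/
theorem kd_quad (hz : IsRoot cs isCartan z) (hw : IsRoot cs isCartan w) (hzw : IsRoot cs isCartan (z + w))
    (lz : Lg z) (sw : St w) : kd (cl z) (cl w) = 5 := by
  obtain ⟨h0, h1⟩ := kd_ne hz hw hzw
  have h2 := lz.length hz
  have h3 := sw.length hw
  unfold kd at h0 h1 ⊢
  split_ifs at h0 h1 ⊢ <;> omega

theorem kd_ss (hz : IsRoot cs isCartan z) (hw : IsRoot cs isCartan w) (hzw : IsRoot cs isCartan (z + w))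
    (sz : St z) (sw : St w) : kd (cl z) (cl w) = 3 ∨ kd (cl z) (cl w) = 4 := by
  obtain ⟨h0, h1⟩ := kd_ne hz hw hzw
  have h2 := sz.length hz
  have h3 := sw.length hw
  unfold kd at h0 h1 ⊢
  split_ifs at h0 h1 ⊢ <;> omega

/-- The structure constant of two roots with sum a root. -/
def N (z w : Fin 4 → ℤ) : ℤ :=
  if kd (cl z) (cl w) = 3 then NN dgE6 dl ((cl z).headD 0) ((cl w).getLastD 0)
  else if kd (cl z) (cl w) = 4 then NN dgE6 dl ((cl z).getLastD 0) ((cl w).getLastD 0)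
  else NN dgE6 dl ((cl z).headD 0) ((cl w).headD 0)

/-- The second structure constant of a long and a short root. -/
def N2 (z w : Fin 4 → ℤ) : ℤ := NN dgE6 dl ((cl z).headD 0) ((cl w).headD 0) *
  NN dgE6 dl ((cl w).headD 0) (dk (dgE6 ((cl z).headD 0) ((cl w).getLastD 0)))

theorem facts_long (hz : IsRoot cs isCartan z) (hw : IsRoot cs isCartan w) (hk : kd (cl z) (cl w) = 2) :
    ∃ k, cl (z + w) = [k] ∧ okP 72 dgE6 [k] (cl z) (cl w) = true ∧ tm dgE6 dl (cl z) (cl w) k = [(N z w, 0, 0)] := by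
  obtain ⟨v, v', h1, -⟩ := exists_chk hz hw
  have h2 : 2 ≤ dgE6 ((cl z).headD 0) ((cl w).headD 0) := by
    unfold kd at hk
    split_ifs at hk <;> omega
  obtain ⟨-, h4, -⟩ := sum_facts hz hw (head_mem hz) (head_mem hw) h2
  unfold chk at h1
  rw [hk] at h1
  simp only [Bool.and_eq_true, decide_eq_true_eq] at h1
  refine ⟨dk (dgE6 ((cl z).headD 0) ((cl w).headD 0)), ?_, h1.1.2, ?_⟩
  · rw [← h4]
    exact cl_V h1.1.1 List.mem_cons_self
  · unfold N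
    rw [if_neg (by rw [hk]; decide), if_neg (by rw [hk]; decide)]
    exact h1.2

theorem facts_trace (hz : IsRoot cs isCartan z) (hw : IsRoot cs isCartan w) (hk : kd (cl z) (cl w) = 3) :
    ∃ k, cl (z + w) = [k] ∧ okP 72 dgE6 [k] (cl z) (cl w) = true ∧
      tm dgE6 dl (cl z) (cl w) k = [(N z w, 0, 1), (N z w, 1, 0)] := by
  obtain ⟨v, v', h1, -⟩ := exists_chk hz hw
  have h2 : 2 ≤ dgE6 ((cl z).headD 0) ((cl w).getLastD 0) := by
    unfold kd at hk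
    split_ifs at hk <;> omega
  obtain ⟨-, h4, -⟩ := sum_facts hz hw (head_mem hz) (last_mem hw) h2
  unfold chk at h1
  rw [hk] at h1
  simp only [Bool.and_eq_true, decide_eq_true_eq] at h1
  refine ⟨dk (dgE6 ((cl z).headD 0) ((cl w).getLastD 0)), ?_, h1.1.2, ?_⟩
  · rw [← h4]
    exact cl_V h1.1.1 List.mem_cons_self
  · unfold N
    rw [if_pos hk]
    exact h1.2

theorem facts_short (hz : IsRoot cs isCartan z) (hw : IsRoot cs isCartan w) (hk : kd (cl z) (cl w) = 4) :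
    ∃ u₀ u₁, cl (z + w) = [u₀, u₁] ∧ okP 72 dgE6 [u₀, u₁] (cl z) (cl w) = true ∧
      tm dgE6 dl (cl z) (cl w) u₀ = [(N z w, 1, 1)] := by
  obtain ⟨v, v', h1, -⟩ := exists_chk hz hw
  have h2 : 2 ≤ dgE6 ((cl z).headD 0) ((cl w).headD 0) := by
    unfold kd at hk
    split_ifs at hk <;> omega
  obtain ⟨-, h4, -⟩ := sum_facts hz hw (head_mem hz) (head_mem hw) h2
  unfold chk at h1
  rw [hk] at h1
  simp only [Bool.and_eq_true, decide_eq_true_eq] at h1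
  refine ⟨_, _, ?_, h1.1.2, ?_⟩
  · rw [← h4]
    exact cl_V h1.1.1 (List.mem_cons_of_mem _ List.mem_cons_self)
  · unfold N
    rw [if_neg (by rw [hk]; decide), if_pos hk]
    exact h1.2

theorem facts_quad (hz : IsRoot cs isCartan z) (hw : IsRoot cs isCartan w) (hk : kd (cl z) (cl w) = 5) :
    ∃ r s₀ s₁ u₀ u₁ v, cl z = [r] ∧ cl w = [s₀, s₁] ∧ cl (z + w) = [u₀, u₁] ∧ cl (z + (2 : ℤ) • w) = [v] ∧
      IsRoot cs isCartan (z + w) ∧ IsRoot cs isCartan (z + (2 : ℤ) • w) ∧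
      okQ 72 dgE6 dl r s₀ s₁ u₀ u₁ v = true ∧ N z w = NN dgE6 dl r s₀ ∧
      N2 z w = NN dgE6 dl r s₀ * NN dgE6 dl s₀ u₁ := by
  obtain ⟨v, v', h1, -⟩ := exists_chk hz hw
  have h2 : 2 ≤ dgE6 ((cl z).headD 0) ((cl w).headD 0) ∧ (cl z).length = 1 ∧ (cl w).length ≠ 1 := by
    unfold kd at hk
    split_ifs at hk <;> omega
  have h3 : (cl w).length = 2 := by
    rcases length_cases hw with ⟨h, -⟩ | ⟨h, -⟩
    · exact absurd h h2.2.2
    · exact h
  obtain ⟨r, er⟩ := List.length_eq_one_iff.1 h2.2.1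
  obtain ⟨s₀, s₁, es⟩ := List.length_eq_two.1 h3
  obtain ⟨-, h4, h4'⟩ := sum_facts hz hw (head_mem hz) (head_mem hw) h2.1
  unfold chk at h1
  rw [hk] at h1
  simp only [Bool.and_eq_true, decide_eq_true_eq] at h1
  obtain ⟨⟨h5, h6⟩, h7⟩ := h1
  have e1 : (cl z).headD 0 = r := by rw [er]; rfl
  have e2 : (cl w).headD 0 = s₀ := by rw [es]; rfl
  have e3 : (cl w).getLastD 0 = s₁ := by rw [es]; rfl
  have hN : N z w = NN dgE6 dl r s₀ := by
    unfold N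
    rw [if_neg (by rw [hk]; decide), if_neg (by rw [hk]; decide), e1, e2]
  have hN2 : N2 z w = NN dgE6 dl r s₀ * NN dgE6 dl s₀ (dk (dgE6 r s₁)) := by
    unfold N2
    rw [e1, e2, e3]
  rw [e1, e2] at h4
  rw [e1, e2, e3] at h5 h6 h7
  have h8 : cl (z + w) = [dk (dgE6 r s₀), dk (dgE6 r s₁)] := by
    rw [← h4]
    exact cl_V h5 List.mem_cons_self
  -- the third root
  have hu : dk (dgE6 r s₁) ∈ cl (z + w) := by
    rw [h8]; exact List.mem_cons_of_mem _ List.mem_cons_self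
  have hs₀ : s₀ ∈ cl w := by rw [es]; exact List.mem_cons_self
  have h9 : 2 ≤ dgE6 s₀ (dk (dgE6 r s₁)) := by
    unfold okQ sumB at h7
    simp only [Bool.and_eq_true, decide_eq_true_eq] at h7
    exact h7.1.1.2.1.1.2
  obtain ⟨-, h10, h11⟩ := sum_facts hw h4' hs₀ hu h9
  have e : w + (z + w) = z + (2 : ℤ) • w := by
    rw [two_smul]; abel
  rw [e] at h10 h11
  refine ⟨r, s₀, s₁, _, _, _, er, es, h8, ?_, h4', h11, h7, hN, hN2⟩
  rw [← h10]
  exact cl_V h6 List.mem_cons_self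

end Roots

/-! ### The group -/

section Group

variable {K : Type u} [Field K] {q : ℕ} {φ : K →+* K}

theorem twC [Fintype K] (hφ : ∀ x, φ x = x ^ q) (hqq : ∀ t : K, (t ^ q) ^ q = t) :
    TwC hp K CoxeterMatrix.F₄ A J TwistedE6U.L (sg φ) TwistedE6Sigma.rho TwistedE6Sigma.rho
      (fun r t => ((TwistedE6Sigma.eps r : ℤ) : K) * φ t) (twistedE6 K q) φ TwistedE6Sigma.eps dl O dgE6 where
  FD := foldData
  FG := foldGrp hφ hqq
  CD := clData
  sig r hr t := by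
    rw [nroots_eq] at hr
    apply Units.ext
    exact TwistedE6Sigma.sig_xE6 φ hr rfl

/-- **The root elements of `²E₆(q)`.** -/
noncomputable def x (φ : K →+* K) (q : ℕ) (z : Fin 4 → ℤ) (a : K) : ↥(twistedE6 K q) :=
  RGDTwCoord.x hp J φ dl O (twistedE6 K q) z a

variable {W : Type*} [Group W] {cs : CoxeterSystem CoxeterMatrix.F₄ W} {z w : Fin 4 → ℤ}

theorem phi_phi (hφ : ∀ x, φ x = x ^ q) (hqq : ∀ t : K, (t ^ q) ^ q = t) (a : K) : φ (φ a) = a := by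
  rw [hφ, hφ, hqq]

/-- coordinates of long roots -/
theorem ok_long (hz : IsRoot cs isCartan z) (lz : Lg z) {a : K} (ha : φ a = a) : Ok chevE6 J O φ z a := by
  unfold Ok
  have h : (RGDTwCoord.cl chevE6 J O z).length = 1 := lz.length hz
  rw [h]
  exact ha

theorem ok_short (hφ : ∀ x, φ x = x ^ q) (hqq : ∀ t : K, (t ^ q) ^ q = t) (hz : IsRoot cs isCartan z) (sz : St z)
    (a : K) : Ok chevE6 J O φ z a := by
  unfold Ok
  have h : (RGDTwCoord.cl chevE6 J O z).length = 2 := sz.length hz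
  rw [h]
  exact phi_phi hφ hqq a

theorem ok_iff_long (hz : IsRoot cs isCartan z) (lz : Lg z) {a : K} : Ok chevE6 J O φ z a ↔ φ a = a := by
  unfold Ok
  have h : (RGDTwCoord.cl chevE6 J O z).length = 1 := lz.length hz
  rw [h]
  exact Iff.rfl

variable [Fintype K] (hφ : ∀ x, φ x = x ^ q) (hqq : ∀ t : K, (t ^ q) ^ q = t)

include hφ hqq

theorem commutator_eq (hz : IsRoot cs isCartan z) (hw : IsRoot cs isCartan w) {a b : K} (ha : Ok chevE6 J O φ z a)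
    (hb : Ok chevE6 J O φ w b) :
    ((⁅x φ q z a, x φ q w b⁆ : ↥(twistedE6 K q)) : GL chevE6.Idx K) = ⁅Y hp J φ dl O z a, Y hp J φ dl O w b⁆ := by
  obtain ⟨p, hp'⟩ := CharP.exists K
  have : Fact p.Prime := ⟨CharP.char_is_prime K p⟩
  have h1 := (twC hφ hqq).coe_x cs isCartan p hz ha
  have h2 := (twC hφ hqq).coe_x cs isCartan p hw hb
  rw [← h1, ← h2]
  rfl

theorem coe_x (hz : IsRoot cs isCartan z) {a : K} (ha : Ok chevE6 J O φ z a) :
    ((x φ q z a : ↥(twistedE6 K q)) : GL chevE6.Idx K) = Y hp J φ dl O z a := by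
  obtain ⟨p, hp'⟩ := CharP.exists K
  have : Fact p.Prime := ⟨CharP.char_is_prime K p⟩
  exact (twC hφ hqq).coe_x cs isCartan p hz ha

/-- **Commuting root elements.** -/
theorem comm_nil (hz : IsRoot cs isCartan z) (hw : IsRoot cs isCartan w) (hzw : ¬ IsRoot cs isCartan (z + w))
    (hne : w ≠ -z) (a b : K) : Commute (x φ q z a) (x φ q w b) := by
  obtain ⟨v, v', h1, -⟩ := exists_chk hz hw
  unfold chk at h1
  rw [kd_eq_one hz hw hzw hne] at h1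
  simp only [Bool.and_eq_true, decide_eq_true_eq] at h1
  have h2 := (twC hφ hqq).commute_Y (z := z) (z' := w) (by rw [nroots_eq]; exact h1.1.1) a b
  unfold x RGDTwCoord.x
  split_ifs with h3 h4
  · exact Subtype.ext h2.eq
  · exact Commute.one_right _
  · exact Commute.one_left _
  · exact Commute.one_left _

/-- **Long roots.** -/
theorem comm_long (hz : IsRoot cs isCartan z) (hw : IsRoot cs isCartan w) (hzw : IsRoot cs isCartan (z + w))
    (lz : Lg z) (lw : Lg w) {a b : K} (ha : φ a = a) (hb : φ b = b) :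
    Lg (z + w) ∧ ⁅x φ q z a, x φ q w b⁆ = x φ q (z + w) (((N z w : ℤ) : K) * (a * b)) := by
  obtain ⟨k, h1, h2, h3⟩ := facts_long hz hw (kd_long hz hw hzw lz lw)
  have lzw : Lg (z + w) := by
    rcases length_cases hzw with ⟨-, h⟩ | ⟨h, -⟩
    · exact h
    · rw [h1] at h; simp at h
  refine ⟨lzw, Subtype.ext ?_⟩
  have ok : Ok chevE6 J O φ (z + w) (((N z w : ℤ) : K) * (a * b)) :=
    ok_long hzw lzw (by rw [map_mul, map_mul, map_intCast, ha, hb])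
  rw [commutator_eq hφ hqq hz hw (ok_long hz lz ha) (ok_long hw lw hb), coe_x hφ hqq hzw ok]
  have h4 := (twC hφ hqq).comm_Y hz hw hzw (by rw [nroots_eq, h1]; exact h2) (ok_long hz lz ha) (ok_long hw lw hb)
  rw [h4, h1]
  show Y hp J φ dl O (z + w) ((List.map _ (tm dgE6 dl (cl z) (cl w) k)).sum) = _
  rw [h3]
  simp

/-- **Short roots whose sum is long.** -/
theorem comm_trace (hz : IsRoot cs isCartan z) (hw : IsRoot cs isCartan w) (hzw : IsRoot cs isCartan (z + w))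
    (sz : St z) (sw : St w) (lzw : Lg (z + w)) (a b : K) :
    ⁅x φ q z a, x φ q w b⁆ = x φ q (z + w) (((N z w : ℤ) : K) * (a * φ b + φ a * b)) := by
  have hlen := lzw.length hzw
  have hk : kd (cl z) (cl w) = 3 := by
    rcases kd_ss hz hw hzw sz sw with h | h
    · exact h
    · obtain ⟨u₀, u₁, h1, -⟩ := facts_short hz hw h
      rw [h1] at hlen; simp at hlen
  obtain ⟨k, h1, h2, h3⟩ := facts_trace hz hw hk
  apply Subtype.ext
  have ok : Ok chevE6 J O φ (z + w) (((N z w : ℤ) : K) * (a * φ b + φ a * b)) :=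
    ok_long hzw lzw (by
      rw [map_mul, map_add, map_mul, map_mul, map_intCast, phi_phi hφ hqq, phi_phi hφ hqq, add_comm])
  rw [commutator_eq hφ hqq hz hw (ok_short hφ hqq hz sz a) (ok_short hφ hqq hw sw b), coe_x hφ hqq hzw ok]
  have h4 := (twC hφ hqq).comm_Y hz hw hzw (by rw [nroots_eq, h1]; exact h2) (ok_short hφ hqq hz sz a)
    (ok_short hφ hqq hw sw b)
  rw [h4, h1]
  show Y hp J φ dl O (z + w) ((List.map _ (tm dgE6 dl (cl z) (cl w) k)).sum) = _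
  rw [h3]
  simp [mul_add]

/-- **Short roots whose sum is short.** -/
theorem comm_short (hz : IsRoot cs isCartan z) (hw : IsRoot cs isCartan w) (hzw : IsRoot cs isCartan (z + w))
    (sz : St z) (sw : St w) (szw : St (z + w)) (a b : K) :
    ⁅x φ q z a, x φ q w b⁆ = x φ q (z + w) (((N z w : ℤ) : K) * φ (a * b)) := by
  have hlen := szw.length hzw
  have hk : kd (cl z) (cl w) = 4 := by
    rcases kd_ss hz hw hzw sz sw with h | h
    · obtain ⟨k, h1, -⟩ := facts_trace hz hw h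
      rw [h1] at hlen; simp at hlen
    · exact h
  obtain ⟨u₀, u₁, h1, h2, h3⟩ := facts_short hz hw hk
  apply Subtype.ext
  rw [commutator_eq hφ hqq hz hw (ok_short hφ hqq hz sz a) (ok_short hφ hqq hw sw b),
    coe_x hφ hqq hzw (ok_short hφ hqq hzw szw _)]
  have h4 := (twC hφ hqq).comm_Y hz hw hzw (by rw [nroots_eq, h1]; exact h2) (ok_short hφ hqq hz sz a)
    (ok_short hφ hqq hw sw b)
  rw [h4, h1]
  show Y hp J φ dl O (z + w) ((List.map _ (tm dgE6 dl (cl z) (cl w) u₀)).sum) = _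
  rw [h3]
  simp

/-- **A long and a short root.** -/
theorem comm_quad (hz : IsRoot cs isCartan z) (hw : IsRoot cs isCartan w) (hzw : IsRoot cs isCartan (z + w))
    (lz : Lg z) (sw : St w) {a : K} (ha : φ a = a) (b : K) :
    St (z + w) ∧ IsRoot cs isCartan (z + (2 : ℤ) • w) ∧ Lg (z + (2 : ℤ) • w) ∧
      ⁅x φ q z a, x φ q w b⁆ = x φ q (z + w) (((N z w : ℤ) : K) * (a * b)) *
        x φ q (z + (2 : ℤ) • w) (((N2 z w : ℤ) : K) * (a * (b * φ b))) := by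
  obtain ⟨r, s₀, s₁, u₀, u₁, v, e1, e2, e3, e4, -, hv, h5, h6, h7⟩ := facts_quad hz hw (kd_quad hz hw hzw lz sw)
  have szw : St (z + w) := by
    rcases length_cases hzw with ⟨h, -⟩ | ⟨-, h⟩
    · rw [e3] at h; simp at h
    · exact h
  have lv : Lg (z + (2 : ℤ) • w) := by
    rcases length_cases hv with ⟨-, h⟩ | ⟨h, -⟩
    · exact h
    · rw [e4] at h; simp at h
  refine ⟨szw, hv, lv, Subtype.ext ?_⟩
  have ok : Ok chevE6 J O φ (z + (2 : ℤ) • w) (((N2 z w : ℤ) : K) * (a * (b * φ b))) :=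
    ok_long hv lv (by
      rw [map_mul, map_mul, map_mul, map_intCast, phi_phi hφ hqq, ha, mul_comm (φ b) b])
  rw [commutator_eq hφ hqq hz hw (ok_long hz lz ha) (ok_short hφ hqq hw sw b), Subgroup.coe_mul,
    coe_x hφ hqq hzw (ok_short hφ hqq hzw szw _), coe_x hφ hqq hv ok, h6, h7]
  exact (twC hφ hqq).comm_quad e1 e2 e3 e4 (by rw [nroots_eq]; exact h5) ha b

end Group

end Cfsg.Agent.Nodes.RGDTwComE6
end

private theorem dce_9d6522a7b412 : _root_.True := by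
  try have : _root_.True := by simp only [_root_.Cfsg.Agent.Nodes.RGDTwCoord.Y.congr_simp]
  exact _root_.True.intro
end

-- part: Nodes/RGDTwActE6
section
prune_inst 0x1002000000400000000063000061c00902090021438900070130700200815082a0000800400000014900000000000006000000000000a302023010ac00100000001800400000000000000000000000000000000000000000000
set_option linter.all false
open scoped Cfsg.Agent.FastGrp

/-!
The root elements `x φ q z a` of `²E₆(q)`: membership, injectivity, additivity, action of the fundamental reflections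
`nn i` and of the torus elements `hh i d`.
-/

set_option autoImplicit false
set_option linter.unusedSectionVars false
set_option maxHeartbeats 400000
set_option Elab.async false

namespace Cfsg.Agent.Nodes.RGDTwActE6

open CoxeterSystem Cfsg.Agent.ChevalleyStructure.CoxeterGeom Cfsg.Agent.Tits.Roots Cfsg.Agent.Tits.Core
  Cfsg.Agent.Nodes.BNOf Cfsg.Agent.Nodes.RGDTwGen Cfsg.Agent.Nodes.RGDChev Cfsg.Agent.Nodes.RGDFold
  Cfsg.Agent.Nodes.RGDFoldSL Cfsg.Agent.Nodes.RGDTwE6 Cfsg.Agent.Nodes.RGDTwTab Cfsg.Agent.Nodes.RGDTwCoordE6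
  Cfsg.Agent.Nodes.RGDTwCoord Cfsg.Agent.Nodes.RGDTwComE6
open Cfsg.Lie Cfsg.Agent.ChevalleyStructure
  Cfsg.Agent.ChevalleyStructure.TwistedU Cfsg.Agent.ChevalleyStructure.TwistedFix
open Cfsg.Agent.ChevalleyStructure.TwE6Basic (sg)
open scoped commutatorElement

universe u

/-- The class of a vector. -/
local notation "cl" => RGDTwCoord.cl chevE6 J O

/-! ### Tables -/

private theorem dec4 (a b : Fin 4 → ℤ) [Decidable (a = b)] : decide (a = b) =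
    (decide (a 0 = b 0) && (decide (a 1 = b 1) && (decide (a 2 = b 2) && decide (a 3 = b 3)))) := by
  rw [Bool.eq_iff_iff, decide_eq_true_iff, Bool.and_eq_true, Bool.and_eq_true, Bool.and_eq_true, decide_eq_true_iff,
    decide_eq_true_iff, decide_eq_true_iff, decide_eq_true_iff]
  refine ⟨fun h => ⟨congrFun h 0, congrFun h 1, congrFun h 2, congrFun h 3⟩, fun h => funext fun i => ?_⟩
  match i with
  | 0 => exact h.1
  | 1 => exact h.2.1
  | 2 => exact h.2.2.1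
  | 3 => exact h.2.2.2

private theorem cl_eq : cl = fun z => (O.find? fun o => (decide (V chevE6 J (o.headD 0) 0 = z 0) &&
    (decide (V chevE6 J (o.headD 0) 1 = z 1) && (decide (V chevE6 J (o.headD 0) 2 = z 2) &&
      decide (V chevE6 J (o.headD 0) 3 = z 3))))).getD [] :=
  funext fun z => congrArg (fun p => (O.find? p).getD []) (funext fun o => dec4 (V chevE6 J (o.headD 0)) z)

private noncomputable def _root_.Cfsg.Agent.LsF.f6e4540_0 : {f // @Cfsg.Agent.ChevalleyStructure.RootVecTab.dig = f} := ⟨_, by first | (delta Cfsg.Agent.ChevalleyStructure.RootVecTab.dig; rewrite [Cfsg.Agent.LsF.nmul_pat]; exact rfl) | exact rfl⟩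
private noncomputable def _root_.Cfsg.Agent.LsF.f6e4540_1 : {f // @Cfsg.Agent.ChevalleyStructure.RootVecTab.packTab = f} := ⟨_, by first | (delta Cfsg.Agent.ChevalleyStructure.RootVecTab.packTab; rewrite [Cfsg.Agent.LsF.instDecEq_eq, Cfsg.Agent.LsF.ite_eq]; exact rfl) | exact rfl⟩
private noncomputable def _root_.Cfsg.Agent.LsF.f6e4540_2 : {f // @Cfsg.Agent.ChevalleyStructure.RootVecTab.code = f} := ⟨_, by first | (delta Cfsg.Agent.ChevalleyStructure.RootVecTab.code; rewrite [Cfsg.Agent.LsF.f6e4540_1.2, Cfsg.Agent.LsF.nmul_pat, Cfsg.Agent.LsF.npow_pat]; exact rfl) | exact rfl⟩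
private noncomputable def _root_.Cfsg.Agent.LsF.f6e4540_3 : {f // @Cfsg.Agent.ChevalleyStructure.RootVec.rt = f} := ⟨_, by first | (delta Cfsg.Agent.ChevalleyStructure.RootVec.rt; rewrite [Cfsg.Agent.LsF.f6e4540_0.2, Cfsg.Agent.LsF.f6e4540_2.2, Cfsg.Agent.LsF.nsub_pat, Cfsg.Agent.LsF.isub_pat, Cfsg.Agent.LsF.icast_pat, Cfsg.Agent.LsF.decLt_eq, Cfsg.Agent.LsF.dAnd_eq, Cfsg.Agent.LsF.ite_eq]; exact rfl) | exact rfl⟩
private noncomputable def _root_.Cfsg.Agent.LsF.f6e4540_4 : {f // @Cfsg.Agent.Nodes.RGDFold.V = f} := ⟨_, by first | (delta Cfsg.Agent.Nodes.RGDFold.V; rewrite [Cfsg.Agent.LsF.f6e4540_3.2, Cfsg.Agent.LsF.map_eq, Cfsg.Agent.LsF.sum_eq, Cfsg.Agent.LsF.instIAdd_eq]; exact rfl) | exact rfl⟩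
private noncomputable def _root_.Cfsg.Agent.LsF.f6e4540_5 : {f // @Cfsg.Agent.Nodes.RGDTwE6.J = f} := ⟨_, by first | (delta Cfsg.Agent.Nodes.RGDTwE6.J; rewrite [Cfsg.Agent.LsF.vecCons_eq]; exact rfl) | exact rfl⟩
private noncomputable def _root_.Cfsg.Agent.LsF.f6e4540_6 : {f // @Cfsg.Agent.Nodes.RGDFold.refl = f} := ⟨_, by first | (delta Cfsg.Agent.Nodes.RGDFold.refl Function.update Pi.single Cfsg.Agent.Tits.Roots.sr Cfsg.Agent.ChevalleyStructure.CoxeterGeom.pairing; rewrite [Cfsg.Agent.LsF.imul_pat, Cfsg.Agent.LsF.finFintype_eq, Cfsg.Agent.LsF.fsum_eq, Cfsg.Agent.LsF.iACM_eq, Cfsg.Agent.LsF.instISub_eq, Cfsg.Agent.LsF.dFinEq_eq, Cfsg.Agent.LsF.dite_eq]; exact rfl) | exact rfl⟩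
private noncomputable def _root_.Cfsg.Agent.LsF.f6e4540_7 : {f // @Cfsg.Agent.Nodes.RGDTwE6.A = f} := ⟨_, by first | (delta Cfsg.Agent.Nodes.RGDTwE6.A; rewrite [Cfsg.Agent.LsF.ineg_pat, Cfsg.Agent.LsF.vecCons_eq]; exact rfl) | exact rfl⟩
private noncomputable def _root_.Cfsg.Agent.LsF.f6e4540_8 : {f // @Cfsg.Lie.ChevalleyDatum.simple = f} := ⟨_, by first | (delta Cfsg.Lie.ChevalleyDatum.simple; rewrite [Cfsg.Agent.LsF.agetD_eq]; exact rfl) | exact rfl⟩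
private noncomputable def _root_.Cfsg.Agent.LsF.f6e4540_9 : {f // @Cfsg.Agent.ChevFast.dz = f} := ⟨_, by first | (delta Cfsg.Agent.ChevFast.dz; rewrite [Cfsg.Agent.LsF.cond_eq]; exact rfl) | exact rfl⟩
private noncomputable def _root_.Cfsg.Agent.LsF.f6e4540_10 : {f // @Cfsg.Agent.ChevFast.gz = f} := ⟨_, by first | (delta Cfsg.Agent.ChevFast.gz; rewrite [Cfsg.Agent.LsF.f6e4540_9.2]; exact rfl) | exact rfl⟩
private noncomputable def _root_.Cfsg.Agent.LsF.f6e4540_11 : {f // @Nat.pred = f} := ⟨_, by first | (delta Nat.pred; (try delta Nat.pow.match_1); (try delta Nat.casesOn); exact rfl) | exact rfl⟩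
private noncomputable def _root_.Cfsg.Agent.LsF.f6e4540_12 : {f // @Cfsg.Agent.ChevFast.ix = f} := ⟨_, by first | (delta Cfsg.Agent.ChevFast.ix; rewrite [Cfsg.Agent.LsF.f6e4540_11.2]; exact rfl) | exact rfl⟩
private noncomputable def _root_.Cfsg.Agent.LsF.f6e4540_13 : {f // @Cfsg.Agent.ChevFast.sg = f} := ⟨_, by first | (delta Cfsg.Agent.ChevFast.sg; rewrite [Cfsg.Agent.LsF.cond_eq]; exact rfl) | exact rfl⟩
private noncomputable def _root_.Cfsg.Agent.LsF.f6e4540_14 : {f // @Cfsg.Agent.ChevFast.dc = f} := ⟨_, by first | (delta Cfsg.Agent.ChevFast.dc; rewrite [Cfsg.Agent.LsF.f6e4540_12.2, Cfsg.Agent.LsF.f6e4540_13.2, Cfsg.Agent.LsF.cond_eq]; exact rfl) | exact rfl⟩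
private noncomputable def _root_.Cfsg.Agent.LsF.f6e4540_15 : {f // @Cfsg.Agent.ChevFast.ceT = f} := ⟨_, by first | (delta Cfsg.Agent.ChevFast.ceT; rewrite [Cfsg.Agent.LsF.f6e4540_14.2]; exact rfl) | exact rfl⟩
/-- the exponent of the fundamental reflections -/
theorem ex_tab : ∀ i < 48, ∀ j : Fin 4, ex chevE6 J A O j (V chevE6 J ((O.getD i []).headD 0)) =
    if (O.getD i []).length = 2 ∧ 2 ≤ (j : ℕ) then 1 else 0 := by
  delta RGDTwCoord.ex RGDFold.wp Cfsg.Lie.ChevalleyDatum.reflectRoot Cfsg.Lie.ChevalleyDatum.chainRoot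
  rewrite [cl_eq, Cfsg.Agent.ChevFast.E6.cartan, Cfsg.Agent.ChevFast.E6.chainEntry, Cfsg.Agent.ChevFast.E6.neg]
  (refine of_decide_eq_true ?_; (try (delta Option.map; rewrite [Cfsg.Agent.LsF.f6e4540_4.2, Cfsg.Agent.LsF.f6e4540_5.2, Cfsg.Agent.LsF.f6e4540_6.2, Cfsg.Agent.LsF.f6e4540_7.2, Cfsg.Agent.LsF.f6e4540_8.2, Cfsg.Agent.LsF.f6e4540_10.2, Cfsg.Agent.LsF.f6e4540_15.2, Cfsg.Agent.LsF.nsub_pat, Cfsg.Agent.LsF.instNBEq_pat, Cfsg.Agent.LsF.ineg_pat, Cfsg.Agent.LsF.and_eq, Cfsg.Agent.LsF.instDecEq_eq, Cfsg.Agent.LsF.decLe_eq, Cfsg.Agent.LsF.map_eq, Cfsg.Agent.LsF.foldr_eq, Cfsg.Agent.LsF.find?_eq, Cfsg.Agent.LsF.getD_eq, Cfsg.Agent.LsF.instGetElem?_eq, Cfsg.Agent.LsF.headD_eq, Cfsg.Agent.LsF.ogetD_eq, Cfsg.Agent.LsF.idxOf_eq, Cfsg.Agent.LsF.toNat_eq, Cfsg.Agent.LsF.instIDecEq_eq, Cfsg.Agent.LsF.idecLt_eq, Cfsg.Agent.LsF.dAnd_eq, Cfsg.Agent.LsF.dBallLT_eq, Cfsg.Agent.LsF.dForallFin_eq, Cfsg.Agent.LsF.ite_eq,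 Cfsg.Agent.LsF.decide_eq])); decide +kernel)

/-- the table of the scalars: long nodes -/
theorem wt_tab_long : ∀ i < 48, ∀ j : Fin 4, (j : ℕ) < 2 →
    (J j).map (fun k : Fin 6 => chevE6.cartan k ((O.getD i []).headD 0)) =
      [pairing A j (V chevE6 J ((O.getD i []).headD 0))] := by
  rewrite [Cfsg.Agent.ChevFast.E6.cartan]
  (refine of_decide_eq_true ?_; (try (delta Cfsg.Agent.ChevalleyStructure.CoxeterGeom.pairing; rewrite [Cfsg.Agent.LsF.sumF_pat, Cfsg.Agent.LsF.f6e4540_10.2, Cfsg.Agent.LsF.f6e4540_5.2, Cfsg.Agent.LsF.f6e4540_7.2, Cfsg.Agent.LsF.f6e4540_4.2, Cfsg.Agent.LsF.iadd_pat, Cfsg.Agent.LsF.imul_pat, Cfsg.Agent.LsF.iACM_eq, Cfsg.Agent.LsF.decLt_eq, Cfsg.Agent.LsF.map_eq, Cfsg.Agent.LsF.getD_eq, Cfsg.Agent.LsF.headD_eq, Cfsg.Agent.LsF.instIDecEq_eq, Cfsg.Agent.LsF.dListEq_eq, Cfsg.Agent.LsF.dBallLT_eq, Cfsg.Agent.LsF.dForallFin_eq, Cfsg.Agent.LsF.dAllP_eq, Cfsg.Agent.LsF.decide_eq]));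 decide +kernel)

/-- the table of the scalars: short nodes -/
theorem wt_tab_short : ∀ i < 48, ∀ j : Fin 4, 2 ≤ (j : ℕ) →
    (J j).map (fun k : Fin 6 => chevE6.cartan k ((O.getD i []).headD 0)) =
      if (O.getD i []).length = 1 then [pairing A j (V chevE6 J ((O.getD i []).headD 0)) / 2,
        pairing A j (V chevE6 J ((O.getD i []).headD 0)) / 2]
      else if 0 < pairing A j (V chevE6 J ((O.getD i []).headD 0)) then
        (if V chevE6 J ((O.getD i []).headD 0) = sr j then [2, 0] else [0, 1])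
      else if pairing A j (V chevE6 J ((O.getD i []).headD 0)) = 0 then [1, -1]
      else (if V chevE6 J ((O.getD i []).headD 0) = -sr j then [0, -2] else [-1, 0]) := by
  rewrite [Cfsg.Agent.ChevFast.E6.cartan]
  (refine of_decide_eq_true ?_; (try (delta Cfsg.Agent.ChevalleyStructure.CoxeterGeom.pairing Cfsg.Agent.Tits.Roots.sr Function.update Pi.single; rewrite [Cfsg.Agent.LsF.sumF_pat, Cfsg.Agent.LsF.pneg_pat, Cfsg.Agent.LsF.dPiF_pat, Cfsg.Agent.LsF.f6e4540_10.2, Cfsg.Agent.LsF.f6e4540_5.2, Cfsg.Agent.LsF.f6e4540_7.2, Cfsg.Agent.LsF.f6e4540_4.2, Cfsg.Agent.LsF.iadd_pat, Cfsg.Agent.LsF.imul_pat, Cfsg.Agent.LsF.ineg_pat, Cfsg.Agent.LsF.iACM_eq, Cfsg.Agent.LsF.instDecEq_eq, Cfsg.Agent.LsF.decLe_eq, Cfsg.Agent.LsF.map_eq, Cfsg.Agent.LsF.getD_eq, Cfsg.Agent.LsF.headD_eq, Cfsg.Agent.LsF.instIDecEq_eq, Cfsg.Agent.LsF.idecLt_eq, Cfsg.Agent.LsF.dFinEq_eq, Cfsg.Agent.LsF.dListEq_eq, Cfsg.Agent.LsF.dBallLT_eq,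 Cfsg.Agent.LsF.dForallFin_eq, Cfsg.Agent.LsF.dAllP_eq, Cfsg.Agent.LsF.length_eq, Cfsg.Agent.LsF.ite_eq, Cfsg.Agent.LsF.dite_eq, Cfsg.Agent.LsF.decide_eq])); decide +kernel)

/-- every long root has pairing `±1` with a long fundamental root, every short root with a short one -/
theorem pair_tab : ∀ i < 48, ∃ j : Fin 4, (if (O.getD i []).length = 1 then (j : ℕ) < 2 else
      2 ≤ (j : ℕ) ∧ V chevE6 J ((O.getD i []).headD 0) ≠ sr j ∧ V chevE6 J ((O.getD i []).headD 0) ≠ -sr j) ∧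
    (pairing A j (V chevE6 J ((O.getD i []).headD 0)) = 1 ∨
      pairing A j (V chevE6 J ((O.getD i []).headD 0)) = -1) := by (refine of_decide_eq_true ?_; (try (delta Cfsg.Agent.ChevalleyStructure.CoxeterGeom.pairing Cfsg.Agent.Tits.Roots.sr Function.update Pi.single; rewrite [Cfsg.Agent.LsF.sumF_pat, Cfsg.Agent.LsF.pneg_pat, Cfsg.Agent.LsF.dPiF_pat, Cfsg.Agent.LsF.f6e4540_4.2, Cfsg.Agent.LsF.f6e4540_5.2, Cfsg.Agent.LsF.f6e4540_7.2, Cfsg.Agent.LsF.iadd_pat, Cfsg.Agent.LsF.imul_pat, Cfsg.Agent.LsF.ineg_pat, Cfsg.Agent.LsF.iACM_eq, Cfsg.Agent.LsF.instDecEq_eq, Cfsg.Agent.LsF.decLe_eq, Cfsg.Agent.LsF.decLt_eq, Cfsg.Agent.LsF.getD_eq, Cfsg.Agent.LsF.headD_eq, Cfsg.Agent.LsF.instIDecEq_eq, Cfsg.Agent.LsF.dAnd_eq, Cfsg.Agent.LsF.dOr_eq, Cfsg.Agent.LsF.dNot_eq, Cfsg.Agent.LsF.dFinEq_eq, Cfsg.Agent.LsF.dBallLT_eq, Cfsg.Agent.LsF.dExistsFin_eq, Cfsg.Agent.LsF.length_eq, Cfsg.Agent.LsF.dite_eq,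 Cfsg.Agent.LsF.decide_eq])); decide +kernel)

section

variable {W : Type*} [Group W] {cs : CoxeterSystem CoxeterMatrix.F₄ W} {z w : Fin 4 → ℤ}

theorem index (hz : IsRoot cs isCartan z) : ∃ i < 48, cl z = O.getD i [] ∧
    V chevE6 J ((O.getD i []).headD 0) = z := by
  obtain ⟨i, hi, e, e'⟩ := exists_index hz
  exact ⟨i, hi, e, by rw [vec_eq hi]; exact e'.symm⟩

theorem ex_eq (hz : IsRoot cs isCartan z) (j : Fin 4) :
    ex chevE6 J A O j z = if St z ∧ 2 ≤ (j : ℕ) then 1 else 0 := by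
  obtain ⟨i, hi, e, e'⟩ := index hz
  have h1 := ex_tab i hi j
  rw [e', ← e] at h1
  rw [h1]
  have h2 : (cl z).length = 2 ↔ St z := by
    constructor
    · intro h
      rcases length_cases hz with ⟨h1, -⟩ | ⟨-, h1⟩
      · omega
      · exact h1
    · exact fun h => h.length hz
  simp only [h2]

end

section Group

variable {K : Type u} [Field K] {q : ℕ} {φ : K →+* K}

/-- The scalar of the torus element `hh j d` on the root `z`. -/
def sc (φ : K →+* K) (j : Fin 4) (z : Fin 4 → ℤ) (d : K) : K :=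
  if (j : ℕ) < 2 then d ^ pairing A j z
  else if Lg z then (d * φ d) ^ (pairing A j z / 2)
  else if 0 < pairing A j z then (if z = sr j then d ^ (2 : ℤ) else φ d)
  else if pairing A j z = 0 then d * (φ d)⁻¹
  else (if z = -sr j then (φ d) ^ (-2 : ℤ) else d⁻¹)

/-- The torus elements of the fundamental coroots: `d` with `φ d = d` for the long nodes `0, 1`, any `d` for the short
nodes `2, 3`. -/
noncomputable def hh (φ : K →+* K) (q : ℕ) (j : Fin 4) (d : K) : ↥(twistedE6 K q) :=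
  letI := Classical.dec (hI hp φ (J j) d ∈ twistedE6 K q)
  if h : hI hp φ (J j) d ∈ twistedE6 K q then ⟨hI hp φ (J j) d, h⟩ else 1

/-- `d` is a coordinate for the node `j`. -/
def OkN (φ : K →+* K) (j : Fin 4) (d : K) : Prop := 2 ≤ (j : ℕ) ∨ φ d = d

theorem wt_two (j₀ j₁ : Fin 6) (s : ℕ) (d : K) :
    wt chevE6 φ [j₀, j₁] s d = d ^ chevE6.cartan j₀ s * (φ d) ^ chevE6.cartan j₁ s := by
  show d ^ chevE6.cartan j₀ s * ((φ d) ^ chevE6.cartan j₁ s * 1) = _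
  rw [mul_one]

theorem wt_one (j₀ : Fin 6) (s : ℕ) (d : K) : wt chevE6 φ [j₀] s d = d ^ chevE6.cartan j₀ s := by
  show d ^ chevE6.cartan j₀ s * 1 = _
  rw [mul_one]

variable {W : Type*} [Group W] {cs : CoxeterSystem CoxeterMatrix.F₄ W} {z w : Fin 4 → ℤ}

theorem wt_eq (hz : IsRoot cs isCartan z) (j : Fin 4) (d : K) :
    wt chevE6 φ (J j) ((cl z).headD 0) d = sc φ j z d := by
  obtain ⟨i, hi, e, e'⟩ := index hz
  have hl : ∀ j : Fin 4, (j : ℕ) < 2 → ∃ j₀, J j = [j₀] := by decide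
  have hs : ∀ j : Fin 4, 2 ≤ (j : ℕ) → ∃ j₀ j₁, J j = [j₀, j₁] := by decide
  unfold sc
  by_cases hj : (j : ℕ) < 2
  · obtain ⟨j₀, ej⟩ := hl j hj
    have h1 := wt_tab_long i hi j hj
    rw [ej, e', ← e, List.map_cons, List.map_nil, List.cons.injEq] at h1
    rw [if_pos hj, ej, wt_one, h1.1]
  · rw [if_neg hj]
    obtain ⟨j₀, j₁, ej⟩ := hs j (by omega)
    have h1 := wt_tab_short i hi j (by omega)
    rw [ej, e', ← e, List.map_cons, List.map_cons, List.map_nil] at h1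
    rw [ej, wt_two]
    rcases length_cases hz with ⟨h2, h3⟩ | ⟨h2, h3⟩
    · rw [if_pos h2, List.cons.injEq, List.cons.injEq] at h1
      rw [if_pos h3, h1.1, h1.2.1, mul_zpow]
    · rw [if_neg (by omega)] at h1
      rw [if_neg (fun h => not_both h h3)]
      split_ifs at h1 ⊢ with h4 h5 h6 h7 <;> rw [List.cons.injEq, List.cons.injEq] at h1 <;> rw [h1.1, h1.2.1] <;>
        simp

variable [Fintype K] (hφ : ∀ x, φ x = x ^ q) (hqq : ∀ t : K, (t ^ q) ^ q = t)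

include hφ hqq

/-- **The root groups.** -/
theorem mem_X (hz : IsRoot cs isCartan z) (g : ↥(twistedE6 K q)) :
    g ∈ X φ q z ↔ ∃ a, Ok chevE6 J O φ z a ∧ _root_.Cfsg.Agent.Nodes.RGDTwComE6.x φ q z a = g := by
  obtain ⟨p, hp'⟩ := CharP.exists K
  have : Fact p.Prime := ⟨CharP.char_is_prime K p⟩
  exact (twC hφ hqq).mem_X cs isCartan p hz g

theorem mem_X_long (hz : IsRoot cs isCartan z) (lz : Lg z) (g : ↥(twistedE6 K q)) :
    g ∈ X φ q z ↔ ∃ a, φ a = a ∧ _root_.Cfsg.Agent.Nodes.RGDTwComE6.x φ q z a = g := by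
  rw [mem_X hφ hqq hz]
  simp only [ok_iff_long hz lz]

theorem mem_X_short (hz : IsRoot cs isCartan z) (sz : St z) (g : ↥(twistedE6 K q)) :
    g ∈ X φ q z ↔ ∃ a, _root_.Cfsg.Agent.Nodes.RGDTwComE6.x φ q z a = g := by
  rw [mem_X hφ hqq hz]
  exact ⟨fun ⟨a, _, h⟩ => ⟨a, h⟩, fun ⟨a, h⟩ => ⟨a, ok_short hφ hqq hz sz a, h⟩⟩

theorem x_mem (hz : IsRoot cs isCartan z) {a : K} (ha : Ok chevE6 J O φ z a) : _root_.Cfsg.Agent.Nodes.RGDTwComE6.x φ q z a ∈ X φ q z :=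
  (mem_X hφ hqq hz _).2 ⟨a, ha, rfl⟩

theorem x_inj (hz : IsRoot cs isCartan z) {a b : K} (ha : Ok chevE6 J O φ z a) (hb : Ok chevE6 J O φ z b)
    (h : _root_.Cfsg.Agent.Nodes.RGDTwComE6.x φ q z a = _root_.Cfsg.Agent.Nodes.RGDTwComE6.x φ q z b) : a = b := by
  obtain ⟨p, hp'⟩ := CharP.exists K
  have : Fact p.Prime := ⟨CharP.char_is_prime K p⟩
  exact (twC hφ hqq).x_inj cs isCartan p hz ha hb h

theorem x_add (hz : IsRoot cs isCartan z) {a b : K} (ha : Ok chevE6 J O φ z a) (hb : Ok chevE6 J O φ z b) :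
    _root_.Cfsg.Agent.Nodes.RGDTwComE6.x φ q z (a + b) = _root_.Cfsg.Agent.Nodes.RGDTwComE6.x φ q z a * _root_.Cfsg.Agent.Nodes.RGDTwComE6.x φ q z b := by
  obtain ⟨p, hp'⟩ := CharP.exists K
  have : Fact p.Prime := ⟨CharP.char_is_prime K p⟩
  exact (twC hφ hqq).x_add cs isCartan p hz ha hb

omit hφ hqq [Fintype K] in
theorem ok_zero (z : Fin 4 → ℤ) : Ok chevE6 J O φ z 0 := by
  unfold Ok
  exact iterate_map_zero φ _

omit hφ hqq [Fintype K] in
theorem ok_one (z : Fin 4 → ℤ) : Ok chevE6 J O φ z 1 := by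
  unfold Ok
  exact iterate_map_one φ _

theorem x_zero (hz : IsRoot cs isCartan z) : _root_.Cfsg.Agent.Nodes.RGDTwComE6.x φ q z 0 = 1 := by
  have h := x_add hφ hqq hz (ok_zero z) (ok_zero z)
  rwa [add_zero, left_eq_mul] at h

theorem x_eq_one_iff (hz : IsRoot cs isCartan z) {a : K} (ha : Ok chevE6 J O φ z a) : _root_.Cfsg.Agent.Nodes.RGDTwComE6.x φ q z a = 1 ↔ a = 0 := by
  constructor
  · intro h
    rw [← x_zero hφ hqq hz] at h
    exact x_inj hφ hqq hz ha (ok_zero z) h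
  · rintro rfl
    exact x_zero hφ hqq hz

/-- **The action of the fundamental reflections.** -/
theorem conj_nn (hz : IsRoot cs isCartan z) (j : Fin 4) : ∃ η : K, Sg η ∧ ∀ a, Ok chevE6 J O φ z a →
    Ok chevE6 J O φ (rep cs isCartan (cs.simple j) z) (η * if St z ∧ 2 ≤ (j : ℕ) then φ a else a) ∧
    _root_.Cfsg.Agent.Nodes.RGDTwE6.nn hφ j * _root_.Cfsg.Agent.Nodes.RGDTwComE6.x φ q z a * (_root_.Cfsg.Agent.Nodes.RGDTwE6.nn hφ j)⁻¹ =
      _root_.Cfsg.Agent.Nodes.RGDTwComE6.x φ q (rep cs isCartan (cs.simple j) z) (η * if St z ∧ 2 ≤ (j : ℕ) then φ a else a) := by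
  obtain ⟨p, hp'⟩ := CharP.exists K
  have : Fact p.Prime := ⟨CharP.char_is_prime K p⟩
  obtain ⟨η, h1, h2⟩ := (twC hφ hqq).conj_x cs isCartan p j hz
  refine ⟨η, h1, fun a ha => ?_⟩
  obtain ⟨h3, h4⟩ := h2 a ha
  have e : φ^[ex chevE6 J A O j z] a = if St z ∧ 2 ≤ (j : ℕ) then φ a else a := by
    rw [ex_eq hz j]
    split_ifs <;> rfl
  rw [e] at h3 h4
  exact ⟨h3, h4⟩

/-- The torus elements. -/
theorem coe_hh {j : Fin 4} {d : K} (hd : d ≠ 0) (hdj : OkN φ j d) :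
    ((hh φ q j d : ↥(twistedE6 K q)) : GL chevE6.Idx K) = hI hp φ (J j) d ∧ hh φ q j d ∈ T K q := by
  have h1 : φ^[(RGDTwNode.E6.rest j).length + 1] d = d := by
    rcases hdj with h | h
    · have h2 : ∀ j : Fin 4, 2 ≤ (j : ℕ) → (RGDTwNode.E6.rest j).length = 1 := by decide
      rw [h2 j h]
      exact phi_phi hφ hqq d
    · have h2 : ∀ k : ℕ, φ^[k] d = d := by
        intro k
        induction k with
        | zero => rfl
        | succ k ih => rw [Function.iterate_succ_apply, h, ih]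
      exact h2 _
  have h2 := (twC hφ hqq).hI_mem (RGDTwNode.E6.nodeOK j) (fun s hs t => by
    rw [RGDTwNode.E6.eps_one j s hs, Int.cast_one, one_mul]) hd h1
  unfold hh
  rw [dif_pos h2.2]
  refine ⟨rfl, ?_⟩
  show _ ∈ Subgroup.subgroupOf _ _
  rw [Subgroup.mem_subgroupOf]
  exact ⟨h2.1, h2.2⟩

/-- **The action of the torus elements.** -/
theorem conj_hh (hz : IsRoot cs isCartan z) {j : Fin 4} {d : K} (hd : d ≠ 0) (hdj : OkN φ j d) {a : K}
    (ha : Ok chevE6 J O φ z a) : Ok chevE6 J O φ z (sc φ j z d) ∧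
      hh φ q j d * _root_.Cfsg.Agent.Nodes.RGDTwComE6.x φ q z a * (hh φ q j d)⁻¹ = _root_.Cfsg.Agent.Nodes.RGDTwComE6.x φ q z (sc φ j z d * a) := by
  obtain ⟨h1, h2⟩ := coe_hh hφ hqq hd hdj
  have h3 : φ^[(RGDTwNode.E6.rest j).length + 1] d = d := by
    rcases hdj with h | h
    · have h2 : ∀ j : Fin 4, 2 ≤ (j : ℕ) → (RGDTwNode.E6.rest j).length = 1 := by decide
      rw [h2 j h]
      exact phi_phi hφ hqq d
    · have h2 : ∀ k : ℕ, φ^[k] d = d := by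
        intro k
        induction k with
        | zero => rfl
        | succ k ih => rw [Function.iterate_succ_apply, h, ih]
      exact h2 _
  obtain ⟨h4, h5⟩ := (twC hφ hqq).hI_Y (RGDTwNode.E6.nodeOK j) (fun s hs t => by
    rw [RGDTwNode.E6.eps_one j s hs, Int.cast_one, one_mul]) hd h3 hz ha
  rw [wt_eq hz] at h4 h5
  refine ⟨h4, Subtype.ext ?_⟩
  rw [Subgroup.coe_mul, Subgroup.coe_mul, Subgroup.coe_inv, h1, coe_x hφ hqq hz ha,
    coe_x hφ hqq hz (Ok.mul h4 ha)]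
  exact h5

/-- The scalars of the torus. -/
theorem conj_T (hz : IsRoot cs isCartan z) {t : ↥(twistedE6 K q)} (ht : t ∈ T K q) :
    ∃ χ : K, χ ≠ 0 ∧ Ok chevE6 J O φ z χ ∧ ∀ a, Ok chevE6 J O φ z a →
      t * _root_.Cfsg.Agent.Nodes.RGDTwComE6.x φ q z a * t⁻¹ = _root_.Cfsg.Agent.Nodes.RGDTwComE6.x φ q z (χ * a) := by
  obtain ⟨p, hp'⟩ := CharP.exists K
  have : Fact p.Prime := ⟨CharP.char_is_prime K p⟩
  exact (twC hφ hqq).tor_x cs isCartan p ht hz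

/-- **The torus is transitive on the nontrivial elements of a root group.** -/
theorem exists_T (hz : IsRoot cs isCartan z) {a b : K} (ha : Ok chevE6 J O φ z a) (hb : Ok chevE6 J O φ z b)
    (ha0 : a ≠ 0) (hb0 : b ≠ 0) : ∃ t ∈ T K q, ∀ c, Ok chevE6 J O φ z c →
      t * _root_.Cfsg.Agent.Nodes.RGDTwComE6.x φ q z c * t⁻¹ = _root_.Cfsg.Agent.Nodes.RGDTwComE6.x φ q z (b / a * c) := by
  have key : ∀ {c : K}, Ok chevE6 J O φ z c → c ≠ 0 → ∃ t ∈ T K q, ∀ a, Ok chevE6 J O φ z a →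
      t * _root_.Cfsg.Agent.Nodes.RGDTwComE6.x φ q z a * t⁻¹ = _root_.Cfsg.Agent.Nodes.RGDTwComE6.x φ q z (c * a) := by
    intro c hc hc0
    obtain ⟨i, hi, e, e'⟩ := index hz
    obtain ⟨j, h1, h2⟩ := pair_tab i hi
    rw [e', ← e] at h1
    rw [e'] at h2
    have main : ∃ d : K, d ≠ 0 ∧ OkN φ j d ∧ sc φ j z d = c := by
      rcases length_cases hz with ⟨h3, h4⟩ | ⟨h3, h4⟩
      · rw [if_pos h3] at h1
        have hφc := (ok_iff_long hz h4).1 hc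
        rcases h2 with h2 | h2
        · refine ⟨c, hc0, Or.inr hφc, ?_⟩
          unfold sc
          rw [if_pos h1, h2, zpow_one]
        · refine ⟨c⁻¹, inv_ne_zero hc0, Or.inr (by rw [map_inv₀, hφc]), ?_⟩
          unfold sc
          rw [if_pos h1, h2, zpow_neg_one, inv_inv]
      · rw [if_neg (by omega)] at h1
        obtain ⟨h1, h5, h6⟩ := h1
        rcases h2 with h2 | h2
        · refine ⟨φ c, (map_ne_zero φ).2 hc0, Or.inl h1, ?_⟩
          unfold sc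
          rw [if_neg (by omega), if_neg (fun h => not_both h h4), if_pos (by rw [h2]; decide), if_neg h5]
          exact phi_phi hφ hqq c
        · refine ⟨c⁻¹, inv_ne_zero hc0, Or.inl h1, ?_⟩
          unfold sc
          rw [if_neg (by omega), if_neg (fun h => not_both h h4), if_neg (by rw [h2]; decide),
            if_neg (by rw [h2]; decide), if_neg h6, inv_inv]
    obtain ⟨d, hd, hdj, e1⟩ := main
    refine ⟨hh φ q j d, (coe_hh hφ hqq hd hdj).2, fun a ha => ?_⟩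
    rw [(conj_hh hφ hqq hz hd hdj ha).2, e1]
  refine key ?_ (div_ne_zero hb0 ha0)
  unfold Ok at ha hb ⊢
  rw [← RingHom.coe_pow] at ha hb ⊢
  rw [map_div₀, ha, hb]

/-! ### The coordinates of `KFacts.RgdField` -/

omit hφ hqq [Fintype K] in
open Classical in
/-- The scalar of `t` on the root group `z`. -/
noncomputable def ch (φ : K →+* K) (q : ℕ) (z : Fin 4 → ℤ) (t : ↥(twistedE6 K q)) : Fx φ (cl z).length :=
  if h : ∃ χ : Fx φ (cl z).length, ∀ a : Fx φ (cl z).length, t * _root_.Cfsg.Agent.Nodes.RGDTwComE6.x φ q z a * t⁻¹ = _root_.Cfsg.Agent.Nodes.RGDTwComE6.x φ q z (χ * a) then h.choose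
  else 1

theorem ch_spec (hz : IsRoot cs isCartan z) {t : ↥(twistedE6 K q)} (ht : t ∈ T K q) (a : Fx φ (cl z).length) :
    t * _root_.Cfsg.Agent.Nodes.RGDTwComE6.x φ q z a * t⁻¹ = _root_.Cfsg.Agent.Nodes.RGDTwComE6.x φ q z ((ch φ q z t * a : Fx φ (cl z).length) : K) := by
  have h : ∃ χ : Fx φ (cl z).length, ∀ a : Fx φ (cl z).length, t * _root_.Cfsg.Agent.Nodes.RGDTwComE6.x φ q z a * t⁻¹ = _root_.Cfsg.Agent.Nodes.RGDTwComE6.x φ q z (χ * a) := by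
    obtain ⟨χ, -, h1, h2⟩ := conj_T hφ hqq hz ht
    exact ⟨⟨χ, mem_Fx.2 h1⟩, fun a => h2 a (mem_Fx.1 a.2)⟩
  unfold ch
  rw [dif_pos h]
  exact h.choose_spec a

theorem ch_eq (hz : IsRoot cs isCartan z) {t : ↥(twistedE6 K q)} (ht : t ∈ T K q) {χ : Fx φ (cl z).length}
    (h : t * _root_.Cfsg.Agent.Nodes.RGDTwComE6.x φ q z 1 * t⁻¹ = _root_.Cfsg.Agent.Nodes.RGDTwComE6.x φ q z χ) : ch φ q z t = χ := by
  have h1 := ch_spec hφ hqq hz ht 1
  rw [mul_one] at h1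
  have h2 : _root_.Cfsg.Agent.Nodes.RGDTwComE6.x φ q z ((ch φ q z t : Fx φ (cl z).length) : K) = _root_.Cfsg.Agent.Nodes.RGDTwComE6.x φ q z χ := by
    rw [← h1]; exact h
  exact Subtype.ext (x_inj hφ hqq hz (mem_Fx.1 (ch φ q z t).2) (mem_Fx.1 χ.2) h2)

/-- **The coordinates of the root groups**, with coordinate field `F_q` (long) and `K = F_{q²}` (short). -/
theorem coord (hz : IsRoot cs isCartan z) :
    KFacts.RgdField.Coord (T K q) (X φ q z) (fun a : Fx φ (cl z).length => _root_.Cfsg.Agent.Nodes.RGDTwComE6.x φ q z a) (ch φ q z) where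
  mem y := by
    rw [mem_X hφ hqq hz]
    constructor
    · rintro ⟨a, ha, rfl⟩
      exact ⟨⟨a, mem_Fx.2 ha⟩, rfl⟩
    · rintro ⟨a, rfl⟩
      exact ⟨a, mem_Fx.1 a.2, rfl⟩
  inj a b hab := Subtype.ext (x_inj hφ hqq hz (mem_Fx.1 a.2) (mem_Fx.1 b.2) hab)
  add a b := x_add hφ hqq hz (mem_Fx.1 a.2) (mem_Fx.1 b.2)
  act t ht a := ch_spec hφ hqq hz ht a
  span := by
    rw [AddSubgroup.eq_top_iff']
    intro c
    by_cases hc : c = 0
    · rw [hc]; exact AddSubgroup.zero_mem _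
    · apply AddSubgroup.subset_closure
      have hc' : (c : K) ≠ 0 := fun h => hc (Subtype.ext h)
      obtain ⟨t, ht, h1⟩ := exists_T hφ hqq hz (ok_one z) (mem_Fx.1 c.2) one_ne_zero hc'
      refine ⟨t, ht, ch_eq hφ hqq hz ht ?_⟩
      rw [h1 1 (ok_one z), div_one, mul_one]

end Group

end Cfsg.Agent.Nodes.RGDTwActE6
end
end
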