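import Mathlib
import Cfsg.Agent.Nodes.WittRGD
import Cfsg.Agent.Nodes.RGDLib
import Cfsg.Agent.TitsThree.FrameCN
set_option linter.all false

/-!
The root group datum of a group modelled on a Witt frame (`FrameCN.Model`), generation by the root groups
(project CIT, charts): instances are `PSp`, `PSU`, `POmega` (all with Witt index `≥ 1`).
-/

set_option autoImplicit false

namespace Cfsg.Agent.Nodes.WittModel

open Cfsg.Agent.ChevalleyStructure.CoxeterGeom Cfsg.Agent.Tits.Roots Cfsg.Agent.Nodes.TypeC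
open Cfsg.Agent.Nodes.Comb Cfsg.Agent.Nodes.Reps Cfsg.Agent.Nodes.WittRoot Cfsg.Agent.Nodes.BNOf
open Cfsg.Agent.Nodes.WittRGD Cfsg.Agent.Nodes.RGDLib
open Cfsg.Agent.TitsThree Cfsg.Agent.TitsThree.Siegel Cfsg.Agent.TitsThree.WittFrame
  Cfsg.Agent.TitsThree.WittWeyl Cfsg.Agent.TitsThree.FrameCN

variable {F : Type*} [Field F] {V : Type*} [AddCommGroup V] [Module F V] {H : HForm F V} {n : ℕ}
  {Fr : Frame H (Fin n)} {K : Type*} [Group K] (M : Model Fr K)

/-- The torus of `K`. -/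
def T : Subgroup K := ((Tor Fr M.I).subgroupOf M.I).map M.φ

/-- The root groups of `K`. -/
def X (x : Fin n → ℤ) : Subgroup K := ((rg Fr x).subgroupOf M.I).map M.φ

variable (hA : Amb Fr M.I) (p0 : Fr.Adm)

/-- The Weyl elements of `K`. -/
noncomputable def nw (i : Fin n) : K := M.φ ⟨nn Fr p0 i, nn_mem hA p0 i⟩

include hA in
theorem ker_le_center : M.φ.ker ≤ Subgroup.center ↥M.I := by
  intro g hg
  rw [Subgroup.mem_center_iff]
  intro k
  -- `g` fixes every line, so it is a scalar on each vector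
  have hs : ∀ v, ∃ a : F, g.1 v = a • v := fun v => M.ker v g hg
  have hk : ∀ v, ∃ c : F, k.1 v ≠ 0 → g.1 v = c • v ∧ g.1 (k.1 v) = c • k.1 v := by
    intro v
    by_cases hv : ∃ m : F, k.1 v = m • v
    · obtain ⟨m, hm⟩ := hv
      obtain ⟨a, ha⟩ := hs v
      exact ⟨a, fun _ => ⟨ha, by rw [hm, map_smul, ha, smul_comm]⟩⟩
    · obtain ⟨a, ha⟩ := hs v
      obtain ⟨c, hc⟩ := hs (k.1 v)
      obtain ⟨d, hd⟩ := hs (v + k.1 v)
      rw [map_add, ha, hc, smul_add] at hd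
      have h1 : (c - d) • k.1 v = (d - a) • v := by
        rw [sub_smul, sub_smul]
        have h2 := hd
        rw [← sub_eq_zero] at h2 ⊢
        rw [← h2]; abel
      have hcd : c = d := by
        by_contra hne
        apply hv
        refine ⟨(c - d)⁻¹ * (d - a), ?_⟩
        rw [mul_smul, ← h1, smul_smul, inv_mul_cancel₀ (sub_ne_zero.2 hne), one_smul]
      have hv0 : v ≠ 0 := by
        rintro rfl
        exact hv ⟨0, by rw [map_zero, zero_smul]⟩
      have had : a = d := by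
        subst hcd
        rw [sub_self, zero_smul] at h1
        rcases smul_eq_zero.1 h1.symm with h3 | h3
        · exact (sub_eq_zero.1 h3).symm
        · exact absurd h3 hv0
      exact ⟨c, fun _ => ⟨by rw [ha, had, hcd], hc⟩⟩
  apply Subtype.ext
  ext v
  change k.1 (g.1 v) = g.1 (k.1 v)
  obtain ⟨c, hc⟩ := hk v
  by_cases h0 : k.1 v = 0
  · have hv : v = 0 := k.1.map_eq_zero_iff.1 h0
    rw [hv]; simp
  · obtain ⟨h1, h2⟩ := hc h0
    rw [h1, h2, map_smul]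

/-- **The root group datum of a model.** -/
theorem rgd [Finite V] {p : ℕ} [Fact p.Prime] [CharP F p] (hp2 : Odd p) {p0 : Fr.Adm} (hp0 : p0.c ≠ 0)
    {W : Type*} [Group W] (cs : CoxeterSystem (CoxeterMatrix.B n) W) :
    RGD cs (isCartan n) p (T M) (nw M hA p0) (X M) := by
  have : Finite (V ≃ₗ[F] V) := Finite.of_injective (fun g : V ≃ₗ[F] V => (g : V → V)) DFunLike.coe_injective
  have : Finite W := finite_W cs
  exact rgd_map_of_ker_le_center (rgd_restrict (WittRGD.rgd hA hp2 hp0 cs) M.I (fun x _ => hA.rg_le x)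
    (fun i => nn_mem hA p0 i)) M.φ (ker_le_center M hA)

theorem mem_X_of {x : Fin n → ℤ} {g : V ≃ₗ[F] V} (hg : g ∈ M.I) (h : g ∈ rg Fr x) : M.φ ⟨g, hg⟩ ∈ X M x :=
  Subgroup.mem_map_of_mem _ (Subgroup.mem_subgroupOf.2 h)

theorem mem_X {x : Fin n → ℤ} {k : K} : k ∈ X M x ↔ ∃ (g : V ≃ₗ[F] V) (hg : g ∈ M.I), g ∈ rg Fr x ∧ k = M.φ ⟨g, hg⟩ := by
  constructor
  · rintro ⟨⟨g, hg⟩, h, rfl⟩
    exact ⟨g, hg, h, rfl⟩
  · rintro ⟨g, hg, h, rfl⟩
    exact mem_X_of M hg h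

theorem nw_mem_sup (i : Fin n) : nw M hA p0 i ∈ X M (sr i) ⊔ X M (-sr i) := by
  unfold nw X
  rw [← Subgroup.map_sup, ← Subgroup.subgroupOf_sup (hA.rg_le _) (hA.rg_le _)]
  exact Subgroup.mem_map_of_mem _ (Subgroup.mem_subgroupOf.2 (nn_mem_sup p0 i))

/-- The simple root groups generate. -/
theorem iSup_eq_top (hn : 0 < n) : ⨆ i, (X M (sr i) ⊔ X M (-sr i)) = ⊤ := by
  set L : Subgroup K := ⨆ i, (X M (sr i) ⊔ X M (-sr i)) with hL
  have h1 : ∀ i, X M (sr i) ≤ L := fun i => le_sup_left.trans (le_iSup (fun i => X M (sr i) ⊔ X M (-sr i)) i)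
  have h2 : ∀ i, X M (-sr i) ≤ L := fun i => le_sup_right.trans (le_iSup (fun i => X M (sr i) ⊔ X M (-sr i)) i)
  refine M.gen ⟨n - 1, by omega⟩ L ?_ ?_
  · intro i j hij t
    have hi : (i : ℕ) + 1 < n := by have := j.2; omega
    have hnx : nx i = (j, false) := by
      unfold nx; rw [dif_pos hi]
      congr 1
      exact Fin.ext hij
    have hne : ((i, true) : Fin n × Bool).1 ≠ (nx i).1 := by rw [hnx]; simp [Fin.ext_iff]; omega
    refine ⟨h1 i (mem_X_of M _ ?_), h2 i (mem_X_of M _ ?_)⟩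
    · rw [rg_sr, PG_ne Fr hne, hnx]; exact ⟨t, rfl⟩
    · rw [rg_neg_sr, PG_ne Fr (a := ng (i, true)) (b := ng (nx i)) hne,
        XG_swap Fr (a := ng (i, true)) (b := ng (nx i)) hne, hnx]
      exact ⟨t, rfl⟩
  · intro q
    have hnx : nx (⟨n - 1, by omega⟩ : Fin n) = (⟨n - 1, by omega⟩, true) := by
      unfold nx; rw [dif_neg (by simp; omega)]
    refine ⟨h1 ⟨n - 1, by omega⟩ (mem_X_of M _ ?_), h2 ⟨n - 1, by omega⟩ (mem_X_of M _ ?_)⟩
    · rw [rg_sr, hnx, PG_self]; exact ⟨q, rfl⟩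
    · rw [rg_neg_sr, hnx, PG_self]; exact ⟨q, rfl⟩

/-- All root groups generate. -/
theorem G1_eq_top (hn : 0 < n) {W : Type*} [Group W] (cs : CoxeterSystem (CoxeterMatrix.B n) W) :
    G1 cs (isCartan n) (X M) = ⊤ := by
  rw [eq_top_iff, ← iSup_eq_top M hn]
  exact iSup_le fun i => sup_le (X_le_G1 (isRoot_sr cs _ i)) (X_le_G1 (isRoot_sr cs _ i).neg)

end Cfsg.Agent.Nodes.WittModel
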