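import Mathlib
import Cfsg.Agent.Nodes.TypeD
import Cfsg.Agent.Nodes.WittRGD
set_option linter.all false

/-!
Every hyperbolic Witt frame of orthogonal type gives a root group datum of type `D_{n+2}` (project CIT, charts):
`rgd`.
-/

set_option autoImplicit false
set_option linter.unusedSimpArgs false

namespace Cfsg.Agent.Nodes.WittRGDD

open Cfsg.Agent.ChevalleyStructure.CoxeterGeom Cfsg.Agent.Tits.Roots
open Cfsg.Agent.Nodes.TypeC (wt wt_apply ng ng_ng ng_fst ng_snd wt_ng)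
open Cfsg.Agent.Nodes.TypeD
open Cfsg.Agent.Nodes.Comb Cfsg.Agent.Nodes.Reps Cfsg.Agent.Nodes.WittRoot Cfsg.Agent.Nodes.BNOf
open Cfsg.Agent.Nodes.WittRGD (Tor mem_Tor not_prop b_ne_zero eq_or_ng)
open Cfsg.Agent.TitsThree Cfsg.Agent.TitsThree.Siegel Cfsg.Agent.TitsThree.WittFrame Cfsg.Agent.TitsThree.WittWeyl
open scoped commutatorElement

variable {F : Type*} [Field F] {V : Type*} [AddCommGroup V] [Module F V] {H : HForm F V} {n : ℕ}
  (Fr : Frame H (Fin (n + 2))) (G0 : Subgroup (V ≃ₗ[F] V))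

/-- The root group of a root of type `D_{n+2}`. -/
def rg (x : Fin (n + 2) → ℤ) : Subgroup (V ≃ₗ[F] V) :=
  ⨆ q : {q : (Fin (n + 2) × Bool) × (Fin (n + 2) × Bool) // Ok q.1 q.2 ∧ ee x = wt q.1 + wt q.2},
    XG Fr q.1.1 q.1.2

theorem rg_eq {x : Fin (n + 2) → ℤ} {a b : Fin (n + 2) × Bool} (hab : Ok a b) (e : ee x = wt a + wt b) :
    rg Fr x = XG Fr a b := by
  apply le_antisymm
  · refine iSup_le ?_
    rintro ⟨⟨c, d⟩, hcd, e'⟩
    rcases wt_add_eq hab hcd (e.symm.trans e') with ⟨rfl, rfl⟩ | ⟨rfl, rfl⟩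
    · exact le_rfl
    · exact (XG_swap Fr hcd).le
  · exact le_iSup (fun q : {q : (Fin (n + 2) × Bool) × (Fin (n + 2) × Bool) //
      Ok q.1 q.2 ∧ ee x = wt q.1 + wt q.2} => XG Fr q.1.1 q.1.2) ⟨(a, b), hab, e⟩

/-- The Weyl elements. -/
noncomputable def nn (i : Fin (n + 2)) : V ≃ₗ[F] V := nX Fr (i, true) (nx i) 1

/-- The reflection exchanging `x` and `-y`. -/
def rf (x y z : Fin (n + 2) × Bool) : Fin (n + 2) × Bool :=
  if z = x then ng y else if z = ng y then x else if z = ng x then y else if z = y then ng x else z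

theorem sg_eq_rf (i : Fin (n + 2)) (z : Fin (n + 2) × Bool) : rf (i, true) (nx i) z = sg i z := by
  obtain ⟨j, s⟩ := z
  have := i.2
  unfold rf sg nx pd ng
  cases s <;> split_ifs <;> simp_all [Fin.ext_iff] <;> omega

variable {Fr G0}

theorem mono_nX {x y : Fin (n + 2) × Bool} (h : x.1 ≠ y.1) {t : F} (ht : t ≠ 0) :
    Mono Fr (nX Fr x y t) (rf x y) := by
  have h3 := H.ε_ne
  have hσ : H.σ t ≠ 0 := by simpa using ht
  have hc : H.ε⁻¹ * Fr.η x * Fr.η y * H.σ t ≠ 0 :=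
    mul_ne_zero (mul_ne_zero (mul_ne_zero (inv_ne_zero h3) (Fr.η_ne _)) (Fr.η_ne _)) hσ
  intro z
  unfold rf
  by_cases h1 : z = x
  · rw [if_pos h1, h1]
    exact ⟨-t⁻¹, neg_ne_zero.2 (inv_ne_zero ht), (nX_apply_self Fr h ht).trans (neg_smul _ _).symm⟩
  by_cases h2 : z = ng y
  · rw [if_neg h1, if_pos h2, h2]
    exact ⟨t, ht, nX_apply_neg Fr h ht⟩
  by_cases h4 : z = ng x
  · rw [if_neg h1, if_neg h2, if_pos h4, h4]
    exact ⟨_, neg_ne_zero.2 hc, (nX_apply_neg' Fr h ht).trans (neg_smul _ _).symm⟩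
  by_cases h5 : z = y
  · rw [if_neg h1, if_neg h2, if_neg h4, if_pos h5, h5]
    exact ⟨_, inv_ne_zero hc, nX_apply_self' Fr h ht⟩
  rw [if_neg h1, if_neg h2, if_neg h4, if_neg h5]
  refine ⟨1, one_ne_zero, ?_⟩
  rw [one_smul]
  apply nX_apply_of_ne Fr h
  · intro h6
    rcases eq_or_ng h6 with h7 | h7
    · exact h1 h7
    · exact h4 h7
  · intro h6
    rcases eq_or_ng h6 with h7 | h7
    · exact h5 h7
    · exact h2 h7

theorem mono_nX' (i : Fin (n + 2)) {t : F} (ht : t ≠ 0) : Mono Fr (nX Fr (i, true) (nx i) t) (sg i) :=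
  (mono_nX (ok_nx i) ht).congr (sg_eq_rf i)

theorem mono_nn (i : Fin (n + 2)) : Mono Fr (nn Fr i) (sg i) := mono_nX' i one_ne_zero

variable (hA : Amb Fr G0)

include hA

theorem nX_mem (a b : Fin (n + 2) × Bool) (t : F) : nX Fr a b t ∈ G0 :=
  mul_mem (mul_mem (hA.X_mem _ _ _) (hA.X_mem _ _ _)) (hA.X_mem _ _ _)

theorem nn_mem (i : Fin (n + 2)) : nn Fr i ∈ G0 := nX_mem hA _ _ _

theorem tor_of_mono {g k : V ≃ₗ[F] V} (hg : g ∈ G0) (hk : k ∈ G0) {i : Fin (n + 2)} (h1 : Mono Fr g (sg i))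
    (h2 : Mono Fr k (sg i)) : g * k⁻¹ ∈ Tor Fr G0 :=
  ⟨mul_mem hg (inv_mem hk), (h1.mul (h2.inv (sg_sg i))).congr fun x => sg_sg i x⟩

theorem nsys : NSys (M n) (Tor Fr G0) (nn Fr) where
  norm i := by
    have key : ∀ g : V ≃ₗ[F] V, g ∈ G0 → Mono Fr g (sg i) → ∀ t ∈ Tor Fr G0, g * t * g⁻¹ ∈ Tor Fr G0 := by
      intro g hg hm t ht
      refine ⟨mul_mem (mul_mem hg ht.1) (inv_mem hg), ?_⟩
      exact ((hm.mul ht.2).mul (hm.inv (sg_sg i))).congr fun x => sg_sg i x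
    rw [Subgroup.mem_normalizer_iff]
    intro t
    refine ⟨fun ht => key _ (nn_mem hA i) (mono_nn i) t ht, fun ht => ?_⟩
    have h1 := key _ (inv_mem (nn_mem hA i)) ((mono_nn i).inv (sg_sg i)) _ ht
    have h2 : (nn Fr i)⁻¹ * (nn Fr i * t * (nn Fr i)⁻¹) * (nn Fr i)⁻¹⁻¹ = t := by group
    rwa [h2] at h1
  rel i j := by
    refine ⟨pow_mem (mul_mem (nn_mem hA i) (nn_mem hA j)) _, ?_⟩
    exact (((mono_nn i).mul (mono_nn j)).pow _).congr fun x => sg_braid i j x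

/-! ### Conjugation -/

theorem conj_XG {g : V ≃ₗ[F] V} (hg : g ∈ G0) {π : Fin (n + 2) × Bool → Fin (n + 2) × Bool} (hm : Mono Fr g π)
    {a b : Fin (n + 2) × Bool} (h : a.1 ≠ b.1) (h' : (π a).1 ≠ (π b).1) : cj g (XG Fr a b) ≤ XG Fr (π a) (π b) := by
  rintro u hu
  rw [mem_cj] at hu
  have e0 : u = g * (g⁻¹ * u * g) * g⁻¹ := by group
  obtain ⟨t, ht⟩ := hu
  obtain ⟨l, -, hl⟩ := hm a
  obtain ⟨m, -, hm'⟩ := hm b
  rw [e0, ht, conj_X Fr (hA.iso g hg) h h' hl hm']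
  exact ⟨_, rfl⟩

theorem cj_sg {g : V ≃ₗ[F] V} (hg : g ∈ G0) {i : Fin (n + 2)} (hm : Mono Fr g (sg i)) {a b : Fin (n + 2) × Bool}
    (hab : Ok a b) : cj g (XG Fr a b) = XG Fr (sg i a) (sg i b) := by
  have hm' : Mono Fr g⁻¹ (sg i) := hm.inv (sg_sg i)
  apply le_antisymm
  · exact conj_XG hA hg hm hab (hab.sg i)
  · have h1 := conj_XG hA (inv_mem hg) hm' (hab.sg i) ((hab.sg i).sg i)
    rw [sg_sg, sg_sg] at h1
    have h2 := cj_mono g h1
    rwa [cj_cj_inv] at h2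

theorem cj_id {g : V ≃ₗ[F] V} (hg : g ∈ G0) (hm : Mono Fr g id) {a b : Fin (n + 2) × Bool}
    (hab : Ok a b) : cj g (XG Fr a b) = XG Fr a b := by
  have hm' : Mono Fr g⁻¹ id := hm.inv fun _ => rfl
  apply le_antisymm
  · exact conj_XG hA hg hm hab hab
  · have h1 := conj_XG hA (inv_mem hg) hm' hab hab
    have h2 := cj_mono g h1
    rwa [cj_cj_inv] at h2

/-! ### Rank one -/

omit hA in
theorem ee_neg_sr (i : Fin (n + 2)) : ee (-sr i) = wt (ng (i, true)) + wt (ng (nx i)) := by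
  rw [ee_neg, ee_sr, bt, wt_ng, wt_ng]; abel

omit hA in
theorem rg_sr (i : Fin (n + 2)) : rg Fr (sr i) = XG Fr (i, true) (nx i) := rg_eq Fr (ok_nx i) (ee_sr i)

omit hA in
theorem rg_neg_sr (i : Fin (n + 2)) : rg Fr (-sr i) = XG Fr (ng (nx i)) (ng (i, true)) :=
  (rg_eq Fr (ok_nx i).ng (ee_neg_sr i)).trans (XG_swap Fr (ok_nx i).ng)

theorem rk1 (i : Fin (n + 2)) {u : V ≃ₗ[F] V} (hu : u ∈ rg Fr (-sr i)) (hne : u ≠ 1) :
    ∃ a ∈ rg Fr (sr i), ∃ t ∈ Tor Fr G0, ∃ b ∈ rg Fr (sr i), u = a * t * nn Fr i * b := by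
  rw [rg_neg_sr] at hu
  rw [rg_sr]
  obtain ⟨s, rfl⟩ := hu
  have hs : s ≠ 0 := by rintro rfl; exact hne (Fr.X_zero _ _)
  have ht : -s⁻¹ ≠ 0 := neg_ne_zero.2 (inv_ne_zero hs)
  refine ⟨Fr.X (i, true) (nx i) s⁻¹, ⟨_, rfl⟩, nX Fr (i, true) (nx i) (-s⁻¹) * (nn Fr i)⁻¹,
    tor_of_mono hA (nX_mem hA _ _ _) (nn_mem hA _) (mono_nX' i ht) (mono_nn i),
    Fr.X (i, true) (nx i) s⁻¹, ⟨_, rfl⟩, ?_⟩
  have e1 : Fr.X (i, true) (nx i) s⁻¹ = (Fr.X (i, true) (nx i) (-s⁻¹))⁻¹ := by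
    rw [← Fr.X_neg, _root_.neg_neg]
  have e2 : -(-s⁻¹)⁻¹ = s := by rw [inv_neg, inv_inv, _root_.neg_neg]
  rw [e1, nX, e2]
  show Fr.X (neg (nx i)) (neg (i, true)) s = _
  group

/-! ### `p`-groups -/

omit hA in
theorem nn_mem_sup (i : Fin (n + 2)) : nn Fr i ∈ rg Fr (sr i) ⊔ rg Fr (-sr i) := by
  rw [rg_sr, rg_neg_sr]
  have h1 : ∀ t, Fr.X (i, true) (nx i) t ∈ XG Fr (i, true) (nx i) ⊔ XG Fr (ng (nx i)) (ng (i, true)) :=
    fun t => (le_sup_left : _ ≤ XG Fr (i, true) (nx i) ⊔ XG Fr (ng (nx i)) (ng (i, true))) ⟨t, rfl⟩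
  exact mul_mem (mul_mem (h1 _) ((le_sup_right : XG Fr (ng (nx i)) (ng (i, true)) ≤ _) ⟨_, rfl⟩)) (h1 _)

omit hA in
theorem isPGroup_XG {p : ℕ} [Fact p.Prime] [CharP F p] (a b : Fin (n + 2) × Bool) : IsPGroup p ↥(XG Fr a b) := by
  rintro ⟨_, t, rfl⟩
  have hXpow : ∀ m : ℕ, Fr.X a b t ^ m = Fr.X a b (m * t) := by
    intro m
    induction m with
    | zero => rw [pow_zero, Nat.cast_zero, zero_mul, Fr.X_zero]
    | succ m ih => rw [pow_succ, ih, ← Fr.X_add]; congr 1; push_cast; ring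
  refine ⟨1, Subtype.ext ?_⟩
  show Fr.X a b t ^ p ^ 1 = 1
  rw [hXpow, pow_one, CharP.cast_eq_zero, zero_mul, Fr.X_zero]

omit hA in
theorem sg_ne (i : Fin (n + 2)) : ((i, true) : Fin (n + 2) × Bool) ≠ sg i (i, true) := by
  have := i.2
  by_cases hi : (i : ℕ) + 1 < n + 2
  · rw [sg_up hi]; simp [Fin.ext_iff]
  · rw [sg_last hi]; simp

omit hA in
theorem notp {p : ℕ} (hp2 : Odd p) (i : Fin (n + 2)) : ¬ IsPGroup p ↥(rg Fr (sr i) ⊔ rg Fr (-sr i)) := by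
  intro hP
  obtain ⟨k, hk⟩ := hP ⟨nn Fr i, nn_mem_sup i⟩
  have hk' : nn Fr i ^ p ^ k = 1 := congrArg Subtype.val hk
  have hodd : Odd (p ^ k) := hp2.pow
  have hm := (mono_nn (Fr := Fr) i).pow (p ^ k)
  rw [hk'] at hm
  have hit : ∀ x, (sg i)^[p ^ k] x = sg i x := by
    intro x
    obtain ⟨m, hm'⟩ := hodd
    rw [hm', Function.iterate_add_apply, Function.iterate_one, Function.iterate_mul]
    have h1 : (sg i)^[2] = id := by
      funext y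
      exact sg_sg i y
    rw [h1, Function.iterate_id]
    rfl
  obtain ⟨l, hl, e⟩ := hm (i, true)
  rw [hit] at e
  exact not_prop (sg_ne i) hl e

/-! ### Commutators -/

section Comm

variable {W : Type*} [Group W] (cs : CoxeterSystem (M n) W)

omit hA in
theorem XG_le_btw {x y : Fin (n + 2) → ℤ} {u v : Fin (n + 2) × Bool} (huv : Ok u v) (e : wt u + wt v = ee x + ee y) :
    XG Fr u v ≤ btw cs (isCartan n) (rg Fr) x y := by
  obtain ⟨z, hz, ez⟩ := rt_of_ok (cs := cs) huv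
  rw [← rg_eq Fr huv ez]
  refine le_btw (a := 1) (b := 1) hz one_pos one_pos (ee_injective ?_)
  rw [ee_add, ee_smul, ee_smul, ez, e, one_smul, one_smul]

omit hA in
theorem comm_XX {x y : Fin (n + 2) → ℤ} {a b c d : Fin (n + 2) × Bool} (h0 : ∀ p : Fr.Adm, p = 1)
    (hab : a.1 ≠ b.1) (hcd : c.1 ≠ d.1) (hc : c = ng b)
    (ex : ee x = wt a + wt b) (ey : ee y = wt c + wt d) (hxy : x ≠ -y) {g k : V ≃ₗ[F] V} (hg : g ∈ XG Fr a b)
    (hk : k ∈ XG Fr c d) : ⁅g, k⁆ ∈ btw cs (isCartan n) (rg Fr) x y := by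
  subst hc
  by_cases had : a.1 = d.1
  · rcases eq_or_ng had with had' | had'
    · subst had'
      rw [XG_swap Fr hcd] at hk
      obtain ⟨s, rfl⟩ := hg
      obtain ⟨t, rfl⟩ := hk
      have e1 := Fr.X_mul_X_same hab s t
      rw [h0 (Frame.Adm.tr _), Fr.Z_one, one_mul] at e1
      have e2 : ⁅Fr.X a b s, Fr.X a (ng b) t⁆ = 1 := commutatorElement_eq_one_iff_mul_comm.2 e1
      rw [e2]
      exact one_mem _
    · exfalso
      apply hxy
      apply ee_injective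
      rw [ee_neg, ex, ey, had', wt_ng, wt_ng]; abel
  · obtain ⟨s, rfl⟩ := hg
    obtain ⟨t, rfl⟩ := hk
    have e1 := Fr.conj_X_X hab hcd had s t
    have e2 : ⁅Fr.X a b s, Fr.X (ng b) d t⁆ = Fr.X a d (s * t) := by
      rw [commutatorElement_def]
      have e3 : Fr.X a b s * Fr.X (ng b) d t * (Fr.X a b s)⁻¹ = _ := e1
      rw [e3]
      exact mul_inv_cancel_right _ _
    rw [e2]
    exact XG_le_btw cs (u := a) (v := d) had (by rw [ex, ey, wt_ng]; abel) ⟨_, rfl⟩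

omit hA in
theorem comm_rg (h0 : ∀ p : Fr.Adm, p = 1) {x y : Fin (n + 2) → ℤ} (hx : IsRoot cs (isCartan n) x)
    (hy : IsRoot cs (isCartan n) y) (hxy' : x ≠ -y) {g k : V ≃ₗ[F] V} (hg : g ∈ rg Fr x) (hk : k ∈ rg Fr y) :
    ⁅g, k⁆ ∈ btw cs (isCartan n) (rg Fr) x y := by
  obtain ⟨a, b, hab, ex⟩ := exists_of_isRoot cs hx
  obtain ⟨c, d, hcd, ey⟩ := exists_of_isRoot cs hy
  rw [rg_eq Fr hab ex] at hg
  rw [rg_eq Fr hcd ey] at hk
  have hba : b.1 ≠ a.1 := Ne.symm hab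
  have hdc : d.1 ≠ c.1 := Ne.symm hcd
  by_cases h1 : c = ng b
  · exact comm_XX cs h0 hab hcd h1 ex ey hxy' hg hk
  by_cases h2 : c = ng a
  · rw [XG_swap Fr hab] at hg
    exact comm_XX cs h0 hba hcd h2 (ex.trans (add_comm (wt a) (wt b))) ey hxy' hg hk
  by_cases h3 : d = ng b
  · rw [XG_swap Fr hcd] at hk
    exact comm_XX cs h0 hab hdc h3 ex (ey.trans (add_comm (wt c) (wt d))) hxy' hg hk
  by_cases h4 : d = ng a
  · rw [XG_swap Fr hab] at hg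
    rw [XG_swap Fr hcd] at hk
    exact comm_XX cs h0 hba hdc h4 (ex.trans (add_comm (wt a) (wt b))) (ey.trans (add_comm (wt c) (wt d))) hxy' hg hk
  obtain ⟨s, rfl⟩ := hg
  obtain ⟨t, rfl⟩ := hk
  rw [commutatorElement_eq_one_iff_commute.2 (Fr.commute_XX (x := a) (y := b) (z := c) (u := d) h2 h1 h4 h3 s t)]
  exact one_mem _

end Comm

/-- **The root group datum of type `D_{n+2}` of a hyperbolic Witt frame of orthogonal type.** -/
theorem rgd [Finite V] {p : ℕ} [Fact p.Prime] [CharP F p] (hp2 : Odd p) (h0 : ∀ p : Fr.Adm, p = 1)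
    {W : Type*} [Group W] (cs : CoxeterSystem (M n) W) :
    RGD cs (isCartan n) p (Tor Fr G0) (nn Fr) (rg Fr) where
  nsys := nsys hA
  conj i x hx := by
    obtain ⟨a, b, hab, e⟩ := exists_of_isRoot cs hx
    rw [rg_eq Fr hab e, rep_simple, rg_eq Fr (hab.sg i) (ee_refl_of e)]
    exact cj_sg hA (nn_mem hA i) (mono_nn i) hab
  tor x hx t ht := by
    obtain ⟨a, b, hab, e⟩ := exists_of_isRoot cs hx
    rw [rg_eq Fr hab e]
    exact cj_id hA ht.1 ht.2 hab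
  comm x y hx hy _ hxy' a ha b hb := comm_rg cs h0 hx hy hxy' ha hb
  rk1 i u hu hne := rk1 hA i hu hne
  pgrp i := by rw [rg_sr]; exact isPGroup_XG _ _
  notp i := notp hp2 i
  tcop := WittRGD.tcop hA

end Cfsg.Agent.Nodes.WittRGDD
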