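import Mathlib
import Cfsg.Agent.Nodes.BNOf
import Cfsg.Agent.Nodes.WittModel
import Cfsg.Agent.Nodes.WittRGDD
import Cfsg.Agent.Nodes.HasRGD
set_option linter.all false

-- part: Nodes/NotP
section
/-!
The field `notp` of a root group datum follows from the other axioms and `X (sr i) ≠ X (-sr i)` (finite groups):
if `P = X ⊔ X'` were a `p`-group then `T ∩ P = 1`, so `P = X ∪ X m X` with `m² = 1`, and the normaliser condition
forces `m ∈ N(X)`. Use: the classical root group data in characteristic two.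

* `not_isPGroup_sup` : the rank one statement;
* `rgd_mk` : a root group datum from its axioms without `notp`.
-/

set_option autoImplicit false

namespace Cfsg.Agent.Nodes.NotP

open CoxeterSystem Cfsg.Agent.ChevalleyStructure.CoxeterGeom Cfsg.Agent.Tits.Roots Cfsg.Agent.Tits.Core
  Cfsg.Agent.Tits.RootComb Cfsg.Agent.Nodes.Comb Cfsg.Agent.Nodes.Reps Cfsg.Agent.Nodes.BNOf
open scoped commutatorElement

section RankOne

variable {Y : Type*} [Group Y]

theorem not_isPGroup_sup [Finite Y] {p : ℕ} [Fact p.Prime] {T X X' : Subgroup Y} {n : Y}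
    (hT : (Nat.card T).Coprime p) (hTX : ∀ t ∈ T, cj t X = X) (hTX' : ∀ t ∈ T, cj t X' = X')
    (hnT : n ∈ Subgroup.normalizer (T : Set Y)) (hnn : n * n ∈ T) (hn : cj n X = X') (hn' : cj n X' = X)
    (rk : ∀ u ∈ X', u ≠ 1 → ∃ a ∈ X, ∃ t ∈ T, ∃ b ∈ X, u = a * t * n * b) (hne : X ≠ X') :
    ¬ IsPGroup p ↥(X ⊔ X') := by
  intro hP
  set P : Subgroup Y := X ⊔ X' with hPdef
  have hXP : X ≤ P := le_sup_left
  have hXP' : X' ≤ P := le_sup_right
  -- `T ∩ P = 1`
  have hTP : ∀ t ∈ T, t ∈ P → t = 1 := by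
    intro t ht htP
    obtain ⟨k, hk⟩ := hP ⟨t, htP⟩
    have hk' : t ^ p ^ k = 1 := congrArg Subtype.val hk
    have h1 : orderOf t ∣ p ^ k := orderOf_dvd_of_pow_eq_one hk'
    have h2 : orderOf t ∣ Nat.card T := by
      have h3 := orderOf_dvd_natCard (⟨t, ht⟩ : T)
      rwa [Subgroup.orderOf_mk] at h3
    have h3 : orderOf t ∣ 1 := by
      have h4 := Nat.dvd_gcd h2 h1
      rwa [(Nat.Coprime.pow_right k hT).gcd_eq_one] at h4
    rw [Nat.dvd_one, orderOf_eq_one_iff] at h3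
    exact h3
  -- `X'` is not trivial
  have hX' : X' ≠ ⊥ := by
    intro h0
    apply hne
    rw [← hn', h0]
    unfold cj
    exact Subgroup.map_bot _
  obtain ⟨⟨u, hu⟩, hu0⟩ := Subgroup.ne_bot_iff_exists_ne_one.1 hX'
  have hu1 : u ≠ 1 := fun h' => hu0 (Subtype.ext h')
  obtain ⟨a, ha, t, ht, b, hb, e⟩ := rk u hu hu1
  set m : Y := t * n with hm
  have hmP : m ∈ P := by
    have : m = a⁻¹ * u * b⁻¹ := by rw [e, hm]; group
    rw [this]
    exact mul_mem (mul_mem (inv_mem (hXP ha)) (hXP' hu)) (inv_mem (hXP hb))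
  have hmX : cj m X = X' := by rw [hm, cj_mul, hn, hTX' t ht]
  have hmX' : cj m X' = X := by rw [hm, cj_mul, hn', hTX t ht]
  have hmm : m * m = 1 := by
    apply hTP _ _ (mul_mem hmP hmP)
    have h1 : m * m = t * (n * t * n⁻¹) * (n * n) := by rw [hm]; group
    rw [h1]
    exact mul_mem (mul_mem ht ((Subgroup.mem_normalizer_iff.1 hnT t).1 ht)) hnn
  have hminv : m⁻¹ = m := inv_eq_of_mul_eq_one_left hmm
  -- elements of `X'` are in `X m X`
  have key : ∀ v ∈ X', v ≠ 1 → ∃ c ∈ X, ∃ d ∈ X, v = c * m * d := by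
    intro v hv hv1
    obtain ⟨c, hc, s, hs, d, hd, e'⟩ := rk v hv hv1
    refine ⟨c, hc, d, hd, ?_⟩
    have h1 : s * t⁻¹ = 1 := by
      apply hTP _ (mul_mem hs (inv_mem ht))
      have : s * t⁻¹ = c⁻¹ * v * d⁻¹ * m⁻¹ := by rw [e', hm]; group
      rw [this]
      exact mul_mem (mul_mem (mul_mem (inv_mem (hXP hc)) (hXP' hv)) (inv_mem (hXP hd))) (inv_mem hmP)
    have h2 : s = t := mul_inv_eq_one.1 h1
    rw [e', hm, h2]; group
  -- `X ∪ X m X` is a subgroup
  let Q : Subgroup Y :=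
    { carrier := {g | g ∈ X ∨ ∃ c ∈ X, ∃ d ∈ X, g = c * m * d}
      one_mem' := Or.inl (one_mem X)
      mul_mem' := by
        rintro g k (hg | ⟨c, hc, d, hd, rfl⟩) (hk | ⟨c', hc', d', hd', rfl⟩)
        · exact Or.inl (mul_mem hg hk)
        · exact Or.inr ⟨g * c', mul_mem hg hc', d', hd', by group⟩
        · exact Or.inr ⟨c, hc, d * k, mul_mem hd hk, by group⟩
        · have hv : m * (d * c') * m ∈ X' := by
            rw [← hmX]
            have h1 := (conj_mem_cj (g := m) (x := d * c') (A := X)).2 (mul_mem hd hc')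
            rwa [hminv] at h1
          by_cases h1 : m * (d * c') * m = 1
          · left
            have : c * m * d * (c' * m * d') = c * (m * (d * c') * m) * d' := by group
            rw [this, h1, mul_one]
            exact mul_mem hc hd'
          · obtain ⟨c₁, hc₁, d₁, hd₁, e₁⟩ := key _ hv h1
            right
            refine ⟨c * c₁, mul_mem hc hc₁, d₁ * d', mul_mem hd₁ hd', ?_⟩
            have : c * m * d * (c' * m * d') = c * (m * (d * c') * m) * d' := by group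
            rw [this, e₁]; group
      inv_mem' := by
        rintro g (hg | ⟨c, hc, d, hd, rfl⟩)
        · exact Or.inl (inv_mem hg)
        · refine Or.inr ⟨d⁻¹, inv_mem hd, c⁻¹, inv_mem hc, ?_⟩
          rw [mul_inv_rev, mul_inv_rev, hminv]; group }
  have hPQ : P ≤ Q := by
    refine sup_le (fun x hx => Or.inl hx) fun x hx => ?_
    by_cases h1 : x = 1
    · exact Or.inl (h1 ▸ one_mem X)
    · exact Or.inr (key x hx h1)
  -- normaliser condition
  have hnil : Group.IsNilpotent ↥P := hP.isNilpotent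
  have hXnorm : m ∈ Subgroup.normalizer (X : Set Y) := by
    by_cases hXP1 : X.subgroupOf P = ⊤
    · have hPX : P ≤ X := Subgroup.subgroupOf_eq_top.1 hXP1
      exact Subgroup.le_normalizer (hPX hmP)
    · have h1 := Group.normalizerCondition_of_isNilpotent (G := ↥P) (X.subgroupOf P) (lt_top_iff_ne_top.2 hXP1)
      obtain ⟨g, hg, hg'⟩ := SetLike.exists_of_lt h1
      have hg1 : (g : Y) ∈ Subgroup.normalizer (X : Set Y) := by
        rw [Subgroup.mem_normalizer_iff] at hg ⊢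
        intro x
        constructor
        · intro hx
          have h2 := (hg ⟨x, hXP hx⟩).1 (Subgroup.mem_subgroupOf.2 hx)
          exact Subgroup.mem_subgroupOf.1 h2
        · intro hx
          have hxP : x ∈ P := by
            have : x = (g : Y)⁻¹ * (g * x * (g : Y)⁻¹) * g := by group
            rw [this]
            exact mul_mem (mul_mem (inv_mem g.2) (hXP hx)) g.2
          have h2 := (hg ⟨x, hxP⟩).2 (Subgroup.mem_subgroupOf.2 hx)
          exact Subgroup.mem_subgroupOf.1 h2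
      rcases hPQ g.2 with h2 | ⟨c, hc, d, hd, e2⟩
      · exact absurd (Subgroup.mem_subgroupOf.2 h2) hg'
      · have : m = c⁻¹ * g * d⁻¹ := by rw [e2]; group
        rw [this]
        exact mul_mem (mul_mem (inv_mem (Subgroup.le_normalizer hc)) hg1) (inv_mem (Subgroup.le_normalizer hd))
  exact hne ((mem_normalizer_iff_cj.1 hXnorm).symm.trans hmX)

end RankOne

variable {I W Y : Type*} [Fintype I] [DecidableEq I] [Group W] [Group Y] {M : CoxeterMatrix I}

/-- A root group datum from its axioms without `notp`. -/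
theorem rgd_mk [Finite Y] {p : ℕ} [Fact p.Prime] {cs : CoxeterSystem M W} {A : I → I → ℤ} {h : IsCartan M A}
    {T : Subgroup Y} {n : I → Y} {X : (I → ℤ) → Subgroup Y} (nsys : NSys M T n)
    (conj : ∀ i x, IsRoot cs h x → cj (n i) (X x) = X (rep cs h (cs.simple i) x))
    (tor : ∀ x, IsRoot cs h x → ∀ t ∈ T, cj t (X x) = X x)
    (comm : ∀ x y, IsRoot cs h x → IsRoot cs h y → x ≠ y → x ≠ -y → ∀ a ∈ X x, ∀ b ∈ X y, ⁅a, b⁆ ∈ btw cs h X x y)
    (rk1 : ∀ i, ∀ u ∈ X (-sr i), u ≠ 1 → ∃ a ∈ X (sr i), ∃ t ∈ T, ∃ b ∈ X (sr i), u = a * t * n i * b)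
    (pgrp : ∀ i, IsPGroup p ↥(X (sr i))) (hne : ∀ i, X (sr i) ≠ X (-sr i)) (tcop : (Nat.card T).Coprime p) :
    RGD cs h p T n X where
  nsys := nsys
  conj := conj
  tor := tor
  comm := comm
  rk1 := rk1
  pgrp := pgrp
  tcop := tcop
  notp i := by
    have hr : IsRoot cs h (sr i) := isRoot_sr cs h i
    have e1 : rep cs h (cs.simple i) (sr i) = -sr i := rep_simple_sr cs h i
    have e2 : rep cs h (cs.simple i) (-sr i) = sr i := by
      rw [map_neg, e1, neg_neg]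
    refine not_isPGroup_sup tcop (tor _ hr) (tor _ hr.neg) (nsys.norm i) ?_ ?_ ?_ (rk1 i) (hne i)
    · have := nsys.rel i i
      rwa [M.diagonal, pow_one] at this
    · rw [conj i _ hr, e1]
    · rw [conj i _ hr.neg, e2]

end Cfsg.Agent.Nodes.NotP
end

-- part: Nodes/WittAll
section
/-!
The root group data of Witt frames in every characteristic (`WittRGD.rgd`, `WittModel.rgd`, `WittRGDD.rgd` without
the hypothesis that `p` is odd, and with the weaker ambient structure `AmbT`, which covers quadratic forms in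
characteristic two).

* `AmbT Fr p G0` : `WittRoot.Amb` with `aniso` replaced by: elements of order `p` of `G0` which fix the frame are
  trivial; `AmbT.of_amb`;
* `rgdC` : type `C_n`, every Witt frame with anisotropic part; `rgdC_model`, `hasRGD_C` : the same for a model
  `FrameCN.Model`;
* `rgdD` : type `D_{n+2}`, hyperbolic frames of orthogonal type.
-/

set_option autoImplicit false

namespace Cfsg.Agent.Nodes.WittAll

open Cfsg.Agent.ChevalleyStructure.CoxeterGeom Cfsg.Agent.Tits.Roots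
open Cfsg.Agent.Nodes.Comb Cfsg.Agent.Nodes.Reps Cfsg.Agent.Nodes.WittRoot Cfsg.Agent.Nodes.BNOf
open Cfsg.Agent.Nodes.RGDLib
open Cfsg.Agent.TitsThree Cfsg.Agent.TitsThree.Siegel Cfsg.Agent.TitsThree.WittFrame Cfsg.Agent.TitsThree.WittWeyl
  Cfsg.Agent.TitsThree.FrameCN
open scoped commutatorElement

variable {F : Type*} [Field F] {V : Type*} [AddCommGroup V] [Module F V] {H : HForm F V}

/-! ### The ambient group -/

section Ambient

variable {n : ℕ} (Fr : Frame H (Fin n))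

/-- A group of isometries containing the root elements of a frame; elements of order `p` fixing the frame are
trivial. -/
structure AmbT (p : ℕ) (G0 : Subgroup (V ≃ₗ[F] V)) : Prop where
  iso : ∀ g ∈ G0, H.IsIso g
  ok : ∀ g ∈ G0, ∀ w c, Fr.ok w c → g w ∈ Fr.V0 → Fr.ok (g w) c
  X_mem : ∀ a b t, Fr.X a b t ∈ G0
  Z_mem : ∀ a p, Fr.Z a p ∈ G0
  V0 : ∀ v, (∀ x, H.h v (Fr.b x) = 0) → v ∈ Fr.V0
  ok_aniso : ∀ w, Fr.ok w 0 → w = 0
  fixp : ∀ g ∈ G0, g ^ p = 1 → (∀ x, g (Fr.b x) = Fr.b x) → g = 1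

variable {Fr} {G0 : Subgroup (V ≃ₗ[F] V)}

/-- An element of order `p` fixing a frame with anisotropic part is trivial. -/
theorem eq_one_of_pow (hA : Amb Fr G0) {p : ℕ} [Fact p.Prime] [CharP F p] {g : V ≃ₗ[F] V} (hg : g ∈ G0)
    (hgp : g ^ p = 1) (hb : ∀ x, g (Fr.b x) = Fr.b x) : g = 1 := by
  have hm : Mono Fr g id := fun x => ⟨1, one_ne_zero, by rw [_root_.one_smul]; exact hb x⟩
  have hV0 : ∀ w ∈ Fr.V0, g w ∈ Fr.V0 := fun w hw => hA.map_V0 hg hm (ρ := id) (fun _ => rfl) hw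
  have hN : ∀ w ∈ Fr.V0, g w = w := by
    set N : Module.End F V := (g : V →ₗ[F] V) - 1 with hNdef
    have hNa : ∀ v, N v = g v - v := fun v => rfl
    have hpow : ∀ m : ℕ, ((g : V →ₗ[F] V) : Module.End F V) ^ m = ((g ^ m : V ≃ₗ[F] V) : V →ₗ[F] V) := by
      intro m
      induction m with
      | zero => rfl
      | succ m ih => rw [pow_succ, ih, pow_succ]; rfl
    have hNp : N ^ p = 0 := by
      have : CharP (Module.End F V) p ∨ Subsingleton V := by
        by_cases hs : Subsingleton V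
        · exact Or.inr hs
        · left
          rw [not_subsingleton_iff_nontrivial] at hs
          exact charP_of_injective_algebraMap (algebraMap F (Module.End F V)).injective p
      rcases this with h | h
      · rw [hNdef, sub_pow_char_of_commute p (Commute.one_right _), one_pow, hpow, hgp]
        exact sub_self _
      · exact Subsingleton.elim _ _
    have hNV : ∀ w ∈ Fr.V0, N w ∈ Fr.V0 := fun w hw => by
      rw [hNa]; exact Submodule.sub_mem _ (hV0 w hw) hw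
    have key : ∀ m : ℕ, ∀ w ∈ Fr.V0, (N ^ m) w = 0 → N w = 0 := by
      intro m
      induction m with
      | zero =>
        intro w _ h0
        rw [pow_zero, Module.End.one_apply] at h0
        rw [h0, map_zero]
      | succ m ih =>
        intro w hw h0
        rw [pow_succ, Module.End.mul_apply] at h0
        have h1 := ih (N w) (hNV w hw) h0
        have h2 : g (N w) = N w := by rw [hNa] at h1; exact sub_eq_zero.1 h1
        apply hA.aniso _ (hNV w hw)
        have h3 : H.h (N w) (N w) = H.h (g w) (N w) - H.h w (N w) := by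
          conv_lhs => rw [hNa w]
          rw [H.sub_left]
          rfl
        have h4 : H.h (g w) (N w) = H.h w (N w) := by
          conv_lhs => rw [← h2]
          exact hA.iso g hg _ _
        rw [h3, h4, sub_self]
    intro w hw
    have h1 := key p w hw (by rw [hNp]; rfl)
    rw [hNa] at h1
    exact sub_eq_zero.1 h1
  exact WittRGD.Amb.eq_one_of_fix hA hb hN

theorem AmbT.of_amb (hA : Amb Fr G0) (p : ℕ) [Fact p.Prime] [CharP F p] : AmbT Fr p G0 where
  iso := hA.iso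
  ok := hA.ok
  X_mem := hA.X_mem
  Z_mem := hA.Z_mem
  V0 := hA.V0
  ok_aniso := hA.ok_aniso
  fixp _ hg hgp hb := eq_one_of_pow hA hg hgp hb

variable {p : ℕ} (hA : AmbT Fr p G0)

include hA

/-- A monomial element preserves `V0`. -/
theorem AmbT.map_V0 {g : V ≃ₗ[F] V} (hg : g ∈ G0) {π ρ : Fin n × Bool → Fin n × Bool} (hm : Mono Fr g π)
    (hρ : ∀ x, π (ρ x) = x) {w : V} (hw : w ∈ Fr.V0) : g w ∈ Fr.V0 := by
  apply hA.V0
  intro x
  obtain ⟨l, hl, e⟩ := hm (ρ x)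
  rw [hρ] at e
  have h1 : Fr.b x = l⁻¹ • g (Fr.b (ρ x)) := by rw [e, smul_smul, inv_mul_cancel₀ hl, _root_.one_smul]
  rw [h1, H.smul_right, hA.iso g hg, Fr.h0' _ hw, mul_zero]

theorem AmbT.exists_adm {g : V ≃ₗ[F] V} (hg : g ∈ G0) {π ρ : Fin n × Bool → Fin n × Bool} (hm : Mono Fr g π)
    (hρ : ∀ x, π (ρ x) = x) (p : Fr.Adm) : ∃ q : Fr.Adm, g p.w = q.w ∧ p.c = q.c :=
  ⟨⟨g p.w, p.c, hA.ok g hg _ _ p.ok (hA.map_V0 hg hm hρ (Fr.ok_mem p.ok))⟩, rfl, rfl⟩

theorem AmbT.PG_le {a b : Fin n × Bool} : PG Fr a b ≤ G0 := by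
  unfold PG
  split_ifs
  · rintro _ ⟨p, rfl⟩; exact hA.Z_mem _ _
  · rintro _ ⟨t, rfl⟩; exact hA.X_mem _ _ _

theorem AmbT.rg_le (x : Fin n → ℤ) : WittRoot.rg Fr x ≤ G0 := iSup_le fun _ => hA.PG_le

/-- The torus is a `p'`-group. -/
theorem AmbT.tcop [Finite V] [Fact p.Prime] [CharP F p] : (Nat.card (WittRGD.Tor Fr G0)).Coprime p := by
  have : Finite (V ≃ₗ[F] V) := Finite.of_injective (fun g : V ≃ₗ[F] V => (g : V → V)) DFunLike.coe_injective
  rw [Nat.coprime_comm, (Fact.out : p.Prime).coprime_iff_not_dvd]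
  intro hdvd
  obtain ⟨⟨g, hgT⟩, hg⟩ := exists_prime_orderOf_dvd_card' p hdvd
  have hgp : g ^ p = 1 := by
    have := pow_orderOf_eq_one (⟨g, hgT⟩ : WittRGD.Tor Fr G0)
    rw [hg] at this
    exact congrArg Subtype.val this
  have hb := WittRGD.Mono.apply_of_pow hgT.2 hgp
  have h1 : g = 1 := hA.fixp g hgT.1 hgp hb
  subst h1
  have h2 : (⟨1, hgT⟩ : WittRGD.Tor Fr G0) = 1 := rfl
  rw [h2, orderOf_one] at hg
  exact (Fact.out : p.Prime).one_lt.ne hg

end Ambient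

/-! ### Type `C_n` -/

section TypeC

open Cfsg.Agent.Nodes.TypeC
open Cfsg.Agent.Nodes.WittRGD (Tor mem_Tor not_prop b_ne_zero eq_or_ng nn mono_nX mono_nZ mono_nn nn_mem_sup rg_sr
  rg_neg_sr isPGroup_PG)

variable {n : ℕ} {Fr : Frame H (Fin n)} {G0 : Subgroup (V ≃ₗ[F] V)}

/-- Elements of the simple root groups fix `b (i, true)`. -/
theorem fix_of_mem_rg_sr {i : Fin n} {g : V ≃ₗ[F] V} (hg : g ∈ WittRoot.rg Fr (sr i)) :
    g (Fr.b (i, true)) = Fr.b (i, true) := by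
  rw [rg_sr] at hg
  by_cases hi : (i : ℕ) + 1 < n
  · have hnx : nx i = (⟨i + 1, hi⟩, false) := by unfold nx; rw [dif_pos hi]
    have hne' : ((i, true) : Fin n × Bool).1 ≠ (nx i).1 := by rw [hnx]; simp [Fin.ext_iff]
    rw [PG_ne Fr hne'] at hg
    obtain ⟨t, rfl⟩ := hg
    refine X_apply_of_ne Fr hne' (ne_neg_self _) ?_ t
    rw [hnx]
    intro h
    have := congrArg Prod.fst h
    simp [Fin.ext_iff] at this
  · have hnx : nx i = (i, true) := by unfold nx; rw [dif_neg hi]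
    rw [hnx, PG_self] at hg
    obtain ⟨q, rfl⟩ := hg
    exact Z_apply_of_ne Fr (ne_neg_self _) q

theorem rg_sr_ne {p0 : Fr.Adm} (hp0 : p0.c ≠ 0) (i : Fin n) : WittRoot.rg Fr (sr i) ≠ WittRoot.rg Fr (-sr i) := by
  intro h
  have h1 : nn Fr p0 i ∈ WittRoot.rg Fr (sr i) := by
    have h2 := nn_mem_sup (Fr := Fr) p0 i
    rwa [← h, sup_idem] at h2
  obtain ⟨l, hl, e⟩ := mono_nn hp0 i (i, true)
  have h3 := fix_of_mem_rg_sr h1
  have h4 : ((i, true) : Fin n × Bool) ≠ sg i (i, true) := by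
    by_cases hi : (i : ℕ) + 1 < n
    · rw [sg_up hi]; simp [Fin.ext_iff]
    · rw [sg_last hi]; simp
  exact not_prop h4 hl (h3.symm.trans e)

variable {p : ℕ} (hA : AmbT Fr p G0)

include hA

theorem AmbT.conj_PG {g : V ≃ₗ[F] V} (hg : g ∈ G0) {π ρ : Fin n × Bool → Fin n × Bool} (hm : Mono Fr g π)
    (hρ : ∀ x, π (ρ x) = x) {a b : Fin n × Bool} (hab : Ok a b)
    (hne : a.1 ≠ b.1 → (π a).1 ≠ (π b).1) : cj g (PG Fr a b) ≤ PG Fr (π a) (π b) := by
  rintro u hu
  rw [mem_cj] at hu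
  have e0 : u = g * (g⁻¹ * u * g) * g⁻¹ := by group
  rcases hab with h | rfl
  · rw [PG_ne Fr h] at hu
    obtain ⟨t, ht⟩ := hu
    obtain ⟨l, -, hl⟩ := hm a
    obtain ⟨m, -, hm'⟩ := hm b
    rw [e0, ht, conj_X Fr (hA.iso g hg) h (hne h) hl hm', PG_ne Fr (hne h)]
    exact ⟨_, rfl⟩
  · rw [PG_self] at hu ⊢
    obtain ⟨p, hp⟩ := hu
    obtain ⟨l, -, hl⟩ := hm a
    obtain ⟨q, hq, hq'⟩ := hA.exists_adm hg hm hρ p
    rw [e0, hp, conj_Z Fr (hA.iso g hg) hl p q hq hq']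
    exact ⟨_, rfl⟩

theorem AmbT.cj_sg {g : V ≃ₗ[F] V} (hg : g ∈ G0) {i : Fin n} (hm : Mono Fr g (sg i)) {a b : Fin n × Bool}
    (hab : Ok a b) : cj g (PG Fr a b) = PG Fr (sg i a) (sg i b) := by
  have hm' : Mono Fr g⁻¹ (sg i) := hm.inv (sg_sg i)
  apply le_antisymm
  · exact hA.conj_PG hg hm (sg_sg i) hab fun h h' => h ((sg_fst_eq i).1 h')
  · have h1 := hA.conj_PG (inv_mem hg) hm' (sg_sg i) (hab.sg i) fun h h' => h ((sg_fst_eq i).1 h')
    rw [sg_sg, sg_sg] at h1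
    have h2 := cj_mono g h1
    rwa [cj_cj_inv] at h2

theorem AmbT.cj_id {g : V ≃ₗ[F] V} (hg : g ∈ G0) (hm : Mono Fr g id) {a b : Fin n × Bool}
    (hab : Ok a b) : cj g (PG Fr a b) = PG Fr a b := by
  have hm' : Mono Fr g⁻¹ id := hm.inv fun _ => rfl
  apply le_antisymm
  · exact hA.conj_PG hg hm (ρ := id) (fun _ => rfl) hab fun h => h
  · have h1 := hA.conj_PG (inv_mem hg) hm' (ρ := id) (fun _ => rfl) hab fun h => h
    have h2 := cj_mono g h1
    rwa [cj_cj_inv] at h2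

theorem nX_mem (a b : Fin n × Bool) (t : F) : nX Fr a b t ∈ G0 :=
  mul_mem (mul_mem (hA.X_mem _ _ _) (hA.X_mem _ _ _)) (hA.X_mem _ _ _)

theorem nZ_mem (a : Fin n × Bool) (p : Fr.Adm) : nZ Fr a p ∈ G0 :=
  mul_mem (mul_mem (hA.Z_mem _ _) (hA.Z_mem _ _)) (hA.Z_mem _ _)

theorem nn_mem (p0 : Fr.Adm) (i : Fin n) : nn Fr p0 i ∈ G0 := by
  unfold WittRGD.nn
  split_ifs
  · exact nX_mem hA _ _ _
  · exact nZ_mem hA _ _

omit hA in
theorem tor_of_mono {g k : V ≃ₗ[F] V} (hg : g ∈ G0) (hk : k ∈ G0) {i : Fin n} (h1 : Mono Fr g (sg i))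
    (h2 : Mono Fr k (sg i)) : g * k⁻¹ ∈ Tor Fr G0 :=
  ⟨mul_mem hg (inv_mem hk), (h1.mul (h2.inv (sg_sg i))).congr fun x => sg_sg i x⟩

theorem nsysC {p0 : Fr.Adm} (hp0 : p0.c ≠ 0) : NSys (CoxeterMatrix.B n) (Tor Fr G0) (nn Fr p0) where
  norm i := by
    have key : ∀ g : V ≃ₗ[F] V, g ∈ G0 → Mono Fr g (sg i) → ∀ t ∈ Tor Fr G0, g * t * g⁻¹ ∈ Tor Fr G0 := by
      intro g hg hm t ht
      refine ⟨mul_mem (mul_mem hg ht.1) (inv_mem hg), ?_⟩
      exact ((hm.mul ht.2).mul (hm.inv (sg_sg i))).congr fun x => sg_sg i x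
    rw [Subgroup.mem_normalizer_iff]
    intro t
    refine ⟨fun ht => key _ (nn_mem hA p0 i) (mono_nn hp0 i) t ht, fun ht => ?_⟩
    have h1 := key _ (inv_mem (nn_mem hA p0 i)) ((mono_nn hp0 i).inv (sg_sg i)) _ ht
    have h2 : (nn Fr p0 i)⁻¹ * (nn Fr p0 i * t * (nn Fr p0 i)⁻¹) * (nn Fr p0 i)⁻¹⁻¹ = t := by group
    rwa [h2] at h1
  rel i j := by
    refine ⟨pow_mem (mul_mem (nn_mem hA p0 i) (nn_mem hA p0 j)) _, ?_⟩
    exact (((mono_nn hp0 i).mul (mono_nn hp0 j)).pow _).congr fun x => sg_braid i j x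

theorem rk1C {p0 : Fr.Adm} (hp0 : p0.c ≠ 0) (i : Fin n) {u : V ≃ₗ[F] V} (hu : u ∈ WittRoot.rg Fr (-sr i))
    (hne : u ≠ 1) :
    ∃ a ∈ WittRoot.rg Fr (sr i), ∃ t ∈ Tor Fr G0, ∃ b ∈ WittRoot.rg Fr (sr i), u = a * t * nn Fr p0 i * b := by
  rw [rg_neg_sr] at hu
  rw [rg_sr]
  by_cases hi : (i : ℕ) + 1 < n
  · have hnx : nx i = (⟨i + 1, hi⟩, false) := by unfold nx; rw [dif_pos hi]
    have hne' : ((i, true) : Fin n × Bool).1 ≠ (nx i).1 := by rw [hnx]; simp [Fin.ext_iff]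
    rw [PG_ne Fr (a := ng (i, true)) (b := ng (nx i)) hne', XG_swap Fr (a := ng (i, true)) (b := ng (nx i)) hne'] at hu
    rw [PG_ne Fr hne']
    obtain ⟨s, rfl⟩ := hu
    have hs : s ≠ 0 := by rintro rfl; exact hne (Fr.X_zero _ _)
    have ht : -s⁻¹ ≠ 0 := neg_ne_zero.2 (inv_ne_zero hs)
    refine ⟨Fr.X (i, true) (nx i) s⁻¹, ⟨_, rfl⟩, nX Fr (i, true) (nx i) (-s⁻¹) * (nn Fr p0 i)⁻¹,
      tor_of_mono (nX_mem hA _ _ _) (nn_mem hA _ _) (mono_nX hi ht) (mono_nn hp0 i),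
      Fr.X (i, true) (nx i) s⁻¹, ⟨_, rfl⟩, ?_⟩
    have e1 : Fr.X (i, true) (nx i) s⁻¹ = (Fr.X (i, true) (nx i) (-s⁻¹))⁻¹ := by
      rw [← Fr.X_neg, _root_.neg_neg]
    have e2 : -(-s⁻¹)⁻¹ = s := by rw [inv_neg, inv_inv, _root_.neg_neg]
    rw [e1, nX, e2]
    show Fr.X (neg (nx i)) (neg (i, true)) s = _
    group
  · have hnx : nx i = (i, true) := by unfold nx; rw [dif_neg hi]
    rw [hnx, PG_self] at hu ⊢
    obtain ⟨q, rfl⟩ := hu
    have hη := Fr.η_ne (i, true)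
    have hq : q.c ≠ 0 := by
      intro h0
      apply hne
      have hw : q.w = 0 := hA.ok_aniso _ (by have := q.ok; rwa [h0] at this)
      have : q = 1 := by ext <;> simp [hw, h0]
      rw [this, Fr.Z_one]
    set μ : F := -(Fr.η (i, true) * q.c)⁻¹ with hμ
    have hμ0 : μ ≠ 0 := neg_ne_zero.2 (inv_ne_zero (mul_ne_zero hη hq))
    have hσμ : H.σ μ ≠ 0 := by simpa using hμ0
    have hσq : H.σ q.c ≠ 0 := by simpa using hq
    set p : Fr.Adm := Frame.Adm.smul μ q with hp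
    have hpc : p.c = μ * H.σ μ * q.c := rfl
    have hp' : p.c ≠ 0 := by rw [hpc]; exact mul_ne_zero (mul_ne_zero hμ0 hσμ) hq
    have hmid : Frame.Adm.smul (-(Fr.η (i, true) * (H.σ p.c)⁻¹)) p = q := by
      rw [hp, Frame.Adm.smul_smul]
      have e1 : -(Fr.η (i, true) * (H.σ (Frame.Adm.smul μ q).c)⁻¹) * μ = 1 := by
        rw [Frame.Adm.smul_c, map_mul, map_mul, H.σσ, hμ]
        simp only [map_neg, map_inv₀, map_mul, Fr.σ_η]
        field_simp
      rw [e1, Frame.Adm.one_smul]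
    refine ⟨(Fr.Z (i, true) p)⁻¹, ⟨p⁻¹, (Fr.Z_inv _ _).symm⟩, nZ Fr (i, true) p * (nn Fr p0 i)⁻¹,
      tor_of_mono (nZ_mem hA _ _) (nn_mem hA _ _) (mono_nZ hi hp') (mono_nn hp0 i),
      (Fr.Z (i, true) (Frame.Adm.smul (H.ε * p.c * (H.σ p.c)⁻¹) p))⁻¹, ⟨_, (Fr.Z_inv _ _).symm⟩, ?_⟩
    rw [nZ, hmid]
    show Fr.Z (neg (i, true)) q = _
    group

/-- **The root group datum of type `C_n` of a Witt frame, every characteristic.** -/
theorem rgdC [Finite V] [Fact p.Prime] [CharP F p] {p0 : Fr.Adm} (hp0 : p0.c ≠ 0)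
    {W : Type*} [Group W] (cs : CoxeterSystem (CoxeterMatrix.B n) W) :
    RGD cs (isCartan n) p (Tor Fr G0) (nn Fr p0) (WittRoot.rg Fr) := by
  have : Finite (V ≃ₗ[F] V) := Finite.of_injective (fun g : V ≃ₗ[F] V => (g : V → V)) DFunLike.coe_injective
  refine NotP.rgd_mk (nsysC hA hp0) ?_ ?_ ?_ (fun i u hu hne => rk1C hA hp0 i hu hne) ?_ (rg_sr_ne hp0) hA.tcop
  · intro i x hx
    obtain ⟨a, b, hab, e⟩ := exists_of_isRoot cs hx
    rw [rg_eq Fr hab e, rep_simple, rg_eq Fr (hab.sg i) (ee_refl_of e)]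
    exact hA.cj_sg (nn_mem hA p0 i) (mono_nn hp0 i) hab
  · intro x hx t ht
    obtain ⟨a, b, hab, e⟩ := exists_of_isRoot cs hx
    rw [rg_eq Fr hab e]
    exact hA.cj_id ht.1 ht.2 hab
  · intro x y hx hy hxy hxy' a ha b hb
    exact comm_rg cs hx hy hxy hxy' ha hb
  · intro i
    rw [rg_sr]
    exact isPGroup_PG _ _

omit hA

variable {K : Type*} [Group K] (M : Model Fr K)

theorem ker_le_center : M.φ.ker ≤ Subgroup.center ↥M.I := by
  intro g hg
  rw [Subgroup.mem_center_iff]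
  intro k
  -- `g` fixes every line, so it is a scalar on each vector
  have hs : ∀ v, ∃ a : F, g.1 v = a • v := fun v => M.ker v g hg
  have hk : ∀ v, ∃ c : F, k.1 v ≠ 0 → g.1 v = c • v ∧ g.1 (k.1 v) = c • k.1 v := by
    intro v
    by_cases hv : ∃ m : F, k.1 v = m • v
    · obtain ⟨m, hm⟩ := hv
      obtain ⟨a, ha⟩ := hs v
      exact ⟨a, fun _ => ⟨ha, by rw [hm, map_smul, ha, smul_comm]⟩⟩
    · obtain ⟨a, ha⟩ := hs v
      obtain ⟨c, hc⟩ := hs (k.1 v)
      obtain ⟨d, hd⟩ := hs (v + k.1 v)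
      rw [map_add, ha, hc, smul_add] at hd
      have h1 : (c - d) • k.1 v = (d - a) • v := by
        rw [sub_smul, sub_smul]
        have h2 := hd
        rw [← sub_eq_zero] at h2 ⊢
        rw [← h2]; abel
      have hcd : c = d := by
        by_contra hne
        apply hv
        refine ⟨(c - d)⁻¹ * (d - a), ?_⟩
        rw [mul_smul, ← h1, smul_smul, inv_mul_cancel₀ (sub_ne_zero.2 hne), _root_.one_smul]
      have hv0 : v ≠ 0 := by
        rintro rfl
        exact hv ⟨0, by rw [map_zero, zero_smul]⟩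
      have had : a = d := by
        subst hcd
        rw [sub_self, zero_smul] at h1
        rcases smul_eq_zero.1 h1.symm with h3 | h3
        · exact (sub_eq_zero.1 h3).symm
        · exact absurd h3 hv0
      exact ⟨c, fun _ => ⟨by rw [ha, had, hcd], hc⟩⟩
  apply Subtype.ext
  ext v
  change k.1 (g.1 v) = g.1 (k.1 v)
  obtain ⟨c, hc⟩ := hk v
  by_cases h0 : k.1 v = 0
  · have hv : v = 0 := k.1.map_eq_zero_iff.1 h0
    rw [hv]; simp
  · obtain ⟨h1, h2⟩ := hc h0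
    rw [h1, h2, map_smul]

/-- **The root group datum of a model, every characteristic.** -/
theorem rgdC_model (hA : AmbT Fr p M.I) [Finite V] [Fact p.Prime] [CharP F p] {p0 : Fr.Adm} (hp0 : p0.c ≠ 0)
    {W : Type*} [Group W] (cs : CoxeterSystem (CoxeterMatrix.B n) W) :
    RGD cs (isCartan n) p (WittModel.T M) (fun i => M.φ ⟨nn Fr p0 i, nn_mem hA p0 i⟩) (WittModel.X M) := by
  have : Finite (V ≃ₗ[F] V) := Finite.of_injective (fun g : V ≃ₗ[F] V => (g : V → V)) DFunLike.coe_injective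
  have : Finite W := finite_W cs
  exact rgd_map_of_ker_le_center (rgd_restrict (rgdC hA hp0 cs) M.I (fun x _ => hA.rg_le x)
    (fun i => nn_mem hA p0 i)) M.φ (ker_le_center M)

theorem hasRGD_C (hA : AmbT Fr p M.I) [Finite V] [Fact p.Prime] [CharP F p] {p0 : Fr.Adm} (hp0 : p0.c ≠ 0)
    (hn : 0 < n) : RGDChev.HasRGD p K :=
  ⟨n, CoxeterMatrix.B n, A n, isCartan n, _, _, _, finite_W (CoxeterMatrix.B n).toCoxeterSystem,
    rgdC_model M hA hp0 _, WittModel.G1_eq_top _ hn _⟩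

end TypeC

/-! ### Type `D_{n+2}` -/

section TypeD

open Cfsg.Agent.Nodes.TypeC (wt wt_apply ng ng_ng ng_fst ng_snd wt_ng)
open Cfsg.Agent.Nodes.TypeD
open Cfsg.Agent.Nodes.WittRGD (Tor mem_Tor not_prop b_ne_zero eq_or_ng)

variable {n : ℕ} {Fr : Frame H (Fin (n + 2))} {G0 : Subgroup (V ≃ₗ[F] V)}

theorem nx_ne_ng (i : Fin (n + 2)) : ((i, true) : Fin (n + 2) × Bool) ≠ neg (nx i) := by
  intro h
  have h1 : ((i, true) : Fin (n + 2) × Bool).1 = (neg (nx i)).1 := congrArg Prod.fst h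
  exact ok_nx i h1

theorem fix_of_mem_rgD_sr {i : Fin (n + 2)} {g : V ≃ₗ[F] V} (hg : g ∈ WittRGDD.rg Fr (sr i)) :
    g (Fr.b (i, true)) = Fr.b (i, true) := by
  rw [WittRGDD.rg_sr] at hg
  obtain ⟨t, rfl⟩ := hg
  exact X_apply_of_ne Fr (ok_nx i) (ne_neg_self _) (nx_ne_ng i) t

theorem rgD_sr_ne (i : Fin (n + 2)) : WittRGDD.rg Fr (sr i) ≠ WittRGDD.rg Fr (-sr i) := by
  intro h
  have h1 : WittRGDD.nn Fr i ∈ WittRGDD.rg Fr (sr i) := by
    have h2 := WittRGDD.nn_mem_sup (Fr := Fr) i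
    rwa [← h, sup_idem] at h2
  obtain ⟨l, hl, e⟩ := WittRGDD.mono_nn (Fr := Fr) i (i, true)
  exact not_prop (WittRGDD.sg_ne i) hl ((fix_of_mem_rgD_sr h1).symm.trans e)

/-- **The root group datum of type `D_{n+2}` of a hyperbolic Witt frame of orthogonal type, every
characteristic.** -/
theorem rgdD (hA : Amb Fr G0) [Finite V] {p : ℕ} [Fact p.Prime] [CharP F p] (h0 : ∀ p : Fr.Adm, p = 1)
    {W : Type*} [Group W] (cs : CoxeterSystem (M n) W) :
    RGD cs (isCartan n) p (Tor Fr G0) (WittRGDD.nn Fr) (WittRGDD.rg Fr) := by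
  have : Finite (V ≃ₗ[F] V) := Finite.of_injective (fun g : V ≃ₗ[F] V => (g : V → V)) DFunLike.coe_injective
  refine NotP.rgd_mk (WittRGDD.nsys hA) ?_ ?_ ?_ (fun i u hu hne => WittRGDD.rk1 hA i hu hne) ?_ rgD_sr_ne
    (WittRGD.tcop hA)
  · intro i x hx
    obtain ⟨a, b, hab, e⟩ := exists_of_isRoot cs hx
    rw [WittRGDD.rg_eq Fr hab e, rep_simple, WittRGDD.rg_eq Fr (hab.sg i) (ee_refl_of e)]
    exact WittRGDD.cj_sg hA (WittRGDD.nn_mem hA i) (WittRGDD.mono_nn i) hab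
  · intro x hx t ht
    obtain ⟨a, b, hab, e⟩ := exists_of_isRoot cs hx
    rw [WittRGDD.rg_eq Fr hab e]
    exact WittRGDD.cj_id hA ht.1 ht.2 hab
  · intro x y hx hy _ hxy' a ha b hb
    exact WittRGDD.comm_rg cs h0 hx hy hxy' ha hb
  · intro i
    rw [WittRGDD.rg_sr]
    exact WittRGDD.isPGroup_XG _ _

end TypeD

end Cfsg.Agent.Nodes.WittAll
end
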