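import Mathlib
import Cfsg.Agent.Nodes.WittModel
import Cfsg.Agent.TitsThree.KInstU
import Cfsg.Agent.TitsThree.KInstSp
set_option linter.all false

/-!
Root group data of `PSU N F q` (`N ≥ 3`) and `PSp m F` (`m ≥ 1`), odd characteristic (project CIT, charts).

* `amb_of` : ambient data of a `WFrame`;
* `amb_U`, `amb_Sp`; `exists_wframe` : Witt frames of the Prelude hermitian form whose planes are the coordinate
  planes;
* `hasRGD_PSU`, `hasRGD_PSp`.
-/

set_option autoImplicit false

namespace Cfsg.Agent.Nodes.WittU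

open Cfsg Cfsg.Agent.LieClassical.HermBasic Cfsg.Agent.LieClassical.HermGen
  Cfsg.Agent.LieClassical.HermSiegel
open Cfsg.Agent.ChevalleyStructure.CoxeterGeom Cfsg.Agent.Tits.Roots Cfsg.Agent.Nodes.TypeC
open Cfsg.Agent.Nodes.Comb Cfsg.Agent.Nodes.Reps Cfsg.Agent.Nodes.WittRoot Cfsg.Agent.Nodes.BNOf
open Cfsg.Agent.Nodes.WittRGD Cfsg.Agent.Nodes.RGDLib
open Cfsg.Agent.TitsThree Cfsg.Agent.TitsThree.Siegel Cfsg.Agent.TitsThree.SiegelGen
  Cfsg.Agent.TitsThree.WittFrame Cfsg.Agent.TitsThree.WBridge Cfsg.Agent.TitsThree.WittWeyl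
  Cfsg.Agent.TitsThree.FrameCN Cfsg.Agent.TitsThree.KSideU Cfsg.Agent.TitsThree.KSideUDesc

section General

variable {F : Type*} [Field F] {V : Type*} [AddCommGroup V] [Module F V] {H : HForm F V} {P : PQ H} {n : ℕ}

/-- A vector orthogonal to the frame lies in `V0`. -/
theorem mem_V0_of_orth (W : WFrame P n) {v : V} (he : ∀ i, H.h v (W.e i) = 0) (hf : ∀ i, H.h v (W.f i) = 0) :
    v ∈ W.V0 := by
  obtain ⟨a, b, w, hw, rfl⟩ := W.span v
  have hsum : ∀ (s : Finset (Fin n)) (g : Fin n → F) (u : Fin n → V) (y : V),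
      H.h (∑ i ∈ s, g i • u i) y = ∑ i ∈ s, g i * H.h (u i) y := by
    intro s g u y
    induction s using Finset.induction_on with
    | empty => simp [H.zero_left]
    | insert a s ha ih => rw [Finset.sum_insert ha, Finset.sum_insert ha, H.add_left, H.smul_left, ih]
  have ha : ∀ j, a j = 0 := by
    intro j
    have h1 := hf j
    rw [H.add_left, H.add_left, hsum, hsum, W.V0f w hw j, add_zero, Finset.sum_eq_single j,
      Finset.sum_eq_zero, W.ef, if_pos rfl, mul_one, add_zero] at h1
    · exact h1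
    · intro i _; rw [W.ff, mul_zero]
    · intro i _ hi; rw [W.ef, if_neg hi, mul_zero]
    · intro h; exact absurd (Finset.mem_univ _) h
  have hb : ∀ j, b j = 0 := by
    intro j
    have h1 := he j
    rw [H.add_left, H.add_left, hsum, hsum, W.V0e w hw j, add_zero, Finset.sum_eq_zero, zero_add,
      Finset.sum_eq_single j, W.fe, if_pos rfl] at h1
    · exact (mul_eq_zero.1 h1).resolve_right H.ε_ne
    · intro i _ hi; rw [W.fe, if_neg hi, mul_zero]
    · intro h; exact absurd (Finset.mem_univ _) h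
    · intro i _; rw [W.ee, mul_zero]
  have h1 : ∑ i, a i • W.e i = 0 := Finset.sum_eq_zero fun i _ => by rw [ha, zero_smul]
  have h2 : ∑ i, b i • W.f i = 0 := Finset.sum_eq_zero fun i _ => by rw [hb, zero_smul]
  rw [h1, h2, zero_add, zero_add]
  exact hw

/-- Ambient data of a spanning anisotropic Witt frame. -/
theorem amb_of (W : WFrame P n) (G0 : Subgroup (V ≃ₗ[F] V)) (iso : ∀ g ∈ G0, H.IsIso g)
    (ok : ∀ g ∈ G0, ∀ w c, P.ok w c → P.ok (g w) c) (hX : ∀ a b t, (toFrame W).X a b t ∈ G0)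
    (hZ : ∀ a p, (toFrame W).Z a p ∈ G0) (han : ∀ w ∈ W.V0, H.h w w = 0 → P.ok w 0) : Amb (toFrame W) G0 where
  iso := iso
  ok g hg w c h hw := ⟨hw, ok g hg w c h.2⟩
  X_mem := hX
  Z_mem := hZ
  V0 v h := mem_V0_of_orth W (fun i => h (i, true)) (fun i => h (i, false))
  aniso v hv h := W.aniso v hv (han v hv h)
  ok_aniso w h := W.aniso w h.1 h.2

end General

/-! ### Unitary groups -/

section Unitary

variable {F : Type*} [Field F] [Fintype F] {q N : ℕ} (hF : Fintype.card F = q ^ 2) {m : ℕ}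

theorem isIso_IU {g : (Fin N → F) ≃ₗ[F] (Fin N → F)} (hg : g ∈ IU F q N) : (HU hF N).IsIso g := by
  obtain ⟨k, rfl⟩ := hg
  intro v w
  exact herm_act k v w

theorem amb_U (W : WFrame (PU hF N) m) : Amb (toFrame W) (IU F q N) := by
  refine amb_of W _ (fun g hg => isIso_IU hF hg) ?_ (X_mem hF W) (Z_mem hF W) ?_
  · intro g hg w c h
    rw [ok_iff] at h ⊢
    rw [h]
    congr 1
    exact (isIso_IU hF hg w w).symm
  · intro w _ h
    rw [sing_iff]
    exact h

/-- The planes of the frame are coordinate planes. -/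
def Blocks (W : WFrame (PU hF N) m) : Prop :=
  ∀ (i : Fin m) (j : Fin N), (j : ℕ) ≠ 2 * i → (j : ℕ) ≠ 2 * i + 1 → W.e i j = 0 ∧ W.f i j = 0

theorem exists_wframe (hN : N = 2 * m ∨ N = 2 * m + 1) : ∃ W : WFrame (PU hF N) m, Blocks hF W := by
  classical
  have hN2 : 2 * m ≤ N := by omega
  obtain ⟨a, ha0, ha⟩ := exists_norm_eq_ne hF (c := (-1 : F))
    (by rw [neg_pow_q hF, one_pow]) (neg_ne_zero.2 one_ne_zero)
  obtain ⟨b, hb⟩ := exists_trace_eq hF (c := (-1 : F)) (by rw [neg_pow_q hF, one_pow])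
  let s0 : Fin m → Fin N → F := fun i => Pi.single (UFrame.i0 hN2 i) 1
  let s1 : Fin m → Fin N → F := fun i => Pi.single (UFrame.i1 hN2 i) 1
  have h00 : ∀ i j, hermForm N F q (s0 i) (s0 j) = if i = j then 1 else 0 := by
    intro i j
    rw [UFrame.herm_single_single hF]
    simp only [UFrame.i0_inj hN2]
  have h11 : ∀ i j, hermForm N F q (s1 i) (s1 j) = if i = j then 1 else 0 := by
    intro i j
    rw [UFrame.herm_single_single hF]
    simp only [UFrame.i1_inj hN2]
  have h01 : ∀ i j, hermForm N F q (s0 i) (s1 j) = 0 := by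
    intro i j
    rw [UFrame.herm_single_single hF, if_neg (UFrame.i0_ne_i1 hN2 i j)]
  have h10 : ∀ i j, hermForm N F q (s1 i) (s0 j) = 0 := by
    intro i j
    rw [UFrame.herm_single_single hF, if_neg (UFrame.i0_ne_i1 hN2 j i).symm]
  let e : Fin m → Fin N → F := fun i => s0 i + a • s1 i
  let f : Fin m → Fin N → F := fun i => s0 i + b • e i
  have hee : ∀ i j, hermForm N F q (e i) (e j) = 0 := by
    intro i j
    simp only [e, herm_add_left, herm_add_right hF, herm_smul_left, herm_smul_right, h00, h11,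
      h01, h10]
    split_ifs
    · linear_combination ha
    · ring
  have hes : ∀ i j, hermForm N F q (e i) (s0 j) = if i = j then 1 else 0 := by
    intro i j
    simp only [e, herm_add_left, herm_smul_left, h00, h10, mul_zero, add_zero]
  have hse : ∀ i j, hermForm N F q (s0 i) (e j) = if i = j then 1 else 0 := by
    intro i j
    simp only [e, herm_add_right hF, herm_smul_right, h00, h01, mul_zero, add_zero]
  have hef : ∀ i j, hermForm N F q (e i) (f j) = if i = j then 1 else 0 := by
    intro i j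
    simp only [f, herm_add_right hF, herm_smul_right, hes, hee, mul_zero, add_zero]
  have hfe : ∀ i j, hermForm N F q (f i) (e j) = if i = j then 1 else 0 := by
    intro i j
    simp only [f, herm_add_left, herm_smul_left, hse, hee, mul_zero, add_zero]
  have hff : ∀ i j, hermForm N F q (f i) (f j) = 0 := by
    intro i j
    simp only [f, herm_add_left, herm_add_right hF, herm_smul_left, herm_smul_right, h00, hes,
      hse, hee]
    split_ifs
    · linear_combination hb
    · ring
  -- `V0` = vectors supported on the coordinates `≥ 2m`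
  let V0 : Submodule F (Fin N → F) :=
    { carrier := {v | ∀ j : Fin N, (j : ℕ) < 2 * m → v j = 0}
      add_mem' := fun ha hb j hj => by rw [Pi.add_apply, ha j hj, hb j hj, add_zero]
      zero_mem' := fun _ _ => rfl
      smul_mem' := fun c v hv j hj => by rw [Pi.smul_apply, hv j hj, smul_zero] }
  have hVs0 : ∀ w ∈ V0, ∀ i, hermForm N F q w (s0 i) = 0 := by
    intro w hw i
    rw [herm_single_right hF, hw _ (by simp [UFrame.i0]), zero_mul]
  have hVs1 : ∀ w ∈ V0, ∀ i, hermForm N F q w (s1 i) = 0 := by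
    intro w hw i
    rw [herm_single_right hF, hw _ (by simp [UFrame.i1]; omega), zero_mul]
  have hVe : ∀ w ∈ V0, ∀ i, hermForm N F q w (e i) = 0 := by
    intro w hw i
    simp only [e, herm_add_right hF, herm_smul_right, hVs0 w hw, hVs1 w hw, mul_zero, add_zero]
  have hVf : ∀ w ∈ V0, ∀ i, hermForm N F q w (f i) = 0 := by
    intro w hw i
    simp only [f, herm_add_right hF, herm_smul_right, hVs0 w hw, hVe w hw, mul_zero, add_zero]
  refine ⟨⟨e, f, V0, hee, hff, hef, fun i j => by rw [HU_ε]; exact hfe i j,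
    fun i => (sing_iff hF).2 (hee i i), fun i => (sing_iff hF).2 (hff i i), hVe, hVf, ?_, ?_⟩, ?_⟩
  · intro w hw hs
    rw [sing_iff] at hs
    rcases hN with hN | hN
    · funext j
      exact hw j (by have := j.2; omega)
    · -- one dimensional
      have hw' : w = w ⟨2 * m, by omega⟩ • Pi.single ⟨2 * m, by omega⟩ (1 : F) := by
        funext j
        by_cases hj : (j : ℕ) < 2 * m
        · rw [hw j hj, Pi.smul_apply, Pi.single_eq_of_ne, smul_zero]
          simp [Fin.ext_iff]; omega
        · have hj2 : j = ⟨2 * m, by omega⟩ := Fin.ext (by have := j.2; simp; omega)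
          rw [hj2, Pi.smul_apply, Pi.single_eq_same, smul_eq_mul, mul_one]
      have h1 : hermForm N F q w w = w ⟨2 * m, by omega⟩ * (w ⟨2 * m, by omega⟩) ^ q := by
        conv_lhs => rw [hw']
        rw [herm_smul_left, herm_smul_right, UFrame.herm_single_single hF, if_pos rfl, mul_one]
      rw [h1, norm_eq_zero hF] at hs
      rw [hw', hs, zero_smul]
  · intro v
    refine ⟨fun i => v (UFrame.i1 hN2 i) * a⁻¹ - b * (v (UFrame.i0 hN2 i) - v (UFrame.i1 hN2 i) * a⁻¹),
      fun i => v (UFrame.i0 hN2 i) - v (UFrame.i1 hN2 i) * a⁻¹,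
      fun j => if (j : ℕ) < 2 * m then 0 else v j, fun j hj => if_pos hj, ?_⟩
    funext j
    have hs0 : ∀ (i : Fin m), s0 i j = if (j : ℕ) = 2 * i then 1 else 0 := by
      intro i
      simp only [s0, Pi.single_apply, UFrame.i0, Fin.ext_iff]
    have hs1 : ∀ (i : Fin m), s1 i j = if (j : ℕ) = 2 * i + 1 then 1 else 0 := by
      intro i
      simp only [s1, Pi.single_apply, UFrame.i1, Fin.ext_iff]
    simp only [Pi.add_apply, Finset.sum_apply, Pi.smul_apply, smul_eq_mul, e, f]
    by_cases hj : (j : ℕ) < 2 * m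
    · rw [if_pos hj, add_zero, ← Finset.sum_add_distrib, Finset.sum_eq_single ⟨(j : ℕ) / 2, by omega⟩]
      · rw [hs0, hs1]
        rcases Nat.even_or_odd' (j : ℕ) with ⟨k, hk | hk⟩
        · have h1 : (j : ℕ) / 2 = k := by omega
          have h2 : UFrame.i0 hN2 (⟨(j : ℕ) / 2, by omega⟩ : Fin m) = j := by
            simp only [UFrame.i0, Fin.ext_iff]; omega
          rw [if_pos (by simp; omega), if_neg (by simp; omega), h2]
          ring
        · have h2 : UFrame.i1 hN2 (⟨(j : ℕ) / 2, by omega⟩ : Fin m) = j := by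
            simp only [UFrame.i1, Fin.ext_iff]; omega
          rw [if_neg (by simp; omega), if_pos (by simp; omega), h2]
          field_simp
          ring
      · intro i _ hi
        have h1 : (i : ℕ) ≠ (j : ℕ) / 2 := fun h => hi (Fin.ext h)
        rw [hs0, hs1, if_neg (by omega), if_neg (by omega)]
        ring
      · intro h; exact absurd (Finset.mem_univ _) h
    · rw [if_neg hj, Finset.sum_eq_zero, Finset.sum_eq_zero]
      · ring
      · intro i _
        rw [hs0, hs1, if_neg (by omega), if_neg (by omega)]; ring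
      · intro i _
        rw [hs0, hs1, if_neg (by omega), if_neg (by omega)]; ring
  · intro i j h1 h2
    have hs0 : s0 i j = 0 := by
      simp only [s0, Pi.single_apply, UFrame.i0, Fin.ext_iff, if_neg h1]
    have hs1 : s1 i j = 0 := by
      simp only [s1, Pi.single_apply, UFrame.i1, Fin.ext_iff, if_neg h2]
    constructor
    · show s0 i j + a • s1 i j = 0
      rw [hs0, hs1]; simp
    · show s0 i j + b • (s0 i j + a • s1 i j) = 0
      rw [hs0, hs1]; simp

theorem exists_adm (W : WFrame (PU hF N) m) : ∃ p : (toFrame W).Adm, p.c ≠ 0 ∧ p.w = 0 := by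
  obtain ⟨c, hc, hc0⟩ := exists_ok_ne (N := N) hF
  exact ⟨⟨0, c, W.V0.zero_mem, hc⟩, hc0, rfl⟩

end Unitary

/-! ### Symplectic groups -/

section Symplectic

open SpIdent SpGen

variable {F : Type*} [Field F] {m : ℕ}

theorem amb_Sp : Amb (frame m F) (isos (form m F)) where
  iso g hg := hg
  ok g _ w c h _ := by
    rw [frame_ok] at h ⊢
    rw [h, map_zero]
  X_mem := (frame m F).isIso_X
  Z_mem := (frame m F).isIso_Z
  V0 v h := mem_V0_of_orth (wframe m F) (fun i => h (i, true)) (fun i => h (i, false))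
  aniso v hv _ := (Submodule.mem_bot F).1 hv
  ok_aniso w h := h

end Symplectic

section Main

/-- **`PSU N F q` has a root group datum** (this is `RGDChev.HasRGD p (PSU N F q)` unfolded). -/
theorem hasRGD_PSU {F : Type*} [Field F] [Fintype F] {q N : ℕ} (hF : Fintype.card F = q ^ 2) (hN : 3 ≤ N) {p : ℕ}
    [Fact p.Prime] [CharP F p] (hp2 : Odd p) :
    ∃ (l : ℕ) (M : CoxeterMatrix (Fin l)) (A : Fin l → Fin l → ℤ) (h : IsCartan M A) (T : Subgroup (PSU N F q))
      (n : Fin l → PSU N F q) (X : (Fin l → ℤ) → Subgroup (PSU N F q)), Finite M.Group ∧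
      RGD M.toCoxeterSystem h p T n X ∧ RGDLib.G1 M.toCoxeterSystem h X = ⊤ := by
  obtain ⟨m, hm⟩ : ∃ m, N = 2 * m ∨ N = 2 * m + 1 := ⟨N / 2, by omega⟩
  obtain ⟨W, -⟩ := exists_wframe hF hm
  obtain ⟨p0, hp0, -⟩ := exists_adm hF W
  exact ⟨m, CoxeterMatrix.B m, A m, isCartan m, _, _, _, finite_W (CoxeterMatrix.B m).toCoxeterSystem,
    WittModel.rgd (KInstU.model hF hN W) (amb_U hF W) hp2 hp0 _, WittModel.G1_eq_top _ (by omega) _⟩

/-- **`PSp m F` has a root group datum** (this is `RGDChev.HasRGD p (PSp m F)` unfolded). -/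
theorem hasRGD_PSp {F : Type*} [Field F] [Finite F] {m : ℕ} (hm : 1 ≤ m) {p : ℕ}
    [Fact p.Prime] [CharP F p] (hp2 : Odd p) :
    ∃ (l : ℕ) (M : CoxeterMatrix (Fin l)) (A : Fin l → Fin l → ℤ) (h : IsCartan M A) (T : Subgroup (PSp m F))
      (n : Fin l → PSp m F) (X : (Fin l → ℤ) → Subgroup (PSp m F)), Finite M.Group ∧
      RGD M.toCoxeterSystem h p T n X ∧ RGDLib.G1 M.toCoxeterSystem h X = ⊤ :=
  ⟨m, CoxeterMatrix.B m, A m, isCartan m, _, _, _, finite_W (CoxeterMatrix.B m).toCoxeterSystem,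
    WittModel.rgd (KInstSp.model m F) amb_Sp hp2 (p0 := SpIdent.adm 1) one_ne_zero _,
    WittModel.G1_eq_top _ (by omega) _⟩

end Main

end Cfsg.Agent.Nodes.WittU
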