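import Mathlib
import Cfsg.Agent.Nodes.Chart
import Cfsg.Agent.Nodes.NormalForm
import Cfsg.Agent.Nodes.FreeTorus
set_option linter.all false

/-!
Classical root groups from pairs of nodes (project CIT, output side of the type branches, piece (UP)).

* `TT_le` : in any root group datum `⟨X x, X (-x)⟩ ⊓ HH ≤ T`;
* `Node`, `Pair` : the statements of `Cls` for one simple root resp. for the plane of two simple roots;
* `cls_of_pairs` : root group datum + nodes + pairs ⟹ `Cls`.
-/

set_option autoImplicit false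
set_option linter.unusedSectionVars false

namespace Cfsg.Agent.Nodes.ClsOfPairs

open CoxeterSystem Cfsg.Agent.ChevalleyStructure.CoxeterGeom Cfsg.Agent.Tits.Roots Cfsg.Agent.Tits.Core
  Cfsg.Agent.Tits.RootComb Cfsg.Agent.Tits.Exchange Cfsg.Agent.Nodes.Comb Cfsg.Agent.Nodes.Reps
  Cfsg.Agent.Nodes.BNOf Cfsg.Agent.Nodes.RGDLib Cfsg.Agent.Nodes.Chart Cfsg.Agent.Nodes.StabComb
  Cfsg.Agent.Nodes.Bruhat Cfsg.Agent.Nodes.OppDec Cfsg.Agent.Nodes.LeviDec Cfsg.Agent.Nodes.NormalForm
  Cfsg.Agent.Nodes.FreeTorus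
open scoped commutatorElement

variable {I W Y : Type*} [Fintype I] [DecidableEq I] [Group W] [Group Y] {M : CoxeterMatrix I}
  {cs : CoxeterSystem M W} {A : I → I → ℤ} {h : IsCartan M A} {p : ℕ} {T : Subgroup Y} {n : I → Y}
  {X : (I → ℤ) → Subgroup Y}

/-! ### The torus contains all common normalisers -/

theorem HH_le_normalizer_Sup {S : Set (I → ℤ)} (hS : ∀ x ∈ S, IsRoot cs h x) :
    HH cs h X ≤ Subgroup.normalizer (RGD.Sup X S : Set Y) := by
  intro g hg
  rw [mem_normalizer_iff_cj, RGD.cj_Sup]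
  refine iSup_congr fun x => ?_
  have := mem_HH.1 hg x.1 (hS x.1 x.2)
  rwa [map_one, Module.End.one_apply] at this

/-- A common normaliser of the root groups inside the group generated by them lies in the torus. -/
theorem HH_inf_GG_le [Finite W] (R : RGD cs h p T n X) : HH cs h X ⊓ GG cs h T X ≤ T := by
  rintro g ⟨h1, h2⟩
  have hB : g ∈ RGD.B cs h T X := by
    rw [← normalizer_U R]
    exact ⟨HH_le_normalizer_Sup (fun x hx => hx.1) h1, h2⟩
  obtain ⟨t, ht, u, hu, rfl⟩ := R.mem_B.1 hB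
  -- `u` normalises `U⁻`
  have hu1 : u ∈ HH cs h X := by
    have h3 : t ∈ HH cs h X := by
      rw [mem_HH]
      intro x hx
      rw [map_one, Module.End.one_apply, R.tor x hx t ht]
    have h4 := mul_mem (inv_mem h3) h1
    rwa [inv_mul_cancel_left] at h4
  have hu2 : u ∈ BN cs h T X := by
    obtain ⟨k, hk⟩ := exists_rp cs R.nsys (w0 cs)
    have h5 : k⁻¹ * u * k ∈ Subgroup.normalizer (RGD.Sup X (RGD.Pos cs h) : Set Y) := by
      have h6 : u ∈ Subgroup.normalizer (UN cs h X : Set Y) :=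
        HH_le_normalizer_Sup (S := Neg cs h) (fun x hx => hx.1) hu1
      rw [mem_normalizer_iff_cj] at h6 ⊢
      have h7 := cj_UN R hk
      have h8 := cj_U R hk
      rw [cj_mul, cj_mul, h8, h6, ← h8, cj_inv_cj]
    have h6 : k⁻¹ * u * k ∈ GG cs h T X := by
      have hk' : k ∈ GG cs h T X := NN_le_GG R ⟨_, hk⟩
      exact mul_mem (mul_mem (inv_mem hk') (RGD.Sup_mono (fun x hx => hx.1) hu |> fun h9 => Subgroup.mem_sup_right h9))
        hk'
    have h7 : k⁻¹ * u * k ∈ RGD.B cs h T X := by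
      rw [← normalizer_U R]
      exact ⟨h5, h6⟩
    rw [← cj_B R hk]
    exact mem_cj.2 h7
  have h9 : t * u ∈ RGD.B cs h T X ⊓ BN cs h T X := ⟨hB, mul_mem (T_le_BN ht) hu2⟩
  rwa [B_inf_BN R] at h9

theorem LL_le_GG {x : I → ℤ} (hx : IsRoot cs h x) : LL X x ≤ GG cs h T X :=
  sup_le ((RGD.le_Sup (S := {x | IsRoot cs h x}) hx).trans le_sup_right)
    ((RGD.le_Sup (S := {x | IsRoot cs h x}) hx.neg).trans le_sup_right)

theorem TT_le [Finite W] (R : RGD cs h p T n X) {x : I → ℤ} (hx : IsRoot cs h x) : TT cs h X x ≤ T :=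
  le_trans (le_inf inf_le_right (inf_le_left.trans (LL_le_GG hx))) (HH_inf_GG_le R)

/-! ### Conjugation of the classical root groups -/

variable {R : Set (I → ℤ)} {Z : (I → ℤ) → Subgroup Y} {z : (I → ℤ) → Y}

variable (cs h T n R Z z) in
/-- The classical root groups and their involutions are permuted by the `n i` and fixed by the torus. -/
structure Equi : Prop where
  root : ∀ r ∈ R, IsRoot cs h r
  act : ∀ r ∈ R, ∀ w, rep cs h w r ∈ R
  conj : ∀ i, ∀ r ∈ R, cj (n i) (Z r) = Z (rep cs h (cs.simple i) r)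
  tor : ∀ r ∈ R, ∀ t ∈ T, cj t (Z r) = Z r
  z_conj : ∀ i, ∀ r ∈ R, n i * z r * (n i)⁻¹ = z (rep cs h (cs.simple i) r)
  z_T : ∀ r ∈ R, ∀ t ∈ T, z r * t = t * z r
  z_neg : ∀ r ∈ R, z (-r) = z r

namespace Equi

variable (E : Equi cs h T n R Z z)

include E

theorem neg {r : I → ℤ} (hr : r ∈ R) : -r ∈ R := by
  obtain ⟨w, i, rfl⟩ := E.root r hr
  have h1 := E.act _ hr (w * cs.simple i * w⁻¹)
  rw [rep_mul_apply, rep_mul_apply, rep_inv_apply, rep_simple_sr, map_neg] at h1
  exact h1

theorem conj_rp (hN : NSys M T n) {w : W} {g : Y} (hg : Rp cs hN w g) {r : I → ℤ} (hr : r ∈ R) :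
    cj g (Z r) = Z (rep cs h w r) ∧ g * z r * g⁻¹ = z (rep cs h w r) := by
  have key : ∀ ω : List I, ∀ r ∈ R, ∃ k, Rp cs hN (cs.wordProd ω) k ∧
      cj k (Z r) = Z (rep cs h (cs.wordProd ω) r) ∧ k * z r * k⁻¹ = z (rep cs h (cs.wordProd ω) r) := by
    intro ω
    induction ω with
    | nil =>
      intro r _
      exact ⟨1, by rw [wordProd_nil]; exact rp_one,
        by rw [wordProd_nil, cj_one, map_one, Module.End.one_apply],
        by rw [wordProd_nil, map_one, Module.End.one_apply]; group⟩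
    | cons i ω ih =>
      intro r hr
      obtain ⟨k, hk, e1, e2⟩ := ih r hr
      refine ⟨n i * k, ?_, ?_, ?_⟩
      · rw [wordProd_cons]; exact (rp_simple cs hN i).mul hk
      · rw [cj_mul, e1, E.conj i _ (E.act r hr _), ← rep_mul_apply, wordProd_cons]
      · have e3 : n i * k * z r * (n i * k)⁻¹ = n i * (k * z r * k⁻¹) * (n i)⁻¹ := by group
        rw [e3, e2, E.z_conj i _ (E.act r hr _), ← rep_mul_apply, wordProd_cons]
  obtain ⟨ω, rfl⟩ := cs.wordProd_surjective w
  obtain ⟨k, hk, e1, e2⟩ := key ω r hr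
  have ht := hk.unique hg
  have h1 : g = k * (k⁻¹ * g) := by group
  constructor
  · rw [h1, cj_mul, E.tor r hr _ ht, e1]
  · have h2 := E.z_T r hr _ ht
    have h3 : g * z r * g⁻¹ = k * ((k⁻¹ * g) * z r * (k⁻¹ * g)⁻¹) * k⁻¹ := by group
    rw [h3, ← h2, mul_inv_cancel_right, e2]

end Equi

/-! ### Nodes and pairs -/

variable (X R Z z) in
/-- The statements of `Cls` for the root `r`. -/
structure Node (p : ℕ) (r : I → ℤ) : Prop where
  le : Z r ≤ X r
  ne_bot : Z r ≠ ⊥
  cent : ∀ a ∈ X r, ∀ b ∈ Z r, a * b = b * a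
  notp : ¬ IsPGroup p ↥(Z r ⊔ Z (-r))
  z_mem : z r ∈ Z r ⊔ Z (-r)
  z_sq : z r * z r = 1
  z_cent : ∀ b ∈ Z r, z r * b = b * z r
  z_inv_self : ∀ a ∈ X r, z r * a * z r * a ∈ Z r

variable (cs h X Z z) in
/-- The statements of `Cls` for the roots `y`, `r`, `y ≠ ± r`. -/
structure Pair [Fintype W] (y r : I → ℤ) : Prop where
  cent : 0 ≤ form cs h y r → ∀ a ∈ X y, ∀ b ∈ Z r, a * b = b * a
  z_inv : form cs h y r ≠ 0 → ∀ a ∈ X y, z r * a * z r = a⁻¹

theorem mul_comm_conj {g a b : Y} (hab : a * b = b * a) : (g * a * g⁻¹) * (g * b * g⁻¹) = (g * b * g⁻¹) * (g * a * g⁻¹) := by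
  calc (g * a * g⁻¹) * (g * b * g⁻¹) = g * (a * b) * g⁻¹ := by group
    _ = g * (b * a) * g⁻¹ := by rw [hab]
    _ = _ := by group

theorem Node.transport (Rg : RGD cs h p T n X) (E : Equi cs h T n R Z z) {r : I → ℤ} (hr : r ∈ R)
    (N : Node X Z z p r) (w : W) : Node X Z z p (rep cs h w r) := by
  obtain ⟨g, hg⟩ := exists_rp cs Rg.nsys w
  obtain ⟨e1, e2⟩ := E.conj_rp Rg.nsys hg hr
  obtain ⟨e3, -⟩ := E.conj_rp Rg.nsys hg (E.neg hr)
  rw [map_neg] at e3
  have e4 := Rg.conj_rp hg (E.root r hr)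
  refine ⟨?_, ?_, ?_, ?_, ?_, ?_, ?_, ?_⟩
  · rw [← e1, ← e4]; exact cj_mono g N.le
  · rw [← e1]
    intro h0
    apply N.ne_bot
    rw [← cj_inv_cj g (Z r), h0]
    simp [cj]
  · rw [← e1, ← e4]
    intro a ha b hb
    have h1 := N.cent _ (mem_cj.1 ha) _ (mem_cj.1 hb)
    have h2 := mul_comm_conj (g := g) h1
    have ea : g * (g⁻¹ * a * g) * g⁻¹ = a := by group
    have eb : g * (g⁻¹ * b * g) * g⁻¹ = b := by group
    rwa [ea, eb] at h2
  · rw [← e1, ← e3, ← cj_sup]
    intro h0
    apply N.notp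
    have h1 := h0.map (MulAut.conj g⁻¹).toMonoidHom
    change IsPGroup p ↥(cj g⁻¹ (cj g (Z r ⊔ Z (-r)))) at h1
    rwa [cj_inv_cj] at h1
  · rw [← e1, ← e3, ← cj_sup, ← e2]
    exact conj_mem_cj.2 N.z_mem
  · rw [← e2]
    have h1 := N.z_sq
    calc (g * z r * g⁻¹) * (g * z r * g⁻¹) = g * (z r * z r) * g⁻¹ := by group
      _ = 1 := by rw [h1]; group
  · rw [← e1, ← e2]
    intro b hb
    have h1 := N.z_cent _ (mem_cj.1 hb)
    have h2 := mul_comm_conj (g := g) h1
    have eb : g * (g⁻¹ * b * g) * g⁻¹ = b := by group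
    rwa [eb] at h2
  · rw [← e1, ← e2, ← e4]
    intro a ha
    rw [mem_cj]
    have h1 := N.z_inv_self _ (mem_cj.1 ha)
    have e : g⁻¹ * (g * z r * g⁻¹ * a * (g * z r * g⁻¹) * a) * g = z r * (g⁻¹ * a * g) * z r * (g⁻¹ * a * g) := by
      group
    rwa [e]

theorem Pair.transport [Fintype W] (Rg : RGD cs h p T n X) (E : Equi cs h T n R Z z) {y r : I → ℤ} (hr : r ∈ R)
    (hy : IsRoot cs h y) (w : W) (P : Pair cs h X Z z (rep cs h w y) (rep cs h w r)) : Pair cs h X Z z y r := by
  obtain ⟨g, hg⟩ := exists_rp cs Rg.nsys w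
  obtain ⟨e1, e2⟩ := E.conj_rp Rg.nsys hg hr
  have e4 := Rg.conj_rp hg hy
  constructor
  · intro h0 a ha b hb
    have h1 := P.cent (by rw [form_rep]; exact h0) (g * a * g⁻¹) (by rw [← e4]; exact conj_mem_cj.2 ha)
      (g * b * g⁻¹) (by rw [← e1]; exact conj_mem_cj.2 hb)
    have h2 := mul_comm_conj (g := g⁻¹) h1
    have ea : g⁻¹ * (g * a * g⁻¹) * g⁻¹⁻¹ = a := by group
    have eb : g⁻¹ * (g * b * g⁻¹) * g⁻¹⁻¹ = b := by group
    rwa [ea, eb] at h2
  · intro h0 a ha
    have h1 := P.z_inv (by rw [form_rep]; exact h0) (g * a * g⁻¹) (by rw [← e4]; exact conj_mem_cj.2 ha)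
    rw [← e2] at h1
    calc z r * a * z r = g⁻¹ * (g * z r * g⁻¹ * (g * a * g⁻¹) * (g * z r * g⁻¹)) * g := by group
      _ = g⁻¹ * (g * a * g⁻¹)⁻¹ * g := by rw [h1]
      _ = a⁻¹ := by group

/-- **Nodes and pairs ⟹ classical root groups.**  The pair statements are only needed in the planes of two simple
roots, the node statements only for the simple roots in `R`. -/
theorem cls_of_pairs [Fintype W] (Rg : RGD cs h p T n X) (E : Equi cs h T n R Z z)
    (node : ∀ i, sr i ∈ R → Node X Z z p (sr i))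
    (pair : ∀ i j, i ≠ j → ∀ r ∈ R, Supp i j r → ∀ y, IsRoot cs h y → Supp i j y → y ≠ r → y ≠ -r →
      Pair cs h X Z z y r) :
    Cls cs h p T n X R Z z := by
  have hnode : ∀ r ∈ R, Node X Z z p r := by
    intro r hr
    obtain ⟨w, i, rfl⟩ := E.root r hr
    have h1 : sr i ∈ R := by
      have := E.act _ hr w⁻¹
      rwa [rep_inv_apply] at this
    exact (node i h1).transport Rg E h1 w
  have hpair : ∀ r ∈ R, ∀ y, IsRoot cs h y → y ≠ r → y ≠ -r → Pair cs h X Z z y r := by
    intro r hr y hy h1 h2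
    obtain ⟨w, i, j, hij, hs1, hs2⟩ := exists_plane cs h hy (E.root r hr) h1 h2
    refine Pair.transport Rg E hr hy w (pair i j hij _ (E.act r hr w) hs2 _ (hy.act w) hs1 ?_ ?_)
    · exact fun h3 => h1 (rep_injective_apply cs h w h3)
    · exact fun h3 => h2 (rep_injective_apply cs h w (by rw [h3, map_neg]))
  have hpos : ∀ r ∈ R, 0 < form cs h r r := fun r hr => form_pos cs h (E.root r hr).ne_zero
  have hle : ∀ r ∈ R, Z r ⊔ Z (-r) ≤ LL X r := fun r hr =>
    sup_le_sup (hnode r hr).le (hnode _ (E.neg hr)).le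
  -- `z r` normalises all root groups
  have hHH : ∀ r ∈ R, z r ∈ HH cs h X := by
    intro r hr
    have hsq := (hnode r hr).z_sq
    have hinv : (z r)⁻¹ = z r := inv_eq_of_mul_eq_one_left hsq
    -- it suffices to have an inclusion
    have hsuff : ∀ y, (∀ a ∈ X y, z r * a * z r ∈ X y) → cj (z r) (X y) = X y := by
      intro y hy
      ext a
      rw [mem_cj, hinv]
      constructor
      · intro ha
        have h1 := hy _ ha
        have e : z r * (z r * a * z r) * z r = (z r * z r) * a * (z r * z r) := by group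
        rwa [e, hsq, one_mul, mul_one] at h1
      · exact hy a
    have hself : ∀ s ∈ R, ∀ a ∈ X s, z s * a * z s ∈ X s := by
      intro s hs a ha
      have h1 := (hnode s hs).le ((hnode s hs).z_inv_self a ha)
      have h2 := mul_mem h1 (inv_mem ha)
      rwa [mul_inv_cancel_right] at h2
    rw [mem_HH]
    intro y hy
    rw [map_one, Module.End.one_apply]
    apply hsuff
    intro a ha
    by_cases h1 : y = r
    · subst h1; exact hself _ hr a ha
    by_cases h2 : y = -r
    · subst h2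
      have := hself _ (E.neg hr) a ha
      rwa [E.z_neg r hr] at this
    have P := hpair r hr y hy h1 h2
    by_cases h3 : form cs h y r = 0
    · have P' := hpair (-r) (E.neg hr) y hy h2 (by rwa [neg_neg])
      have h4 : X y ≤ Subgroup.centralizer ((Z r ⊔ Z (-r) : Subgroup Y) : Set Y) := by
        intro a ha
        rw [Subgroup.mem_centralizer_iff]
        intro b hb
        have h5 : Z r ⊔ Z (-r) ≤ Subgroup.centralizer {a} := by
          refine sup_le (fun c hc => ?_) (fun c hc => ?_)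
          · rw [Subgroup.mem_centralizer_singleton_iff]
            exact (P.cent h3.ge a ha c hc).symm
          · rw [Subgroup.mem_centralizer_singleton_iff]
            exact (P'.cent (by rw [form_neg_right, h3, neg_zero]) a ha c hc).symm
        have h6 := h5 hb
        rw [Subgroup.mem_centralizer_singleton_iff] at h6
        exact h6
      have h5 := Subgroup.mem_centralizer_iff.1 (h4 ha) (z r) (hnode r hr).z_mem
      rw [h5, mul_assoc, hsq, mul_one]
      exact ha
    · rw [P.z_inv h3 a ha]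
      exact inv_mem ha
  exact
    { rgd := Rg
      root := E.root
      act := E.act
      le := fun r hr => (hnode r hr).le
      ne_bot := fun r hr => (hnode r hr).ne_bot
      conj := E.conj
      tor := E.tor
      cent := by
        intro r hr y hy h0 a ha b hb
        by_cases h1 : y = r
        · subst h1; exact (hnode _ hr).cent a ha b hb
        by_cases h2 : y = -r
        · exfalso
          rw [h2, form_neg_left] at h0
          have := hpos r hr
          omega
        exact (hpair r hr y hy h1 h2).cent h0 a ha b hb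
      notp := fun r hr => (hnode r hr).notp
      z_mem := fun r hr => (hnode r hr).z_mem
      z_torus := fun r hr => TT_le Rg (E.root r hr) ⟨hle r hr (hnode r hr).z_mem, hHH r hr⟩
      z_T := E.z_T
      z_sq := fun r hr => (hnode r hr).z_sq
      z_conj := E.z_conj
      z_neg := E.z_neg
      z_cent := fun r hr => (hnode r hr).z_cent
      z_inv := fun r hr y hy h1 h2 h3 => (hpair r hr y hy h1 h2).z_inv h3
      z_inv_self := fun r hr => (hnode r hr).z_inv_self }

end Cfsg.Agent.Nodes.ClsOfPairs
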