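import Cfsg.Agent.Nodes.RGDClass
import Cfsg.Agent.Nodes.RGDChev
import Cfsg.Agent.Nodes.RGDTwAll
set_option linter.all false

/-!
Every group of Lie type of characteristic `p`, other than the Suzuki and Ree groups, has a root group datum of
characteristic `p` (`hasRGD_of_lie`).
-/

set_option autoImplicit false

namespace Cfsg.Agent.Nodes.RGDLie

open Cfsg Cfsg.Agent.Nodes.RGDChev

theorem hasRGD_of_lie {p : ℕ} {G : Type*} [Group G] (hG : IsLieTypeChar p G) :
    HasRGD p G ∨ (p = 2 ∧ Lie.IsoSuzuki G) ∨ (p = 2 ∧ Lie.Iso2F4 G) ∨ (p = 3 ∧ Lie.IsoRee G) := by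
  rcases hG with h | h | h | h | h | h | h | h | h | h | h
  · exact Or.inl (RGDClass.hasRGD_of_PSL h)
  · exact Or.inl (RGDClass.hasRGD_of_PSp h)
  · exact Or.inl (RGDClass.hasRGD_of_PSU h)
  · exact Or.inl (RGDClass.hasRGD_of_POmegaOdd h)
  · exact Or.inl (RGDClass.hasRGD_of_POmegaPlus h)
  · exact Or.inl (RGDClass.hasRGD_of_POmegaMinus h)
  · exact Or.inl (hasRGD_of_exceptional h)
  · exact Or.inl (RGDTwAll.hasRGD_of_twisted h)
  · exact Or.inr (Or.inl h)
  · exact Or.inr (Or.inr (Or.inl h))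
  · exact Or.inr (Or.inr (Or.inr h))

end Cfsg.Agent.Nodes.RGDLie
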