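import Mathlib
import Cfsg.Agent.Nodes.ClsWitt
import Cfsg.Agent.Nodes.WittU
import Cfsg.Agent.Nodes.RGDTypeA
import Cfsg.Agent.Prune
set_option linter.all false
prune_inst 0x7f00000000000000000000000000000000000000000000000000000000000000000000000000000000000000000000000000000000000000000000000000000000000000000000000000000000000000003fffffffffffffffffffffffffffbeffbdffffffff
open scoped Cfsg.Agent.FastGrp

/-!
The charts of type `C_n` (project CIT, charts): `PSp_{2n}(F)`, `PSU_{2n}`, `PSU_{2n+1}` and all groups modelled on a Witt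
frame.

* `irr` : type `C_n` is irreducible, `trans` : the classical roots `LR n` are conjugate;
* `KC M a` : the classical subgroup `⟨Z a (0,c), Z (-a) (0,c)⟩` of the model;
* `chartC` : the chart of `⊤ : Subgroup G` for `f : K →* G` surjective with central kernel, `K` a model;
* `chartSp`, `chartU` : `K = PSp n F`, `PSU N F q`.
-/

set_option autoImplicit false
set_option linter.unusedSectionVars false

namespace Cfsg.Agent.Nodes.ChartTypeC

open CoxeterSystem Cfsg.Agent.ChevalleyStructure.CoxeterGeom Cfsg.Agent.Tits.Roots Cfsg.Agent.Nodes.TypeC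
open Cfsg.Agent.Nodes.Comb Cfsg.Agent.Nodes.Reps Cfsg.Agent.Nodes.WittRoot Cfsg.Agent.Nodes.BNOf
open Cfsg.Agent.Nodes.WittRGD Cfsg.Agent.Nodes.RGDLib Cfsg.Agent.Nodes.TypeCForm Cfsg.Agent.Nodes.Chart
open Cfsg.Agent.TitsThree Cfsg.Agent.TitsThree.Siegel Cfsg.Agent.TitsThree.WittFrame
  Cfsg.Agent.TitsThree.WittWeyl Cfsg.Agent.TitsThree.FrameCN
open Cfsg.Agent.Nodes.ClsMap Cfsg.Agent.Nodes.ClsWitt

/-! ### The classical roots -/

section Roots

variable {n : ℕ} {W : Type*} [Group W] (cs : CoxeterSystem (CoxeterMatrix.B n) W)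

/-- Every classical root is conjugate to the simple one. -/
theorem exists_last (hn : 0 < n) (a : Fin n × Bool) : ∃ w : W, ∀ x, ee x = wt a + wt a →
    ee (rep cs (isCartan n) w x) =
      wt ((⟨n - 1, by omega⟩ : Fin n), true) + wt ((⟨n - 1, by omega⟩ : Fin n), true) := by
  have key : ∀ (d : ℕ) (a : Fin n × Bool), (a.1 : ℕ) + d + 1 = n → ∃ w : W, ∀ x, ee x = wt a + wt a →
      ee (rep cs (isCartan n) w x) =
        wt ((⟨n - 1, by omega⟩ : Fin n), true) + wt ((⟨n - 1, by omega⟩ : Fin n), true) := by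
    intro d
    induction d with
    | zero =>
      rintro ⟨i, s⟩ hi
      simp only at hi
      have hi' : (⟨n - 1, by omega⟩ : Fin n) = i := Fin.ext (by simp only; omega)
      rw [hi']
      cases s
      · refine ⟨cs.simple i, fun x e => ?_⟩
        rw [rep_simple, ee_refl_of e, sg_last (by omega)]
        rfl
      · exact ⟨1, fun x e => by rw [map_one, Module.End.one_apply]; exact e⟩
    | succ d ih =>
      rintro ⟨i, s⟩ hi
      simp only at hi
      have hi' : (i : ℕ) + 1 < n := by omega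
      obtain ⟨w, hw⟩ := ih (⟨(i : ℕ) + 1, hi'⟩, s) (by simp only; omega)
      refine ⟨w * cs.simple i, fun x e => ?_⟩
      rw [rep_mul_apply]
      apply hw
      rw [rep_simple, ee_refl_of e, sg_up hi']
  exact key (n - a.1 - 1) a (by have := a.1.2; omega)

theorem trans {r s : Fin n → ℤ} (hr : r ∈ LR n) (hs : s ∈ LR n) : ∃ w : W, s = rep cs (isCartan n) w r := by
  obtain ⟨a, ea⟩ := hr
  obtain ⟨b, eb⟩ := hs
  have hn : 0 < n := by have := a.1.2; omega
  obtain ⟨w, hw⟩ := exists_last cs hn a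
  obtain ⟨v, hv⟩ := exists_last cs hn b
  refine ⟨v⁻¹ * w, ?_⟩
  have h1 : rep cs (isCartan n) w r = rep cs (isCartan n) v s := ee_injective ((hw r ea).trans (hv s eb).symm)
  rw [rep_mul_apply, h1, rep_inv_apply]

/-- Type `C_n` is irreducible. -/
theorem irr (J : Set (Fin n)) (hJ : J.Nonempty) (hJ' : J ≠ Set.univ) :
    ∃ a ∈ J, ∃ b, b ∉ J ∧ CoxeterMatrix.B n a b ≠ 2 := by
  by_contra hcon
  push Not at hcon
  have hadj : ∀ i j : Fin n, (i.val + 1 = j.val ∨ j.val + 1 = i.val) → i ∈ J → j ∈ J := by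
    intro i j hij hi
    by_contra hj
    have h1 := hcon i hi j hj
    have hne : i ≠ j := fun e => by rw [e] at hij; omega
    have h2 : CoxeterMatrix.B n i j = if (i : ℕ) = n - 1 ∧ (j : ℕ) = n - 2 ∨ (j : ℕ) = n - 1 ∧ (i : ℕ) = n - 2
        then 4 else (if (j : ℕ) + 1 = i ∨ (i : ℕ) + 1 = j then 3 else 2) := by
      show (if i = j then 1 else _) = _
      rw [if_neg hne]
    rw [h2] at h1
    split_ifs at h1 <;> omega
  obtain ⟨i, hi⟩ := hJ
  apply hJ'
  rw [Set.eq_univ_iff_forall]
  have hup : ∀ (k : ℕ) (j : Fin n), i.val + k = j.val → j ∈ J := by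
    intro k
    induction k with
    | zero =>
      intro j hj
      have : j = i := Fin.ext (by omega)
      rw [this]; exact hi
    | succ k ih =>
      intro j hj
      have hj2 := j.2
      exact hadj ⟨j.val - 1, by omega⟩ j (by simp only; omega) (ih _ (by simp only; omega))
  have hdn : ∀ (k : ℕ) (j : Fin n), j.val + k = i.val → j ∈ J := by
    intro k
    induction k with
    | zero =>
      intro j hj
      have : j = i := Fin.ext (by omega)
      rw [this]; exact hi
    | succ k ih =>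
      intro j hj
      have hi2 := i.2
      have hb : j.val + 1 < n := by omega
      exact hadj ⟨j.val + 1, hb⟩ j (Or.inr rfl) (ih ⟨j.val + 1, hb⟩ (by simp only; omega))
  intro j
  rcases Nat.le_total i.val j.val with hle | hle
  · exact hup (j.val - i.val) j (by omega)
  · exact hdn (i.val - j.val) j (by omega)

end Roots

/-- In a `Cls` the Weyl group acts on the classical root groups by conjugations in the group. -/
theorem exists_cj_Z {I W Y : Type*} [Fintype I] [DecidableEq I] [Group W] [Fintype W] [Group Y] {M : CoxeterMatrix I}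
    {cs : CoxeterSystem M W} {A : I → I → ℤ} {h : IsCartan M A} {p : ℕ} {T : Subgroup Y} {n : I → Y}
    {X : (I → ℤ) → Subgroup Y} {R : Set (I → ℤ)} {Z : (I → ℤ) → Subgroup Y} {z : (I → ℤ) → Y}
    (C : Cls cs h p T n X R Z z) (w : W) : ∃ g : Y, ∀ r ∈ R, cj g (Z r) = Z (rep cs h w r) := by
  induction w using cs.simple_induction_left with
  | one => exact ⟨1, fun r _ => by rw [map_one, Module.End.one_apply, cj_one]⟩
  | mul_simple_left w i ih =>
    obtain ⟨g, hg⟩ := ih
    refine ⟨n i * g, fun r hr => ?_⟩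
    rw [cj_mul, hg r hr, C.conj i _ (C.act r hr w), rep_mul_apply]

section Model

variable {F : Type*} [Field F] {V : Type*} [AddCommGroup V] [Module F V] {H : HForm F V} {n : ℕ}
  {Fr : Frame H (Fin n)} {K : Type*} [Group K] (M : Model Fr K) (hA : Amb Fr M.I)

/-- The classical subgroup `⟨Z a (0,c), Z (-a) (0,c)⟩` of a model. -/
def KC (a : Fin n × Bool) : Subgroup K := ((ZL Fr a ⊔ ZL Fr (ng a)).subgroupOf M.I).map M.φ

theorem ZL_le_I (hA : Amb Fr M.I) (a : Fin n × Bool) : ZL Fr a ≤ M.I := by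
  rintro _ ⟨q, -, rfl⟩
  exact hA.Z_mem a q

include hA in
theorem ZM_sup {x : Fin n → ℤ} {a : Fin n × Bool} (e : ee x = wt a + wt a) : ZM M x ⊔ ZM M (-x) = KC M a := by
  have e' : ee (-x) = wt (ng a) + wt (ng a) := by rw [ee_neg, e, wt_ng]; abel
  unfold ZM KC
  rw [ZV_eq Fr e, ZV_eq Fr e', ← Subgroup.map_sup, ← Subgroup.subgroupOf_sup (ZL_le_I M hA _) (ZL_le_I M hA _)]

noncomputable instance fintypeW (n : ℕ) : Fintype (CoxeterMatrix.B n).Group :=
  haveI : Finite (CoxeterMatrix.B n).Group := finite_W (CoxeterMatrix.B n).toCoxeterSystem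
  Fintype.ofFinite _

include hA in
/-- All classical subgroups of a model are conjugate. -/
theorem exists_cj_KC [Finite V] {p0 : Fr.Adm} (hp0 : p0.c ≠ 0) (hw0 : p0.w = 0) {p : ℕ} [Fact p.Prime] [CharP F p]
    (hp2 : Odd p) (a b : Fin n × Bool) : ∃ g : K, cj g (KC M a) = KC M b := by
  have C := cls_model M hA hp0 hw0 hp2 (CoxeterMatrix.B n).toCoxeterSystem
  obtain ⟨x, ex⟩ := exists_long (CoxeterMatrix.B n).toCoxeterSystem a
  obtain ⟨y, ey⟩ := exists_long (CoxeterMatrix.B n).toCoxeterSystem b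
  obtain ⟨w, hw⟩ := trans (CoxeterMatrix.B n).toCoxeterSystem (r := x) (s := y) ⟨a, ex⟩ ⟨b, ey⟩
  obtain ⟨g, hg⟩ := exists_cj_Z C w
  refine ⟨g, ?_⟩
  rw [← ZM_sup M hA ex, ← ZM_sup M hA ey, cj_sup, hg x ⟨a, ex⟩, hg (-x) (neg_mem C ⟨a, ex⟩), map_neg, ← hw]

/-- **The chart** of a group `G` which is the image of a model of type `C_n` under a homomorphism with central kernel:
the classical subgroups are the conjugates of the image of `KC a`. -/
noncomputable def chartC [Finite K] [Finite V] {p0 : Fr.Adm} (hp0 : p0.c ≠ 0) (hw0 : p0.w = 0) {p : ℕ}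
    [hp : Fact p.Prime] [CharP F p] (h2 : p ≠ 2) (hn : 0 < n) {G : Type*} [Group G] (f : K →* G)
    (hs : Function.Surjective f) (hf : f.ker ≤ Subgroup.center K) (Om : Set (Subgroup G))
    (hcj : ∀ K ∈ Om, ∀ g, cj g K ∈ Om) (a : Fin n × Bool) (hJ : (KC M a).map f ∈ Om)
    (hOm : ∀ K ∈ Om, ∃ g, K = cj g ((KC M a).map f)) : Chart Om p (⊤ : Subgroup G) :=
  { prime := hp.out
    odd := h2
    I := Fin n
    W := (CoxeterMatrix.B n).Group
    M := CoxeterMatrix.B n
    cs := (CoxeterMatrix.B n).toCoxeterSystem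
    A := TypeC.A n
    h := isCartan n
    T := (WittModel.T M).map f
    n := fun i => f (WittModel.nw M hA p0 i)
    X := fun x => (WittModel.X M x).map f
    R := LR n
    Z := fun x => (ZM M x).map f
    z := fun x => f (zM M hA p0 x)
    cls := cls_map_of_ker_le_center (cls_model M hA hp0 hw0 (hp.out.odd_of_ne_two h2) _) f hf
    irr := irr
    ne := ⟨⟨0, hn⟩⟩
    T_le := le_top
    gen := by rw [RGDTypeA.G1_map, WittModel.G1_eq_top M hn, Subgroup.map_top_of_surjective _ hs]
    trans := fun r hr s hs => trans _ hr hs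
    Rne := by
      obtain ⟨x, ex⟩ := exists_long (CoxeterMatrix.B n).toCoxeterSystem a
      exact ⟨x, a, ex⟩
    om := by
      rintro r ⟨b, eb⟩
      rw [← Subgroup.map_sup, ZM_sup M hA eb]
      obtain ⟨g, hg⟩ := exists_cj_KC M hA hp0 hw0 (hp.out.odd_of_ne_two h2) a b
      rw [← hg, ← cj_map]
      exact hcj _ hJ _
    om_conj := by
      intro K hK _
      obtain ⟨g, hg⟩ := hOm K hK
      obtain ⟨x, ex⟩ := exists_long (CoxeterMatrix.B n).toCoxeterSystem a
      refine ⟨x, ⟨a, ex⟩, g, Subgroup.mem_top _, ?_⟩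
      rw [← Subgroup.map_sup, ZM_sup M hA ex]
      exact hg }

end Model

/-! ### Instances -/

section Instances

open Cfsg.Agent.TitsThree.SiegelGen Cfsg.Agent.TitsThree.WBridge Cfsg.Agent.TitsThree.KSideU
  Cfsg.Agent.TitsThree.KSideUDesc

/-- The chart of the quotients of `PSU N F q` by central subgroups (`W` : a spanning Witt frame with anisotropic
kernel, `WittU.exists_wframe`). -/
noncomputable def chartU {F : Type*} [Field F] [Fintype F] {q N m : ℕ} (hF : Fintype.card F = q ^ 2)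
    (hN : 3 ≤ N) (hm : 0 < m) (W : WFrame (PU hF N) m) {p : ℕ} [hp : Fact p.Prime] [CharP F p]
    (h2 : p ≠ 2) {G : Type*} [Group G] (f : PSU N F q →* G) (hs : Function.Surjective f)
    (hf : f.ker ≤ Subgroup.center (PSU N F q)) (Om : Set (Subgroup G)) (hcj : ∀ K ∈ Om, ∀ g, cj g K ∈ Om)
    (a : Fin m × Bool) (hJ : (KC (KInstU.model hF hN W) a).map f ∈ Om)
    (hOm : ∀ K ∈ Om, ∃ g, K = cj g ((KC (KInstU.model hF hN W) a).map f)) : Chart Om p (⊤ : Subgroup G) :=
  chartC (KInstU.model hF hN W) (WittU.amb_U hF W) (WittU.exists_adm hF W).choose_spec.1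
    (WittU.exists_adm hF W).choose_spec.2 h2 hm f hs hf Om hcj a hJ hOm

/-- The chart of the quotients of `PSp m F` by central subgroups. -/
noncomputable def chartSp {F : Type*} [Field F] [Finite F] {m : ℕ} (hm : 0 < m) {p : ℕ} [hp : Fact p.Prime]
    [CharP F p] (h2 : p ≠ 2) {G : Type*} [Group G] (f : PSp m F →* G) (hs : Function.Surjective f)
    (hf : f.ker ≤ Subgroup.center (PSp m F)) (Om : Set (Subgroup G)) (hcj : ∀ K ∈ Om, ∀ g, cj g K ∈ Om)
    (a : Fin m × Bool) (hJ : (KC (KInstSp.model m F) a).map f ∈ Om)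
    (hOm : ∀ K ∈ Om, ∃ g, K = cj g ((KC (KInstSp.model m F) a).map f)) : Chart Om p (⊤ : Subgroup G) :=
  chartC (KInstSp.model m F) WittU.amb_Sp (p0 := SpIdent.adm 1) one_ne_zero rfl h2 hm f hs hf Om hcj a hJ hOm

end Instances

end Cfsg.Agent.Nodes.ChartTypeC
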